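import Cfsg.Agent.H15.UB1
import Cfsg.Agent.H15.IC.HS

/-! Generated by tools/h15/ub/gk.py (kit tools/h0/tr). -/

set_option maxRecDepth 100000
set_option maxHeartbeats 0

namespace H15.UB.HS
open H16 H0.TR
open H15.QS H15.UB
open scoped commutatorElement Pointwise

noncomputable def cuth_W : List (List ℕ) := [[nat_lit 3, nat_lit 1, nat_lit 3],
  [nat_lit 0, nat_lit 3, nat_lit 0, nat_lit 4],
  [nat_lit 1, nat_lit 0, nat_lit 2, nat_lit 3, nat_lit 0, nat_lit 2, nat_lit 1, nat_lit 3, nat_lit 5, nat_lit 2, nat_lit 1, nat_lit 0, nat_lit 5, nat_lit 3, nat_lit 4],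
  [nat_lit 5, nat_lit 1, nat_lit 2, nat_lit 1, nat_lit 3, nat_lit 0, nat_lit 2, nat_lit 1, nat_lit 5, nat_lit 2, nat_lit 5, nat_lit 2],
  [nat_lit 1, nat_lit 0, nat_lit 1, nat_lit 2, nat_lit 3, nat_lit 1, nat_lit 0, nat_lit 2, nat_lit 4, nat_lit 2, nat_lit 0, nat_lit 1, nat_lit 2, nat_lit 0, nat_lit 4],
  [nat_lit 1],
  [nat_lit 0],
  [nat_lit 2],
  [nat_lit 3],
  [nat_lit 4],
  [nat_lit 5],
  [nat_lit 2, nat_lit 3, nat_lit 1, nat_lit 0, nat_lit 1, nat_lit 2, nat_lit 0, nat_lit 1, nat_lit 4, nat_lit 2, nat_lit 0, nat_lit 1, nat_lit 2, nat_lit 0, nat_lit 5, nat_lit 0]]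
noncomputable def cuth_P : ℕ → ℕ → ℕ := wdsP H15.HS.P cuth_W
noncomputable def cutl0Dd : ℕ := nat_lit 0x93312cb53e55ccdfdfe2fc5eab751929a502a51230cf3ec190ef1d245c9151489f42a5c8ad0583fc70cfc9f22e27390819f0ac794e69b13545ecd2828064750b71562a24fc2583f1f4540939032323ac080f61a631c750af1463f0460a91443c05687f0e803c3905d0a21701c8430c01382a8420b20d8208310a80941102103c04c0c81d03001c03000
noncomputable def cutl0D (u : ℕ) : ℕ := Nat.land (Nat.shiftRight cutl0Dd (Nat.mul u (nat_lit 11))) (nat_lit 2047)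
noncomputable def cutl0Pd : ℕ := nat_lit 0x9d7afe1a56a9dcc41b1e08976b42a9143cf2141cc04966c1b472ca0f7846434ae166b72cb01baaa9cd15027005ba285b334ae103b60d60be526072d167532b7b24f22985c6ca8c11fa804bccae863093110c899f8ea8509
noncomputable def cutl0P (u : ℕ) : ℕ := Nat.land (Nat.shiftRight cutl0Pd (Nat.mul u (nat_lit 7))) (nat_lit 127)
noncomputable def cutl0Qd : ℕ := nat_lit 0xb36f058c38ab5c617a5497f55bd3bb7d7cea18de978c50d41064e95717512cc2290dc350e26aa78b534058184271c3103a38091906c755cb8e617290864f3290d46a22ceda450a2614f8884a8a3e04007a369f12723d9b1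
noncomputable def cutl0Q (u : ℕ) : ℕ := Nat.land (Nat.shiftRight cutl0Qd (Nat.mul u (nat_lit 7))) (nat_lit 127)
noncomputable def cutl0 : H16.Lev := ⟨100, 12, cutl0D, cutl0P, cutl0Q⟩
noncomputable def cutl1Dd : ℕ := nat_lit 0x32ae73659d43885eb14ac0f96327880e221c280
noncomputable def cutl1D (u : ℕ) : ℕ := Nat.land (Nat.shiftRight cutl1Dd (Nat.mul u (nat_lit 7))) (nat_lit 127)
noncomputable def cutl1Pd : ℕ := nat_lit 0x1253a32eb33b32220534d1da39c9d85e781a6b5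
noncomputable def cutl1P (u : ℕ) : ℕ := Nat.land (Nat.shiftRight cutl1Pd (Nat.mul u (nat_lit 7))) (nat_lit 127)
noncomputable def cutl1Qd : ℕ := nat_lit 0x1000001e004400a026001c209000e0000d0000000003480000000a80005000000000030015400000000002c00000000000000000000000098000000
noncomputable def cutl1Q (u : ℕ) : ℕ := Nat.land (Nat.shiftRight cutl1Qd (Nat.mul u (nat_lit 5))) (nat_lit 31)
noncomputable def cutl1 : H16.Lev := ⟨22, 6, cutl1D, cutl1P, cutl1Q⟩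
noncomputable def cutl2Dd : ℕ := nat_lit 0x5d4a85eae2cc94173e38f0c1a1c40b0c14200
noncomputable def cutl2D (u : ℕ) : ℕ := Nat.land (Nat.shiftRight cutl2Dd (Nat.mul u (nat_lit 7))) (nat_lit 127)
noncomputable def cutl2Pd : ℕ := nat_lit 0x522d52bbdc221fe21d0e099a02c807370211c
noncomputable def cutl2P (u : ℕ) : ℕ := Nat.land (Nat.shiftRight cutl2Pd (Nat.mul u (nat_lit 7))) (nat_lit 127)
noncomputable def cutl2Qd : ℕ := nat_lit 0x31e000000000008801205007000000000000000505226820000000000000000000000000000000000000000001810004c000000502c003000e2000000000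
noncomputable def cutl2Q (u : ℕ) : ℕ := Nat.land (Nat.shiftRight cutl2Qd (Nat.mul u (nat_lit 5))) (nat_lit 31)
noncomputable def cutl2 : H16.Lev := ⟨21, 5, cutl2D, cutl2P, cutl2Q⟩
noncomputable def cutl3Dd : ℕ := nat_lit 0xef3e5fc709527596152c61c91440c0
noncomputable def cutl3D (u : ℕ) : ℕ := Nat.land (Nat.shiftRight cutl3Dd (Nat.mul u (nat_lit 6))) (nat_lit 63)
noncomputable def cutl3Pd : ℕ := nat_lit 0x2140d960f09fc0c464461af0ea3d1d045d2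
noncomputable def cutl3P (u : ℕ) : ℕ := Nat.land (Nat.shiftRight cutl3Pd (Nat.mul u (nat_lit 7))) (nat_lit 127)
noncomputable def cutl3Qd : ℕ := nat_lit 0x2d00000000000038005000120000000000000003384c68080000000000000000000000000000000000000000088140040000001300c00080097800000000
noncomputable def cutl3Q (u : ℕ) : ℕ := Nat.land (Nat.shiftRight cutl3Qd (Nat.mul u (nat_lit 5))) (nat_lit 31)
noncomputable def cutl3 : H16.Lev := ⟨20, 4, cutl3D, cutl3P, cutl3Q⟩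
noncomputable def cutl4Dd : ℕ := nat_lit 0xd5e8e5a0a720c40
noncomputable def cutl4D (u : ℕ) : ℕ := Nat.land (Nat.shiftRight cutl4Dd (Nat.mul u (nat_lit 5))) (nat_lit 31)
noncomputable def cutl4Pd : ℕ := nat_lit 0x1e54017093111318aa38a
noncomputable def cutl4P (u : ℕ) : ℕ := Nat.land (Nat.shiftRight cutl4Pd (Nat.mul u (nat_lit 7))) (nat_lit 127)
noncomputable def cutl4Qd : ℕ := nat_lit 0x6000010000000000000000000000000000200000005000000000080a04000b003000000070009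
noncomputable def cutl4Q (u : ℕ) : ℕ := Nat.land (Nat.shiftRight cutl4Qd (Nat.mul u (nat_lit 4))) (nat_lit 15)
noncomputable def cutl4 : H16.Lev := ⟨12, 3, cutl4D, cutl4P, cutl4Q⟩
noncomputable def cutl5Dd : ℕ := nat_lit 0xd0
noncomputable def cutl5D (u : ℕ) : ℕ := Nat.land (Nat.shiftRight cutl5Dd (Nat.mul u (nat_lit 2))) (nat_lit 3)
noncomputable def cutl5Pd : ℕ := nat_lit 0xa2ec9f
noncomputable def cutl5P (u : ℕ) : ℕ := Nat.land (Nat.shiftRight cutl5Pd (Nat.mul u (nat_lit 6))) (nat_lit 63)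
noncomputable def cutl5Qd : ℕ := nat_lit 0x10200300000000000000000000
noncomputable def cutl5Q (u : ℕ) : ℕ := Nat.land (Nat.shiftRight cutl5Qd (Nat.mul u (nat_lit 2))) (nat_lit 3)
noncomputable def cutl5 : H16.Lev := ⟨4, 2, cutl5D, cutl5P, cutl5Q⟩
noncomputable def cue_W : List (List ℕ) := [[nat_lit 0, nat_lit 1, nat_lit 0, nat_lit 2, nat_lit 0, nat_lit 1, nat_lit 2, nat_lit 0, nat_lit 3, nat_lit 0, nat_lit 2, nat_lit 1, nat_lit 4, nat_lit 2, nat_lit 0, nat_lit 1, nat_lit 2, nat_lit 4]]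
noncomputable def cue_P : ℕ → ℕ → ℕ := wdsP H15.HS.P cue_W
noncomputable def cuc0Dd : ℕ := nat_lit 0
noncomputable def cuc0D (u : ℕ) : ℕ := Nat.land (Nat.shiftRight cuc0Dd (Nat.mul u (nat_lit 1))) (nat_lit 1)
noncomputable def cuc0Pd : ℕ := nat_lit 0xa09
noncomputable def cuc0P (u : ℕ) : ℕ := Nat.land (Nat.shiftRight cuc0Pd (Nat.mul u (nat_lit 6))) (nat_lit 63)
noncomputable def cuc0Qd : ℕ := nat_lit 0x10000000000
noncomputable def cuc0Q (u : ℕ) : ℕ := Nat.land (Nat.shiftRight cuc0Qd (Nat.mul u (nat_lit 1))) (nat_lit 1)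
noncomputable def cuc0 : H16.Lev := ⟨2, 1, cuc0D, cuc0P, cuc0Q⟩
noncomputable def cutn0Fd : ℕ := nat_lit 0xa696669659a99695669aaa5a956a5a59659555955456559554
noncomputable def cutn0F (u : ℕ) : ℕ := Nat.land (Nat.shiftRight cutn0Fd (Nat.mul u (nat_lit 2))) (nat_lit 3)
noncomputable def cutn0 : Nd := ⟨cutn0F, (nat_lit 2), (nat_lit 1), [[nat_lit 3],
  [nat_lit 0],
  [nat_lit 7]], [((nat_lit 0), []), ((nat_lit 0), [nat_lit 6])], []⟩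
noncomputable def v_W : List (List ℕ) := [[nat_lit 2, nat_lit 1, nat_lit 0, nat_lit 1, nat_lit 2],
  [nat_lit 3, nat_lit 0, nat_lit 1, nat_lit 2, nat_lit 1, nat_lit 0, nat_lit 1, nat_lit 2, nat_lit 1, nat_lit 0, nat_lit 3],
  [nat_lit 4, nat_lit 1, nat_lit 2, nat_lit 1, nat_lit 0, nat_lit 4, nat_lit 2, nat_lit 1, nat_lit 4],
  [nat_lit 2, nat_lit 3, nat_lit 1, nat_lit 4, nat_lit 2, nat_lit 0, nat_lit 1, nat_lit 2, nat_lit 5, nat_lit 2, nat_lit 1, nat_lit 4, nat_lit 2],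
  [nat_lit 1, nat_lit 0, nat_lit 3, nat_lit 0, nat_lit 2, nat_lit 1, nat_lit 0, nat_lit 1, nat_lit 2, nat_lit 4, nat_lit 2, nat_lit 1, nat_lit 0, nat_lit 1],
  [nat_lit 0, nat_lit 2, nat_lit 1, nat_lit 0, nat_lit 1, nat_lit 2, nat_lit 4, nat_lit 2, nat_lit 1, nat_lit 3]]
noncomputable def v_P : ℕ → ℕ → ℕ := wdsP H15.HS.P v_W
noncomputable def cvth_W : List (List ℕ) := [[nat_lit 2, nat_lit 4, nat_lit 2],
  [nat_lit 0, nat_lit 1, nat_lit 2, nat_lit 0, nat_lit 4, nat_lit 2, nat_lit 1, nat_lit 0],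
  [nat_lit 1, nat_lit 2, nat_lit 1, nat_lit 3, nat_lit 4, nat_lit 2, nat_lit 0, nat_lit 1, nat_lit 2, nat_lit 0, nat_lit 5, nat_lit 2, nat_lit 1, nat_lit 0, nat_lit 3, nat_lit 1],
  [nat_lit 0, nat_lit 1, nat_lit 0, nat_lit 1, nat_lit 2, nat_lit 1, nat_lit 0, nat_lit 2, nat_lit 1, nat_lit 0, nat_lit 4, nat_lit 2, nat_lit 1, nat_lit 0, nat_lit 2],
  [nat_lit 1],
  [nat_lit 0],
  [nat_lit 2],
  [nat_lit 4],
  [nat_lit 3],
  [nat_lit 5],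
  [nat_lit 0, nat_lit 1, nat_lit 2, nat_lit 0, nat_lit 1, nat_lit 2, nat_lit 3, nat_lit 0, nat_lit 1, nat_lit 4, nat_lit 2, nat_lit 1, nat_lit 4, nat_lit 5, nat_lit 2, nat_lit 4, nat_lit 1, nat_lit 2, nat_lit 0]]
noncomputable def cvth_P : ℕ → ℕ → ℕ := wdsP H15.HS.P cvth_W
noncomputable def cvtl0Dd : ℕ := nat_lit 0x8608cdc93d776cd89abb0b614e4574b5a4f896d6b2aa3da834fba834da9dd2b25d46a8548fa3c462850f9a1b40a7a0e41dd38e470ce9c330a4e8d1197232214051592303b46d13425a430811131ce2083b86c1823546509f12a278218bb14a1f83488811e210390680ce1542004907a0a02884704e05c1d8260840dc1081c0360680801601e02404000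
noncomputable def cvtl0D (u : ℕ) : ℕ := Nat.land (Nat.shiftRight cvtl0Dd (Nat.mul u (nat_lit 11))) (nat_lit 2047)
noncomputable def cvtl0Pd : ℕ := nat_lit 0x6e00e4b82ba31e92d243e1a619b8241d18b9ab52b17a384bb6cbd628487cbd2110c2b56065140153299109449a60d2a2aa9e0c114b2fcb564f431d48581d29786d91d895ec5d183ed5f736d021ab1cd5eb9855ce2188a81
noncomputable def cvtl0P (u : ℕ) : ℕ := Nat.land (Nat.shiftRight cvtl0Pd (Nat.mul u (nat_lit 7))) (nat_lit 127)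
noncomputable def cvtl0Qd : ℕ := nat_lit 0x420831e2020a071c453952c905a06b0192256127b6c0badd915756977c7efb84d6259b90747d4c71de5aaa6663b8d7a7450ab0e4446c26c3a2e460d8570c613425d5682940a8634da03252ab93a0de4bfa4bdeb354a4062
noncomputable def cvtl0Q (u : ℕ) : ℕ := Nat.land (Nat.shiftRight cvtl0Qd (Nat.mul u (nat_lit 7))) (nat_lit 127)
noncomputable def cvtl0 : H16.Lev := ⟨100, 11, cvtl0D, cvtl0P, cvtl0Q⟩
noncomputable def cvtl1Dd : ℕ := nat_lit 0x30f8b8c6c548b2223c6ae1a302428c141818280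
noncomputable def cvtl1D (u : ℕ) : ℕ := Nat.land (Nat.shiftRight cvtl1Dd (Nat.mul u (nat_lit 7))) (nat_lit 127)
noncomputable def cvtl1Pd : ℕ := nat_lit 0x1bc892725ae0ee11c13d1a1b4304a9d7a5627d1
noncomputable def cvtl1P (u : ℕ) : ℕ := Nat.land (Nat.shiftRight cvtl1Pd (Nat.mul u (nat_lit 7))) (nat_lit 127)
noncomputable def cvtl1Qd : ℕ := nat_lit 0x22000028c0008000882740280048180000000000ea8008000000400000000000006800002c1200007000000180000000000007800000000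
noncomputable def cvtl1Q (u : ℕ) : ℕ := Nat.land (Nat.shiftRight cvtl1Qd (Nat.mul u (nat_lit 5))) (nat_lit 31)
noncomputable def cvtl1 : H16.Lev := ⟨22, 8, cvtl1D, cvtl1P, cvtl1Q⟩
noncomputable def cvtl2Dd : ℕ := nat_lit 0x349715db1586940d0e88808302c7861c14200
noncomputable def cvtl2D (u : ℕ) : ℕ := Nat.land (Nat.shiftRight cvtl2Dd (Nat.mul u (nat_lit 7))) (nat_lit 127)
noncomputable def cvtl2Pd : ℕ := nat_lit 0x74513291e6e0365e110968af44ac989458d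
noncomputable def cvtl2P (u : ℕ) : ℕ := Nat.land (Nat.shiftRight cvtl2Pd (Nat.mul u (nat_lit 7))) (nat_lit 127)
noncomputable def cvtl2Qd : ℕ := nat_lit 0x300000000e00000d000c004c000300000000580040020004440001200000070000020120000078000080a00000a00014
noncomputable def cvtl2Q (u : ℕ) : ℕ := Nat.land (Nat.shiftRight cvtl2Qd (Nat.mul u (nat_lit 5))) (nat_lit 31)
noncomputable def cvtl2 : H16.Lev := ⟨21, 5, cvtl2D, cvtl2P, cvtl2Q⟩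
noncomputable def cvtl3Dd : ℕ := nat_lit 0x7789883e55433b644d33492f58542b394c231e1f1b3829252112190e0f20180a0b06070905040300
noncomputable def cvtl3D (u : ℕ) : ℕ := Nat.land (Nat.shiftRight cvtl3Dd (Nat.mul u (nat_lit 8))) (nat_lit 255)
noncomputable def cvtl3Pd : ℕ := nat_lit 0x4d48e1aaec356486620ca98f0035b6ac857c7f1139ccd408616cbdf632853f4481e15
noncomputable def cvtl3P (u : ℕ) : ℕ := Nat.land (Nat.shiftRight cvtl3Pd (Nat.mul u (nat_lit 7))) (nat_lit 127)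
noncomputable def cvtl3Qd : ℕ := nat_lit 0x6919192000002965400208db00000000f00000600000001d0000001130018800000009803801cb0005c000000d00001f00300248000000078024000040094000001c00500c021500627000
noncomputable def cvtl3Q (u : ℕ) : ℕ := Nat.land (Nat.shiftRight cvtl3Qd (Nat.mul u (nat_lit 6))) (nat_lit 63)
noncomputable def cvtl3 : H16.Lev := ⟨40, 4, cvtl3D, cvtl3P, cvtl3Q⟩
noncomputable def cvtl4Dd : ℕ := nat_lit 0xffc8ddba87d979661340b3483cc142101000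
noncomputable def cvtl4D (u : ℕ) : ℕ := Nat.land (Nat.shiftRight cvtl4Dd (Nat.mul u (nat_lit 6))) (nat_lit 63)
noncomputable def cvtl4Pd : ℕ := nat_lit 0xc38ead9c44e728b710b8a077d8ca3ec198840f1fa2
noncomputable def cvtl4P (u : ℕ) : ℕ := Nat.land (Nat.shiftRight cvtl4Pd (Nat.mul u (nat_lit 7))) (nat_lit 127)
noncomputable def cvtl4Qd : ℕ := nat_lit 0xb4ee05000078280002a00000004400020000000e0000008002000000000028126000000001000000000033800000000680009000000000030040000058000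
noncomputable def cvtl4Q (u : ℕ) : ℕ := Nat.land (Nat.shiftRight cvtl4Qd (Nat.mul u (nat_lit 5))) (nat_lit 31)
noncomputable def cvtl4 : H16.Lev := ⟨24, 3, cvtl4D, cvtl4P, cvtl4Q⟩
noncomputable def cve_W : List (List ℕ) := [[nat_lit 1, nat_lit 0, nat_lit 2, nat_lit 1, nat_lit 0, nat_lit 1, nat_lit 2, nat_lit 3, nat_lit 1, nat_lit 2, nat_lit 4, nat_lit 2, nat_lit 1, nat_lit 0, nat_lit 1, nat_lit 2, nat_lit 1],
  [nat_lit 1, nat_lit 0, nat_lit 5, nat_lit 2, nat_lit 1, nat_lit 0, nat_lit 4, nat_lit 2, nat_lit 0, nat_lit 3, nat_lit 1, nat_lit 2, nat_lit 5, nat_lit 2, nat_lit 4, nat_lit 1, nat_lit 2, nat_lit 0, nat_lit 3, nat_lit 0]]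
noncomputable def cve_P : ℕ → ℕ → ℕ := wdsP H15.HS.P cve_W
noncomputable def cvc0Dd : ℕ := nat_lit 0xd0
noncomputable def cvc0D (u : ℕ) : ℕ := Nat.land (Nat.shiftRight cvc0Dd (Nat.mul u (nat_lit 2))) (nat_lit 3)
noncomputable def cvc0Pd : ℕ := nat_lit 0xaf44681
noncomputable def cvc0P (u : ℕ) : ℕ := Nat.land (Nat.shiftRight cvc0Pd (Nat.mul u (nat_lit 7))) (nat_lit 127)
noncomputable def cvc0Qd : ℕ := nat_lit 0xc0080000000000000000000000000000000004000000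
noncomputable def cvc0Q (u : ℕ) : ℕ := Nat.land (Nat.shiftRight cvc0Qd (Nat.mul u (nat_lit 2))) (nat_lit 3)
noncomputable def cvc0 : H16.Lev := ⟨4, 2, cvc0D, cvc0P, cvc0Q⟩
noncomputable def cvtn0Fd : ℕ := nat_lit 0x4d1553a9209b55d6ebb6ba6b4d5adb2ad693a136495594eb69b34d25960b24b299249249248
noncomputable def cvtn0F (u : ℕ) : ℕ := Nat.land (Nat.shiftRight cvtn0Fd (Nat.mul u (nat_lit 3))) (nat_lit 7)
noncomputable def cvtn0 : Nd := ⟨cvtn0F, (nat_lit 2), (nat_lit 2), [[nat_lit 0],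
  [nat_lit 1],
  [nat_lit 2]], [((nat_lit 0), [])], []⟩
noncomputable def nvW : List (List (List ℕ)) := [[[nat_lit 1],
  [nat_lit 0, nat_lit 1],
  [nat_lit 1, nat_lit 2],
  [nat_lit 2, nat_lit 3, nat_lit 5, nat_lit 4],
  [nat_lit 0, nat_lit 5, nat_lit 0],
  [nat_lit 5, nat_lit 4]], [[nat_lit 0],
  [nat_lit 1],
  [nat_lit 2],
  [nat_lit 0, nat_lit 3, nat_lit 0],
  [nat_lit 0, nat_lit 4, nat_lit 0],
  [nat_lit 0, nat_lit 5, nat_lit 0]], [[nat_lit 0, nat_lit 1],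
  [nat_lit 1],
  [nat_lit 1, nat_lit 2],
  [nat_lit 3],
  [nat_lit 0, nat_lit 2, nat_lit 4],
  [nat_lit 0, nat_lit 5, nat_lit 4]], [[nat_lit 5, nat_lit 1],
  [nat_lit 2, nat_lit 5, nat_lit 4],
  [nat_lit 0, nat_lit 4],
  [nat_lit 4, nat_lit 3],
  [nat_lit 2, nat_lit 5],
  [nat_lit 0, nat_lit 5, nat_lit 4]], [[nat_lit 1],
  [nat_lit 2],
  [nat_lit 0],
  [nat_lit 0, nat_lit 1, nat_lit 5],
  [nat_lit 3, nat_lit 4, nat_lit 5],
  [nat_lit 3, nat_lit 5, nat_lit 1]]]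
noncomputable def d_W : List (List ℕ) := [[nat_lit 2, nat_lit 4, nat_lit 1, nat_lit 2, nat_lit 0, nat_lit 1, nat_lit 0, nat_lit 2, nat_lit 0, nat_lit 1, nat_lit 3, nat_lit 1, nat_lit 0, nat_lit 1, nat_lit 4, nat_lit 2, nat_lit 3],
  [nat_lit 0, nat_lit 2, nat_lit 0, nat_lit 1, nat_lit 0, nat_lit 1, nat_lit 2, nat_lit 0, nat_lit 1, nat_lit 3, nat_lit 4, nat_lit 2, nat_lit 1, nat_lit 0, nat_lit 2, nat_lit 5, nat_lit 2, nat_lit 1, nat_lit 4, nat_lit 2, nat_lit 0, nat_lit 1]]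
noncomputable def d_P : ℕ → ℕ → ℕ := wdsP H15.HS.P d_W
noncomputable def cdth_W : List (List ℕ) := [[nat_lit 2, nat_lit 1, nat_lit 0, nat_lit 1, nat_lit 2, nat_lit 0, nat_lit 1, nat_lit 4, nat_lit 2, nat_lit 1, nat_lit 0, nat_lit 1, nat_lit 2],
  [nat_lit 1, nat_lit 0, nat_lit 2, nat_lit 1, nat_lit 4, nat_lit 2, nat_lit 0, nat_lit 1, nat_lit 3, nat_lit 5, nat_lit 2, nat_lit 3, nat_lit 4, nat_lit 1, nat_lit 2, nat_lit 0, nat_lit 1],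
  [nat_lit 2, nat_lit 5, nat_lit 2, nat_lit 3, nat_lit 0, nat_lit 1, nat_lit 0, nat_lit 1, nat_lit 2, nat_lit 4, nat_lit 2, nat_lit 0, nat_lit 1, nat_lit 2, nat_lit 5, nat_lit 2],
  [nat_lit 5, nat_lit 1, nat_lit 0, nat_lit 1, nat_lit 2, nat_lit 3, nat_lit 1, nat_lit 2, nat_lit 4, nat_lit 2, nat_lit 0, nat_lit 5, nat_lit 2, nat_lit 3, nat_lit 0, nat_lit 4, nat_lit 2],
  [nat_lit 3, nat_lit 0, nat_lit 4, nat_lit 2, nat_lit 0, nat_lit 1, nat_lit 3, nat_lit 5, nat_lit 2, nat_lit 3, nat_lit 1, nat_lit 4, nat_lit 2, nat_lit 0, nat_lit 1, nat_lit 3, nat_lit 5],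
  [nat_lit 3, nat_lit 4, nat_lit 1, nat_lit 2, nat_lit 0, nat_lit 1, nat_lit 4, nat_lit 2, nat_lit 0, nat_lit 1, nat_lit 3, nat_lit 5, nat_lit 2, nat_lit 3, nat_lit 4],
  [nat_lit 3, nat_lit 0, nat_lit 1, nat_lit 2, nat_lit 1, nat_lit 0, nat_lit 2, nat_lit 4, nat_lit 2, nat_lit 1, nat_lit 4, nat_lit 5, nat_lit 2, nat_lit 3, nat_lit 1, nat_lit 4, nat_lit 1, nat_lit 2, nat_lit 4],
  [nat_lit 0],
  [nat_lit 1],
  [nat_lit 2],
  [nat_lit 3],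
  [nat_lit 4],
  [nat_lit 5],
  [nat_lit 0, nat_lit 2, nat_lit 1, nat_lit 0, nat_lit 1, nat_lit 2, nat_lit 1, nat_lit 0, nat_lit 3, nat_lit 1, nat_lit 2, nat_lit 4, nat_lit 5, nat_lit 2, nat_lit 1, nat_lit 4, nat_lit 1, nat_lit 3, nat_lit 4]]
noncomputable def cdth_P : ℕ → ℕ → ℕ := wdsP H15.HS.P cdth_W
noncomputable def cdtl0Dd : ℕ := nat_lit 0x350184c54837d712db837c72e2b04128e56ca6c8c09f4749f92a8584fa950402463ec7a0ed2533447d0ae1a035a050251f132052c9e8a81340f0c79811184ec899060e012c168202081881d02b0240b0108d003a338080971982c45187b1962f4510870dc0e03c86d0be0a82f06b0380382d84406a1041404004e0c80c8310460580600b01402003800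
noncomputable def cdtl0D (u : ℕ) : ℕ := Nat.land (Nat.shiftRight cdtl0Dd (Nat.mul u (nat_lit 11))) (nat_lit 2047)
noncomputable def cdtl0Pd : ℕ := nat_lit 0x6e02f5d97569b83939a3a80e41c8a16b1c5c581252b35d1e1829e32e7c1e49a9ab0d96426089e0b09981896ca54203ee06b17e7d1acc10253aa5b4c76bd6b524ac53116f21891a5530c7f28f9944f5432543a3930820b82
noncomputable def cdtl0P (u : ℕ) : ℕ := Nat.land (Nat.shiftRight cdtl0Pd (Nat.mul u (nat_lit 7))) (nat_lit 127)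
noncomputable def cdtl0Qd : ℕ := nat_lit 0xa33e44e558702d654a5ab949ef30bb314535369fa0be3a0d40b168332ada3d71f0c5163f62b5cc684e596a20c263d10ebe341d1098c4524d922dda51ae11db7b0063a02f0931086dcaf5c189902e64a0284b1b83aa01a62
noncomputable def cdtl0Q (u : ℕ) : ℕ := Nat.land (Nat.shiftRight cdtl0Qd (Nat.mul u (nat_lit 7))) (nat_lit 127)
noncomputable def cdtl0 : H16.Lev := ⟨100, 14, cdtl0D, cdtl0P, cdtl0Q⟩
noncomputable def cdtl1Dd : ℕ := nat_lit 0x2ae25b353a84895021265d18f203868b1430300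
noncomputable def cdtl1D (u : ℕ) : ℕ := Nat.land (Nat.shiftRight cdtl1Dd (Nat.mul u (nat_lit 7))) (nat_lit 127)
noncomputable def cdtl1Pd : ℕ := nat_lit 0x171a82591579d32ad33369621a1360486095c39
noncomputable def cdtl1P (u : ℕ) : ℕ := Nat.land (Nat.shiftRight cdtl1Pd (Nat.mul u (nat_lit 7))) (nat_lit 127)
noncomputable def cdtl1Qd : ℕ := nat_lit 0x2800801a06000703cce00004000000026500000000010000000003054090000000040045000000005160048000000000000000000000000000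
noncomputable def cdtl1Q (u : ℕ) : ℕ := Nat.land (Nat.shiftRight cdtl1Qd (Nat.mul u (nat_lit 5))) (nat_lit 31)
noncomputable def cdtl1 : H16.Lev := ⟨22, 7, cdtl1D, cdtl1P, cdtl1Q⟩
noncomputable def cdtl2Dd : ℕ := nat_lit 0x6c84a149c2c990192e407911a2848b0e18280
noncomputable def cdtl2D (u : ℕ) : ℕ := Nat.land (Nat.shiftRight cdtl2Dd (Nat.mul u (nat_lit 7))) (nat_lit 127)
noncomputable def cdtl2Pd : ℕ := nat_lit 0x37368db1c5ec5252678d334b35144fac3440b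
noncomputable def cdtl2P (u : ℕ) : ℕ := Nat.land (Nat.shiftRight cdtl2Pd (Nat.mul u (nat_lit 7))) (nat_lit 127)
noncomputable def cdtl2Qd : ℕ := nat_lit 0x5000000000000e000c0603000200000000000000000000000000000a4408581c078000000050240d900000001098000000000000000040000010000000000
noncomputable def cdtl2Q (u : ℕ) : ℕ := Nat.land (Nat.shiftRight cdtl2Qd (Nat.mul u (nat_lit 5))) (nat_lit 31)
noncomputable def cdtl2 : H16.Lev := ⟨21, 6, cdtl2D, cdtl2P, cdtl2Q⟩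
noncomputable def cdtl3Dd : ℕ := nat_lit 0xd8740
noncomputable def cdtl3D (u : ℕ) : ℕ := Nat.land (Nat.shiftRight cdtl3Dd (Nat.mul u (nat_lit 4))) (nat_lit 15)
noncomputable def cdtl3Pd : ℕ := nat_lit 0x38b4c2ac8
noncomputable def cdtl3P (u : ℕ) : ℕ := Nat.land (Nat.shiftRight cdtl3Pd (Nat.mul u (nat_lit 7))) (nat_lit 127)
noncomputable def cdtl3Qd : ℕ := nat_lit 0xc0008000000000000000000004000002000000000000000000000000000000000000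
noncomputable def cdtl3Q (u : ℕ) : ℕ := Nat.land (Nat.shiftRight cdtl3Qd (Nat.mul u (nat_lit 3))) (nat_lit 7)
noncomputable def cdtl3 : H16.Lev := ⟨5, 5, cdtl3D, cdtl3P, cdtl3Q⟩
noncomputable def cdtl4Dd : ℕ := nat_lit 0x7e46964cd38b24c2851840c0
noncomputable def cdtl4D (u : ℕ) : ℕ := Nat.land (Nat.shiftRight cdtl4Dd (Nat.mul u (nat_lit 6))) (nat_lit 63)
noncomputable def cdtl4Pd : ℕ := nat_lit 0xc2a49abc0a870aba407dc5a0c481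
noncomputable def cdtl4P (u : ℕ) : ℕ := Nat.land (Nat.shiftRight cdtl4Pd (Nat.mul u (nat_lit 7))) (nat_lit 127)
noncomputable def cdtl4Qd : ℕ := nat_lit 0xfb0074000000000000000000000000000000000000000000000030cae000000000000000000000d0065900081000002000
noncomputable def cdtl4Q (u : ℕ) : ℕ := Nat.land (Nat.shiftRight cdtl4Qd (Nat.mul u (nat_lit 4))) (nat_lit 15)
noncomputable def cdtl4 : H16.Lev := ⟨16, 4, cdtl4D, cdtl4P, cdtl4Q⟩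
noncomputable def cdtl5Dd : ℕ := nat_lit 0x150
noncomputable def cdtl5D (u : ℕ) : ℕ := Nat.land (Nat.shiftRight cdtl5Dd (Nat.mul u (nat_lit 3))) (nat_lit 7)
noncomputable def cdtl5Pd : ℕ := nat_lit 0x180561
noncomputable def cdtl5P (u : ℕ) : ℕ := Nat.land (Nat.shiftRight cdtl5Pd (Nat.mul u (nat_lit 7))) (nat_lit 127)
noncomputable def cdtl5Qd : ℕ := nat_lit 0x2000000000000000000000000000000000000000000100000
noncomputable def cdtl5Q (u : ℕ) : ℕ := Nat.land (Nat.shiftRight cdtl5Qd (Nat.mul u (nat_lit 2))) (nat_lit 3)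
noncomputable def cdtl5 : H16.Lev := ⟨3, 3, cdtl5D, cdtl5P, cdtl5Q⟩
noncomputable def cdtl6Dd : ℕ := nat_lit 0xd0
noncomputable def cdtl6D (u : ℕ) : ℕ := Nat.land (Nat.shiftRight cdtl6Dd (Nat.mul u (nat_lit 2))) (nat_lit 3)
noncomputable def cdtl6Pd : ℕ := nat_lit 0x3530b19
noncomputable def cdtl6P (u : ℕ) : ℕ := Nat.land (Nat.shiftRight cdtl6Pd (Nat.mul u (nat_lit 7))) (nat_lit 127)
noncomputable def cdtl6Qd : ℕ := nat_lit 0x200000000000000000000000030100000000000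
noncomputable def cdtl6Q (u : ℕ) : ℕ := Nat.land (Nat.shiftRight cdtl6Qd (Nat.mul u (nat_lit 2))) (nat_lit 3)
noncomputable def cdtl6 : H16.Lev := ⟨4, 2, cdtl6D, cdtl6P, cdtl6Q⟩
noncomputable def cde_W : List (List ℕ) := [[nat_lit 0, nat_lit 1, nat_lit 2, nat_lit 0, nat_lit 3, nat_lit 0, nat_lit 4, nat_lit 2, nat_lit 0, nat_lit 1, nat_lit 2, nat_lit 3, nat_lit 5, nat_lit 2, nat_lit 1, nat_lit 4, nat_lit 2, nat_lit 3],
  [nat_lit 3, nat_lit 1, nat_lit 3, nat_lit 0, nat_lit 2, nat_lit 1, nat_lit 0, nat_lit 2, nat_lit 4, nat_lit 2, nat_lit 0, nat_lit 3, nat_lit 1, nat_lit 2, nat_lit 0, nat_lit 1, nat_lit 0],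
  [nat_lit 0, nat_lit 2, nat_lit 0, nat_lit 1, nat_lit 3, nat_lit 4, nat_lit 2, nat_lit 0, nat_lit 1, nat_lit 2, nat_lit 5, nat_lit 2, nat_lit 3, nat_lit 1, nat_lit 4, nat_lit 2, nat_lit 1, nat_lit 0, nat_lit 2, nat_lit 5, nat_lit 1],
  [nat_lit 0, nat_lit 3, nat_lit 1, nat_lit 2, nat_lit 0, nat_lit 4, nat_lit 2, nat_lit 0, nat_lit 3, nat_lit 5, nat_lit 2, nat_lit 1, nat_lit 4, nat_lit 2, nat_lit 4]]
noncomputable def cde_P : ℕ → ℕ → ℕ := wdsP H15.HS.P cde_W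
noncomputable def cdc4Dd : ℕ := nat_lit 0x99d69844e30d2050c4080040
noncomputable def cdc4D (u : ℕ) : ℕ := Nat.land (Nat.shiftRight cdc4Dd (Nat.mul u (nat_lit 6))) (nat_lit 63)
noncomputable def cdc4Pd : ℕ := nat_lit 0x1e395e120b6e0326a700a5574481
noncomputable def cdc4P (u : ℕ) : ℕ := Nat.land (Nat.shiftRight cdc4Pd (Nat.mul u (nat_lit 7))) (nat_lit 127)
noncomputable def cdc4Qd : ℕ := nat_lit 0xc500290000000000000000000000000000000000000000000000a0d36000000000000000000000700bfe00041000008000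
noncomputable def cdc4Q (u : ℕ) : ℕ := Nat.land (Nat.shiftRight cdc4Qd (Nat.mul u (nat_lit 4))) (nat_lit 15)
noncomputable def cdc4 : H16.Lev := ⟨16, 3, cdc4D, cdc4P, cdc4Q⟩
noncomputable def cdtn0Fd : ℕ := nat_lit 0
noncomputable def cdtn0F (u : ℕ) : ℕ := Nat.land (Nat.shiftRight cdtn0Fd (Nat.mul u (nat_lit 1))) (nat_lit 1)
noncomputable def cdtn0 : Nd := ⟨cdtn0F, (nat_lit 3), (nat_lit 3), [], [((nat_lit 0), [])], []⟩
noncomputable def cdc0Dd : ℕ := nat_lit 0xb730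
noncomputable def cdc0D (u : ℕ) : ℕ := Nat.land (Nat.shiftRight cdc0Dd (Nat.mul u (nat_lit 4))) (nat_lit 15)
noncomputable def cdc0Pd : ℕ := nat_lit 0x722e402
noncomputable def cdc0P (u : ℕ) : ℕ := Nat.land (Nat.shiftRight cdc0Pd (Nat.mul u (nat_lit 7))) (nat_lit 127)
noncomputable def cdc0Qd : ℕ := nat_lit 0x10000000c0000000000000000000000800000
noncomputable def cdc0Q (u : ℕ) : ℕ := Nat.land (Nat.shiftRight cdc0Qd (Nat.mul u (nat_lit 2))) (nat_lit 3)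
noncomputable def cdc0 : H16.Lev := ⟨4, 4, cdc0D, cdc0P, cdc0Q⟩
noncomputable def cdtn1y4_W : List (List ℕ) := [[nat_lit 2, nat_lit 1, nat_lit 0, nat_lit 3, nat_lit 0, nat_lit 2, nat_lit 1, nat_lit 0, nat_lit 1, nat_lit 3, nat_lit 4, nat_lit 2, nat_lit 0, nat_lit 1, nat_lit 2, nat_lit 3, nat_lit 5, nat_lit 2, nat_lit 3, nat_lit 1, nat_lit 4, nat_lit 2, nat_lit 1, nat_lit 5, nat_lit 3],
  [nat_lit 2, nat_lit 1, nat_lit 0, nat_lit 1, nat_lit 3, nat_lit 0, nat_lit 1, nat_lit 4, nat_lit 2, nat_lit 1, nat_lit 0, nat_lit 2, nat_lit 5, nat_lit 2, nat_lit 1, nat_lit 4, nat_lit 2, nat_lit 0, nat_lit 1, nat_lit 5]]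
noncomputable def cdtn1y4_P : ℕ → ℕ → ℕ := wdsP H15.HS.P cdtn1y4_W
noncomputable def cdtr2k_W : List (List ℕ) := [[nat_lit 4, nat_lit 5, nat_lit 2, nat_lit 3, nat_lit 1, nat_lit 0, nat_lit 1, nat_lit 2, nat_lit 0, nat_lit 3, nat_lit 4, nat_lit 2, nat_lit 0, nat_lit 3, nat_lit 1, nat_lit 5, nat_lit 2, nat_lit 3, nat_lit 4, nat_lit 1, nat_lit 3, nat_lit 5],
  [nat_lit 1, nat_lit 2, nat_lit 0, nat_lit 1, nat_lit 2, nat_lit 3, nat_lit 0, nat_lit 2, nat_lit 1, nat_lit 0, nat_lit 1, nat_lit 2, nat_lit 3, nat_lit 4, nat_lit 5, nat_lit 2, nat_lit 3, nat_lit 1, nat_lit 4, nat_lit 2, nat_lit 1, nat_lit 5, nat_lit 2]]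
noncomputable def cdtr2k_P : ℕ → ℕ → ℕ := wdsP H15.HS.P cdtr2k_W
noncomputable def cdtn2Fd : ℕ := nat_lit 0x462757b953bd7991
noncomputable def cdtn2F (u : ℕ) : ℕ := Nat.land (Nat.shiftRight cdtn2Fd (Nat.mul u (nat_lit 4))) (nat_lit 15)
noncomputable def cdtn2 : Nd := ⟨cdtn2F, (nat_lit 2), (nat_lit 2), [], [((nat_lit 0), []), ((nat_lit 0), [nat_lit 1]), ((nat_lit 0), [nat_lit 0])], []⟩
noncomputable def cdtn1Fd : ℕ := nat_lit 0x38a41118e40729448678060060a1871d549134c38f5851521c119a59a58b44548518d59c3841ca69264920124c1c935211668e24568a29e50100b15030520104e25534141289e596054040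
noncomputable def cdtn1F (u : ℕ) : ℕ := Nat.land (Nat.shiftRight cdtn1Fd (Nat.mul u (nat_lit 6))) (nat_lit 63)
noncomputable def cdtn1 : Nd := ⟨cdtn1F, (nat_lit 4), (nat_lit 4), [[nat_lit 1],
  [nat_lit 0, nat_lit 0]], [((nat_lit 0), []), ((nat_lit 0), [nat_lit 0]), ((nat_lit 0), [nat_lit 0, nat_lit 0]), ((nat_lit 0), [nat_lit 0, nat_lit 0, nat_lit 0])], [((nat_lit 4), cdtn1y4_W)]⟩
noncomputable def f_W : List (List ℕ) := [[nat_lit 1, nat_lit 0, nat_lit 2, nat_lit 1, nat_lit 0, nat_lit 1, nat_lit 2, nat_lit 3, nat_lit 1, nat_lit 2, nat_lit 4, nat_lit 2, nat_lit 1, nat_lit 0, nat_lit 2, nat_lit 1, nat_lit 2],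
  [nat_lit 2, nat_lit 1, nat_lit 0, nat_lit 1, nat_lit 2, nat_lit 0, nat_lit 1, nat_lit 4],
  [nat_lit 2, nat_lit 4, nat_lit 1, nat_lit 2, nat_lit 0, nat_lit 1, nat_lit 0, nat_lit 2, nat_lit 0, nat_lit 1, nat_lit 3, nat_lit 0, nat_lit 4, nat_lit 2, nat_lit 0, nat_lit 1, nat_lit 5, nat_lit 2, nat_lit 1, nat_lit 4, nat_lit 1, nat_lit 2, nat_lit 5],
  [nat_lit 1, nat_lit 0, nat_lit 2, nat_lit 0, nat_lit 1, nat_lit 0, nat_lit 3, nat_lit 4, nat_lit 2, nat_lit 0, nat_lit 1, nat_lit 3, nat_lit 5, nat_lit 2, nat_lit 1, nat_lit 4, nat_lit 2, nat_lit 0, nat_lit 1]]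
noncomputable def f_P : ℕ → ℕ → ℕ := wdsP H15.HS.P f_W

theorem zU_k : Nat.add (ltAll 9 [nat_lit 0]) (sumL (fun β => Nat.xor (H15.IC.HS.c0ax_P 0 β) (apW H15.IC.HS.p2t_P [nat_lit 0] β)) H15.HS.B) = 0 := by decide +kernel
theorem Uz_k_0 : allZ (cmEnt H15.IC.HS.p2t_P H15.IC.HS.c0ax_P (nat_lit 9) H15.HS.B (nat_lit 0)) (nat_lit 0) (nat_lit 9) = true := by decide +kernel
theorem z1_k : 78 < 100 ∧ ltAll 1 (List.replicate 1 0) = 0 ∧ ltAll 1 [] = 0 ∧ apW H15.IC.HS.c0ax_P (List.replicate 1 0) 78 ≠ apW H15.IC.HS.c0ax_P [] 78 := by decide +kernel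
theorem cuth_lt : H16.allL (ltAll 6) cuth_W = true := by decide +kernel
theorem cutl0_e_0 : allZ (dent cutl0 cuth_P (nat_lit 100)) (nat_lit 0) (nat_lit 99) = true := by decide +kernel
theorem cutl0_h : 0 < cutl0.n ∧ 0 < cutl0.K ∧ cutl0.Pt 0 < 100 ∧ cutl0.Q (cutl0.Pt 0) = 0 := by decide +kernel
theorem cutl1_e_0 : allZ (dent cutl1 cuth_P (nat_lit 100)) (nat_lit 0) (nat_lit 21) = true := by decide +kernel
theorem cutl1_h : 0 < cutl1.n ∧ 0 < cutl1.K ∧ cutl1.Pt 0 < 100 ∧ cutl1.Q (cutl1.Pt 0) = 0 := by decide +kernel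
theorem cutl2_e_0 : allZ (dent cutl2 cuth_P (nat_lit 100)) (nat_lit 0) (nat_lit 20) = true := by decide +kernel
theorem cutl2_h : 0 < cutl2.n ∧ 0 < cutl2.K ∧ cutl2.Pt 0 < 100 ∧ cutl2.Q (cutl2.Pt 0) = 0 := by decide +kernel
theorem cutl3_e_0 : allZ (dent cutl3 cuth_P (nat_lit 100)) (nat_lit 0) (nat_lit 19) = true := by decide +kernel
theorem cutl3_h : 0 < cutl3.n ∧ 0 < cutl3.K ∧ cutl3.Pt 0 < 100 ∧ cutl3.Q (cutl3.Pt 0) = 0 := by decide +kernel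
theorem cutl4_e_0 : allZ (dent cutl4 cuth_P (nat_lit 100)) (nat_lit 0) (nat_lit 11) = true := by decide +kernel
theorem cutl4_h : 0 < cutl4.n ∧ 0 < cutl4.K ∧ cutl4.Pt 0 < 100 ∧ cutl4.Q (cutl4.Pt 0) = 0 := by decide +kernel
theorem cutl5_e_0 : allZ (dent cutl5 cuth_P (nat_lit 100)) (nat_lit 0) (nat_lit 3) = true := by decide +kernel
theorem cutl5_h : 0 < cutl5.n ∧ 0 < cutl5.K ∧ cutl5.Pt 0 < 100 ∧ cutl5.Q (cutl5.Pt 0) = 0 := by decide +kernel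
theorem cut_f5 : (Nat.ble cutl5.K 12 && Nat.ble (topK []) cutl5.K && fixLetters cuth_P (topK []) (cutl5.Pt 0)) = true := by decide +kernel
theorem cut_f4 : (Nat.ble cutl4.K 12 && Nat.ble (topK [cutl5]) cutl4.K && fixLetters cuth_P (topK [cutl5]) (cutl4.Pt 0)) = true := by decide +kernel
theorem cut_f3 : (Nat.ble cutl3.K 12 && Nat.ble (topK [cutl4, cutl5]) cutl3.K && fixLetters cuth_P (topK [cutl4, cutl5]) (cutl3.Pt 0)) = true := by decide +kernel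
theorem cut_f2 : (Nat.ble cutl2.K 12 && Nat.ble (topK [cutl3, cutl4, cutl5]) cutl2.K && fixLetters cuth_P (topK [cutl3, cutl4, cutl5]) (cutl2.Pt 0)) = true := by decide +kernel
theorem cut_f1 : (Nat.ble cutl1.K 12 && Nat.ble (topK [cutl2, cutl3, cutl4, cutl5]) cutl1.K && fixLetters cuth_P (topK [cutl2, cutl3, cutl4, cutl5]) (cutl1.Pt 0)) = true := by decide +kernel
theorem cut_f0 : (Nat.ble cutl0.K 12 && Nat.ble (topK [cutl1, cutl2, cutl3, cutl4, cutl5]) cutl0.K && fixLetters cuth_P (topK [cutl1, cutl2, cutl3, cutl4, cutl5]) (cutl0.Pt 0)) = true := by decide +kernel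
theorem cut_c : chainCard [cutl0, cutl1, cutl2, cutl3, cutl4, cutl5] = 44352000 := by decide +kernel
theorem cue_lt : H16.allL (ltAll 6) cue_W = true := by decide +kernel
theorem cu_f5 : (Nat.ble cutl5.K 12 && Nat.blt (nat_lit 9) 100 && fixLetters cuth_P cutl5.K (nat_lit 9) && Nat.beq (ltAll 9 [nat_lit 2]) 0 && Nat.beq (apW H15.IC.HS.p2t_P [nat_lit 2] (nat_lit 9)) (cutl5.Pt 0)) = true := by decide +kernel
theorem cu_f4 : (Nat.ble cutl4.K 12 && Nat.blt (nat_lit 9) 100 && fixLetters cuth_P cutl4.K (nat_lit 9) && Nat.beq (ltAll 9 [nat_lit 8]) 0 && Nat.beq (apW H15.IC.HS.p2t_P [nat_lit 8] (nat_lit 9)) (cutl4.Pt 0)) = true := by decide +kernel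
theorem cu_f3 : (Nat.ble cutl3.K 12 && Nat.blt (nat_lit 9) 100 && fixLetters cuth_P cutl3.K (nat_lit 9) && Nat.beq (ltAll 9 [nat_lit 1]) 0 && Nat.beq (apW H15.IC.HS.p2t_P [nat_lit 1] (nat_lit 9)) (cutl3.Pt 0)) = true := by decide +kernel
theorem cu_f2 : (Nat.ble cutl2.K 12 && Nat.blt (nat_lit 9) 100 && fixLetters cuth_P cutl2.K (nat_lit 9) && Nat.beq (ltAll 9 [nat_lit 5]) 0 && Nat.beq (apW H15.IC.HS.p2t_P [nat_lit 5] (nat_lit 9)) (cutl2.Pt 0)) = true := by decide +kernel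
theorem cu_f1 : (Nat.ble cutl1.K 12 && Nat.blt (nat_lit 9) 100 && fixLetters cuth_P cutl1.K (nat_lit 9) && Nat.beq (ltAll 9 [nat_lit 6]) 0 && Nat.beq (apW H15.IC.HS.p2t_P [nat_lit 6] (nat_lit 9)) (cutl1.Pt 0)) = true := by decide +kernel
theorem cuc0_e_0 : allZ (dent cuc0 cue_P (nat_lit 100)) (nat_lit 0) (nat_lit 1) = true := by decide +kernel
theorem cuc0_h : 0 < cuc0.n ∧ 0 < cuc0.K ∧ cuc0.Pt 0 < 100 ∧ cuc0.Q (cuc0.Pt 0) = 0 := by decide +kernel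
theorem cutn0_0 : (Nat.ble cutl0.K 12 && Nat.beq (ltAll 100 []) 0 && kChk cue_P H15.IC.HS.p2t_P cutn0.Kn 9 H15.HS.B [] && H16.allL (ltAll 9) cutn0.pre && planOK cuth_P H15.IC.HS.p2t_P 9 (cutl0.Pt 0) cutn0.plan [cutl0, cutl1, cutl2, cutl3, cutl4, cutl5]) = true := by decide +kernel
theorem cutn0_1_0 : allZ (cutn0.ent H15.HS.P cuth_P H15.IC.HS.p2t_P H15.IC.HS.p2t_P cue_P (nat_lit 6) (nat_lit 9) H15.HS.B cutl0 [cutl1, cutl2, cutl3, cutl4, cutl5] (memO cuc0)) (nat_lit 0) (nat_lit 100) = true := by decide +kernel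
theorem cu_f0 : (Nat.ble cuc0.K 1 && Nat.ble (topK []) cuc0.K && Nat.beq (cuc0.Pt 0) (cutl0.Pt 0) && Nat.beq (ltAll 100 []) 0 && kChk cue_P H15.IC.HS.p2t_P cuc0.K 9 H15.HS.B []) = true := by decide +kernel
theorem cu_c : chainCard [cuc0] = 2 ∧ topK [cuc0] = 1 := by decide +kernel
theorem v_lt : H16.allL (ltAll 6) v_W = true := by decide +kernel
theorem cvth_lt : H16.allL (ltAll 6) cvth_W = true := by decide +kernel
theorem cvtl0_e_0 : allZ (dent cvtl0 cvth_P (nat_lit 100)) (nat_lit 0) (nat_lit 99) = true := by decide +kernel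
theorem cvtl0_h : 0 < cvtl0.n ∧ 0 < cvtl0.K ∧ cvtl0.Pt 0 < 100 ∧ cvtl0.Q (cvtl0.Pt 0) = 0 := by decide +kernel
theorem cvtl1_e_0 : allZ (dent cvtl1 cvth_P (nat_lit 100)) (nat_lit 0) (nat_lit 21) = true := by decide +kernel
theorem cvtl1_h : 0 < cvtl1.n ∧ 0 < cvtl1.K ∧ cvtl1.Pt 0 < 100 ∧ cvtl1.Q (cvtl1.Pt 0) = 0 := by decide +kernel
theorem cvtl2_e_0 : allZ (dent cvtl2 cvth_P (nat_lit 100)) (nat_lit 0) (nat_lit 20) = true := by decide +kernel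
theorem cvtl2_h : 0 < cvtl2.n ∧ 0 < cvtl2.K ∧ cvtl2.Pt 0 < 100 ∧ cvtl2.Q (cvtl2.Pt 0) = 0 := by decide +kernel
theorem cvtl3_e_0 : allZ (dent cvtl3 cvth_P (nat_lit 100)) (nat_lit 0) (nat_lit 39) = true := by decide +kernel
theorem cvtl3_h : 0 < cvtl3.n ∧ 0 < cvtl3.K ∧ cvtl3.Pt 0 < 100 ∧ cvtl3.Q (cvtl3.Pt 0) = 0 := by decide +kernel
theorem cvtl4_e_0 : allZ (dent cvtl4 cvth_P (nat_lit 100)) (nat_lit 0) (nat_lit 23) = true := by decide +kernel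
theorem cvtl4_h : 0 < cvtl4.n ∧ 0 < cvtl4.K ∧ cvtl4.Pt 0 < 100 ∧ cvtl4.Q (cvtl4.Pt 0) = 0 := by decide +kernel
theorem cvt_f4 : (Nat.ble cvtl4.K 11 && Nat.ble (topK []) cvtl4.K && fixLetters cvth_P (topK []) (cvtl4.Pt 0)) = true := by decide +kernel
theorem cvt_f3 : (Nat.ble cvtl3.K 11 && Nat.ble (topK [cvtl4]) cvtl3.K && fixLetters cvth_P (topK [cvtl4]) (cvtl3.Pt 0)) = true := by decide +kernel
theorem cvt_f2 : (Nat.ble cvtl2.K 11 && Nat.ble (topK [cvtl3, cvtl4]) cvtl2.K && fixLetters cvth_P (topK [cvtl3, cvtl4]) (cvtl2.Pt 0)) = true := by decide +kernel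
theorem cvt_f1 : (Nat.ble cvtl1.K 11 && Nat.ble (topK [cvtl2, cvtl3, cvtl4]) cvtl1.K && fixLetters cvth_P (topK [cvtl2, cvtl3, cvtl4]) (cvtl1.Pt 0)) = true := by decide +kernel
theorem cvt_f0 : (Nat.ble cvtl0.K 11 && Nat.ble (topK [cvtl1, cvtl2, cvtl3, cvtl4]) cvtl0.K && fixLetters cvth_P (topK [cvtl1, cvtl2, cvtl3, cvtl4]) (cvtl0.Pt 0)) = true := by decide +kernel
theorem cvt_c : chainCard [cvtl0, cvtl1, cvtl2, cvtl3, cvtl4] = 44352000 := by decide +kernel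
theorem cve_lt : H16.allL (ltAll 6) cve_W = true := by decide +kernel
theorem cv_f4 : (Nat.ble cvtl4.K 11 && Nat.blt (nat_lit 1) 100 && fixLetters cvth_P cvtl4.K (nat_lit 1) && Nat.beq (ltAll 6 [nat_lit 4]) 0 && Nat.beq (apW v_P [nat_lit 4] (nat_lit 1)) (cvtl4.Pt 0)) = true := by decide +kernel
theorem cv_f3 : (Nat.ble cvtl3.K 11 && Nat.blt (nat_lit 1) 100 && fixLetters cvth_P cvtl3.K (nat_lit 1) && Nat.beq (ltAll 6 [nat_lit 5]) 0 && Nat.beq (apW v_P [nat_lit 5] (nat_lit 1)) (cvtl3.Pt 0)) = true := by decide +kernel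
theorem cv_f2 : (Nat.ble cvtl2.K 11 && Nat.blt (nat_lit 1) 100 && fixLetters cvth_P cvtl2.K (nat_lit 1) && Nat.beq (ltAll 6 [nat_lit 1]) 0 && Nat.beq (apW v_P [nat_lit 1] (nat_lit 1)) (cvtl2.Pt 0)) = true := by decide +kernel
theorem cv_f1 : (Nat.ble cvtl1.K 11 && Nat.blt (nat_lit 1) 100 && fixLetters cvth_P cvtl1.K (nat_lit 1) && Nat.beq (ltAll 6 [nat_lit 3, nat_lit 4]) 0 && Nat.beq (apW v_P [nat_lit 3, nat_lit 4] (nat_lit 1)) (cvtl1.Pt 0)) = true := by decide +kernel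
theorem cvc0_e_0 : allZ (dent cvc0 cve_P (nat_lit 100)) (nat_lit 0) (nat_lit 3) = true := by decide +kernel
theorem cvc0_h : 0 < cvc0.n ∧ 0 < cvc0.K ∧ cvc0.Pt 0 < 100 ∧ cvc0.Q (cvc0.Pt 0) = 0 := by decide +kernel
theorem cvtn0_0 : (Nat.ble cvtl0.K 11 && Nat.beq (ltAll 100 []) 0 && kChk cve_P v_P cvtn0.Kn 6 H15.HS.B [] && H16.allL (ltAll 6) cvtn0.pre && planOK cvth_P v_P 6 (cvtl0.Pt 0) cvtn0.plan [cvtl0, cvtl1, cvtl2, cvtl3, cvtl4]) = true := by decide +kernel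
theorem cvtn0_1_0 : allZ (cvtn0.ent H15.HS.P cvth_P v_P v_P cve_P (nat_lit 6) (nat_lit 6) H15.HS.B cvtl0 [cvtl1, cvtl2, cvtl3, cvtl4] (memO cvc0)) (nat_lit 0) (nat_lit 100) = true := by decide +kernel
theorem cv_f0 : (Nat.ble cvc0.K 2 && Nat.ble (topK []) cvc0.K && Nat.beq (cvc0.Pt 0) (cvtl0.Pt 0) && Nat.beq (ltAll 100 []) 0 && kChk cve_P v_P cvc0.K 6 H15.HS.B []) = true := by decide +kernel
theorem cv_c : chainCard [cvc0] = 4 ∧ topK [cvc0] = 2 := by decide +kernel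
theorem nv_k_a : allZ2 (nrmEnt v_P H15.IC.HS.c0ace_P (nat_lit 6) H15.HS.B nvW) (nat_lit 5) (nat_lit 6) = true := by decide +kernel
theorem vz_k_0 : allZ (cmEnt v_P H15.IC.HS.c0ax_P (nat_lit 6) H15.HS.B (nat_lit 0)) (nat_lit 0) (nat_lit 6) = true := by decide +kernel
theorem vU_k : allZ (fun a => Nat.add (ltAll 9 (nth [] [[nat_lit 1, nat_lit 2, nat_lit 5, nat_lit 6, nat_lit 7],
  [nat_lit 0, nat_lit 2, nat_lit 3],
  [nat_lit 1, nat_lit 3, nat_lit 5, nat_lit 6, nat_lit 7],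
  [nat_lit 0, nat_lit 3, nat_lit 5, nat_lit 6, nat_lit 7],
  [nat_lit 3, nat_lit 4, nat_lit 5],
  [nat_lit 2]] a)) (sumL (fun β => Nat.xor (v_P a β) (apW H15.IC.HS.p2t_P (nth [] [[nat_lit 1, nat_lit 2, nat_lit 5, nat_lit 6, nat_lit 7],
  [nat_lit 0, nat_lit 2, nat_lit 3],
  [nat_lit 1, nat_lit 3, nat_lit 5, nat_lit 6, nat_lit 7],
  [nat_lit 0, nat_lit 3, nat_lit 5, nat_lit 6, nat_lit 7],
  [nat_lit 3, nat_lit 4, nat_lit 5],
  [nat_lit 2]] a) β)) H15.HS.B)) 0 6 = true := by decide +kernel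
theorem dk : ∀ b < 9, ∀ a < 9, 6 ≤ b → b < a → ltAll 6 (nth [] (nth [] H15.IC.HS.p2C b) a) = 0 := by decide +kernel
theorem dl : ∀ b < 6, ∀ a < 9, 3 ≤ b → b < a → ltAll 3 (nth [] (nth [] H15.IC.HS.p2C b) a) = 0 := by decide +kernel
theorem d_lt : H16.allL (ltAll 6) d_W = true := by decide +kernel
theorem dr0_k : eqL H15.IC.HS.p2t_P 9 H15.HS.B [nat_lit 7, nat_lit 8] [nat_lit 8, nat_lit 7, nat_lit 0, nat_lit 3, nat_lit 4] = 0 := by decide +kernel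
theorem de0_k : Nat.add (ltAll 9 [nat_lit 0, nat_lit 2]) (sumL (fun β => Nat.xor (d_P 0 β) (apW H15.IC.HS.p2t_P [nat_lit 0, nat_lit 2] β)) H15.HS.B) = 0 := by decide +kernel
theorem ds0_k : eqL H15.IC.HS.p2t_P 9 H15.HS.B [nat_lit 8, nat_lit 0, nat_lit 3, nat_lit 4] [nat_lit 0, nat_lit 3, nat_lit 4, nat_lit 8, nat_lit 0, nat_lit 2] = 0 := by decide +kernel
theorem dr1_k : eqL H15.IC.HS.p2t_P 9 H15.HS.B [nat_lit 6, nat_lit 8] [nat_lit 8, nat_lit 6, nat_lit 0, nat_lit 1, nat_lit 5] = 0 := by decide +kernel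
theorem de1_k : Nat.add (ltAll 9 [nat_lit 0, nat_lit 1]) (sumL (fun β => Nat.xor (d_P 1 β) (apW H15.IC.HS.p2t_P [nat_lit 0, nat_lit 1] β)) H15.HS.B) = 0 := by decide +kernel
theorem ds1_k : eqL H15.IC.HS.p2t_P 9 H15.HS.B [nat_lit 6, nat_lit 0, nat_lit 1, nat_lit 5] [nat_lit 0, nat_lit 1, nat_lit 5, nat_lit 6, nat_lit 0, nat_lit 1] = 0 := by decide +kernel
theorem cdth_lt : H16.allL (ltAll 6) cdth_W = true := by decide +kernel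
theorem cdtl0_e_0 : allZ (dent cdtl0 cdth_P (nat_lit 100)) (nat_lit 0) (nat_lit 99) = true := by decide +kernel
theorem cdtl0_h : 0 < cdtl0.n ∧ 0 < cdtl0.K ∧ cdtl0.Pt 0 < 100 ∧ cdtl0.Q (cdtl0.Pt 0) = 0 := by decide +kernel
theorem cdtl1_e_0 : allZ (dent cdtl1 cdth_P (nat_lit 100)) (nat_lit 0) (nat_lit 21) = true := by decide +kernel
theorem cdtl1_h : 0 < cdtl1.n ∧ 0 < cdtl1.K ∧ cdtl1.Pt 0 < 100 ∧ cdtl1.Q (cdtl1.Pt 0) = 0 := by decide +kernel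
theorem cdtl2_e_0 : allZ (dent cdtl2 cdth_P (nat_lit 100)) (nat_lit 0) (nat_lit 20) = true := by decide +kernel
theorem cdtl2_h : 0 < cdtl2.n ∧ 0 < cdtl2.K ∧ cdtl2.Pt 0 < 100 ∧ cdtl2.Q (cdtl2.Pt 0) = 0 := by decide +kernel
theorem cdtl3_e_0 : allZ (dent cdtl3 cdth_P (nat_lit 100)) (nat_lit 0) (nat_lit 4) = true := by decide +kernel
theorem cdtl3_h : 0 < cdtl3.n ∧ 0 < cdtl3.K ∧ cdtl3.Pt 0 < 100 ∧ cdtl3.Q (cdtl3.Pt 0) = 0 := by decide +kernel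
theorem cdtl4_e_0 : allZ (dent cdtl4 cdth_P (nat_lit 100)) (nat_lit 0) (nat_lit 15) = true := by decide +kernel
theorem cdtl4_h : 0 < cdtl4.n ∧ 0 < cdtl4.K ∧ cdtl4.Pt 0 < 100 ∧ cdtl4.Q (cdtl4.Pt 0) = 0 := by decide +kernel
theorem cdtl5_e_0 : allZ (dent cdtl5 cdth_P (nat_lit 100)) (nat_lit 0) (nat_lit 2) = true := by decide +kernel
theorem cdtl5_h : 0 < cdtl5.n ∧ 0 < cdtl5.K ∧ cdtl5.Pt 0 < 100 ∧ cdtl5.Q (cdtl5.Pt 0) = 0 := by decide +kernel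
theorem cdtl6_e_0 : allZ (dent cdtl6 cdth_P (nat_lit 100)) (nat_lit 0) (nat_lit 3) = true := by decide +kernel
theorem cdtl6_h : 0 < cdtl6.n ∧ 0 < cdtl6.K ∧ cdtl6.Pt 0 < 100 ∧ cdtl6.Q (cdtl6.Pt 0) = 0 := by decide +kernel
theorem cdt_f6 : (Nat.ble cdtl6.K 14 && Nat.ble (topK []) cdtl6.K && fixLetters cdth_P (topK []) (cdtl6.Pt 0)) = true := by decide +kernel
theorem cdt_f5 : (Nat.ble cdtl5.K 14 && Nat.ble (topK [cdtl6]) cdtl5.K && fixLetters cdth_P (topK [cdtl6]) (cdtl5.Pt 0)) = true := by decide +kernel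
theorem cdt_f4 : (Nat.ble cdtl4.K 14 && Nat.ble (topK [cdtl5, cdtl6]) cdtl4.K && fixLetters cdth_P (topK [cdtl5, cdtl6]) (cdtl4.Pt 0)) = true := by decide +kernel
theorem cdt_f3 : (Nat.ble cdtl3.K 14 && Nat.ble (topK [cdtl4, cdtl5, cdtl6]) cdtl3.K && fixLetters cdth_P (topK [cdtl4, cdtl5, cdtl6]) (cdtl3.Pt 0)) = true := by decide +kernel
theorem cdt_f2 : (Nat.ble cdtl2.K 14 && Nat.ble (topK [cdtl3, cdtl4, cdtl5, cdtl6]) cdtl2.K && fixLetters cdth_P (topK [cdtl3, cdtl4, cdtl5, cdtl6]) (cdtl2.Pt 0)) = true := by decide +kernel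
theorem cdt_f1 : (Nat.ble cdtl1.K 14 && Nat.ble (topK [cdtl2, cdtl3, cdtl4, cdtl5, cdtl6]) cdtl1.K && fixLetters cdth_P (topK [cdtl2, cdtl3, cdtl4, cdtl5, cdtl6]) (cdtl1.Pt 0)) = true := by decide +kernel
theorem cdt_f0 : (Nat.ble cdtl0.K 14 && Nat.ble (topK [cdtl1, cdtl2, cdtl3, cdtl4, cdtl5, cdtl6]) cdtl0.K && fixLetters cdth_P (topK [cdtl1, cdtl2, cdtl3, cdtl4, cdtl5, cdtl6]) (cdtl0.Pt 0)) = true := by decide +kernel
theorem cdt_c : chainCard [cdtl0, cdtl1, cdtl2, cdtl3, cdtl4, cdtl5, cdtl6] = 44352000 := by decide +kernel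
theorem cde_lt : H16.allL (ltAll 6) cde_W = true := by decide +kernel
theorem cd_f6 : (Nat.ble cdtl6.K 14 && Nat.blt (nat_lit 1) 100 && fixLetters cdth_P cdtl6.K (nat_lit 1) && Nat.beq (ltAll 2 [nat_lit 0]) 0 && Nat.beq (apW d_P [nat_lit 0] (nat_lit 1)) (cdtl6.Pt 0)) = true := by decide +kernel
theorem cd_f5 : (Nat.ble cdtl5.K 14 && Nat.blt (nat_lit 1) 100 && fixLetters cdth_P cdtl5.K (nat_lit 1) && Nat.beq (ltAll 2 [nat_lit 1]) 0 && Nat.beq (apW d_P [nat_lit 1] (nat_lit 1)) (cdtl5.Pt 0)) = true := by decide +kernel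
theorem cdc4_e_0 : allZ (dent cdc4 cde_P (nat_lit 100)) (nat_lit 0) (nat_lit 15) = true := by decide +kernel
theorem cdc4_h : 0 < cdc4.n ∧ 0 < cdc4.K ∧ cdc4.Pt 0 < 100 ∧ cdc4.Q (cdc4.Pt 0) = 0 := by decide +kernel
theorem cdtn0_0 : (Nat.ble cdtl4.K 14 && Nat.beq (ltAll 100 [cdtl3.Pt 0, cdtl2.Pt 0, cdtl1.Pt 0, cdtl0.Pt 0]) 0 && kChk cde_P d_P cdtn0.Kn 2 H15.HS.B [cdtl3.Pt 0, cdtl2.Pt 0, cdtl1.Pt 0, cdtl0.Pt 0] && H16.allL (ltAll 2) cdtn0.pre && planOK cdth_P d_P 2 (cdtl4.Pt 0) cdtn0.plan [cdtl4, cdtl5, cdtl6]) = true := by decide +kernel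
theorem cdtn0_1_0 : allZ (cdtn0.ent H15.HS.P cdth_P d_P d_P cde_P (nat_lit 6) (nat_lit 2) H15.HS.B cdtl4 [cdtl5, cdtl6] (memO cdc4)) (nat_lit 0) (nat_lit 16) = true := by decide +kernel
theorem cd_f4 : (Nat.ble cdc4.K 4 && Nat.ble (topK []) cdc4.K && Nat.beq (cdc4.Pt 0) (cdtl4.Pt 0) && Nat.beq (ltAll 100 [cdtl3.Pt 0, cdtl2.Pt 0, cdtl1.Pt 0, cdtl0.Pt 0]) 0 && kChk cde_P d_P cdc4.K 2 H15.HS.B [cdtl3.Pt 0, cdtl2.Pt 0, cdtl1.Pt 0, cdtl0.Pt 0]) = true := by decide +kernel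
theorem cd_f3 : (Nat.ble cdtl3.K 14 && Nat.blt (nat_lit 2) 100 && fixLetters cdth_P cdtl3.K (nat_lit 2) && Nat.beq (ltAll 2 [nat_lit 0, nat_lit 0, nat_lit 0]) 0 && Nat.beq (apW d_P [nat_lit 0, nat_lit 0, nat_lit 0] (nat_lit 2)) (cdtl3.Pt 0)) = true := by decide +kernel
theorem cd_f2 : (Nat.ble cdtl2.K 14 && Nat.blt (nat_lit 2) 100 && fixLetters cdth_P cdtl2.K (nat_lit 2) && Nat.beq (ltAll 2 [nat_lit 0, nat_lit 0]) 0 && Nat.beq (apW d_P [nat_lit 0, nat_lit 0] (nat_lit 2)) (cdtl2.Pt 0)) = true := by decide +kernel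
theorem cd_f1 : (Nat.ble cdtl1.K 14 && Nat.blt (nat_lit 2) 100 && fixLetters cdth_P cdtl1.K (nat_lit 2) && Nat.beq (ltAll 2 [nat_lit 0]) 0 && Nat.beq (apW d_P [nat_lit 0] (nat_lit 2)) (cdtl1.Pt 0)) = true := by decide +kernel
theorem cdc0_e_0 : allZ (dent cdc0 cde_P (nat_lit 100)) (nat_lit 0) (nat_lit 3) = true := by decide +kernel
theorem cdc0_h : 0 < cdc0.n ∧ 0 < cdc0.K ∧ cdc0.Pt 0 < 100 ∧ cdc0.Q (cdc0.Pt 0) = 0 := by decide +kernel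
theorem cdtn1y4_lt : H16.allL (ltAll 6) cdtn1y4_W = true := by decide +kernel
theorem cdtr2k_lt : H16.allL (ltAll 6) cdtr2k_W = true := by decide +kernel
theorem cdtn2_0 : (Nat.ble cdtl4.K 14 && Nat.beq (ltAll 100 [cdtl3.Pt 0, cdtl2.Pt 0, cdtl1.Pt 0, cdtl0.Pt 0]) 0 && kChk cdtr2k_P cdtn1y4_P cdtn2.Kn 2 H15.HS.B [cdtl3.Pt 0, cdtl2.Pt 0, cdtl1.Pt 0, cdtl0.Pt 0] && H16.allL (ltAll 2) cdtn2.pre && planOK cdth_P d_P 2 (cdtl4.Pt 0) cdtn2.plan [cdtl4, cdtl5, cdtl6]) = true := by decide +kernel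
theorem cdtn2_1_0 : allZ (cdtn2.ent H15.HS.P cdth_P d_P cdtn1y4_P cdtr2k_P (nat_lit 6) (nat_lit 2) H15.HS.B cdtl4 [cdtl5, cdtl6] (fun _ => nat_lit 1)) (nat_lit 0) (nat_lit 16) = true := by decide +kernel
theorem cdtn1_0 : (Nat.ble cdtl0.K 14 && Nat.beq (ltAll 100 []) 0 && kChk cde_P d_P cdtn1.Kn 2 H15.HS.B [] && H16.allL (ltAll 2) cdtn1.pre && planOK cdth_P d_P 2 (cdtl0.Pt 0) cdtn1.plan [cdtl0, cdtl1, cdtl2, cdtl3, cdtl4, cdtl5, cdtl6]) = true := by decide +kernel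
theorem cdtn1_1_0 : allZ (cdtn1.ent H15.HS.P cdth_P d_P d_P cde_P (nat_lit 6) (nat_lit 2) H15.HS.B cdtl0 [cdtl1, cdtl2, cdtl3, cdtl4, cdtl5, cdtl6] (memO cdc0)) (nat_lit 0) (nat_lit 100) = true := by decide +kernel
theorem cd_f0 : (Nat.ble cdc0.K 4 && Nat.ble (topK [cdc4]) cdc0.K && Nat.beq (cdc0.Pt 0) (cdtl0.Pt 0) && Nat.beq (ltAll 100 []) 0 && kChk cde_P d_P cdc0.K 2 H15.HS.B []) = true := by decide +kernel
theorem cd_c : chainCard [cdc0, cdc4] = 64 ∧ topK [cdc0, cdc4] = 4 := by decide +kernel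
theorem wd0_k_0 : allZ (cmEnt H15.IC.HS.p2t_P cde_P (nat_lit 3) H15.HS.B (nat_lit 0)) (nat_lit 0) (nat_lit 3) = true := by decide +kernel
theorem wd1_k_0 : allZ (cmEnt H15.IC.HS.p2t_P cde_P (nat_lit 3) H15.HS.B (nat_lit 1)) (nat_lit 0) (nat_lit 3) = true := by decide +kernel
theorem wd2_k_0 : allZ (cmEnt H15.IC.HS.p2t_P cde_P (nat_lit 3) H15.HS.B (nat_lit 2)) (nat_lit 0) (nat_lit 3) = true := by decide +kernel
theorem wd3_k_0 : allZ (cmEnt H15.IC.HS.p2t_P cde_P (nat_lit 3) H15.HS.B (nat_lit 3)) (nat_lit 0) (nat_lit 3) = true := by decide +kernel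
theorem wU_k : allZ (fun a => Nat.add (ltAll 9 (nth [] [[nat_lit 0, nat_lit 2, nat_lit 5, nat_lit 6, nat_lit 8],
  [nat_lit 1, nat_lit 2, nat_lit 5, nat_lit 6, nat_lit 8],
  [nat_lit 0, nat_lit 2, nat_lit 4, nat_lit 5, nat_lit 6, nat_lit 8],
  [nat_lit 0, nat_lit 1, nat_lit 4, nat_lit 6, nat_lit 8]] a)) (sumL (fun β => Nat.xor (cde_P a β) (apW H15.IC.HS.p2t_P (nth [] [[nat_lit 0, nat_lit 2, nat_lit 5, nat_lit 6, nat_lit 8],
  [nat_lit 1, nat_lit 2, nat_lit 5, nat_lit 6, nat_lit 8],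
  [nat_lit 0, nat_lit 2, nat_lit 4, nat_lit 5, nat_lit 6, nat_lit 8],
  [nat_lit 0, nat_lit 1, nat_lit 4, nat_lit 6, nat_lit 8]] a) β)) H15.HS.B)) 0 4 = true := by decide +kernel
theorem zW_k : Nat.add (ltAll 4 [nat_lit 0, nat_lit 0, nat_lit 3, nat_lit 3]) (sumL (fun β => Nat.xor (H15.IC.HS.c0ax_P 0 β) (apW cde_P [nat_lit 0, nat_lit 0, nat_lit 3, nat_lit 3] β)) H15.HS.B) = 0 := by decide +kernel
theorem f_lt : H16.allL (ltAll 6) f_W = true := by decide +kernel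
theorem f1_k : allZ (fun j => cjL cde_P f_P 4 H15.HS.B 1 [j] (nth [] [[nat_lit 0],
  [nat_lit 0, nat_lit 0, nat_lit 1, nat_lit 3, nat_lit 3],
  [nat_lit 1, nat_lit 2, nat_lit 3, nat_lit 3, nat_lit 3],
  [nat_lit 1, nat_lit 3]] j)) 0 4 = true := by decide +kernel
theorem f2_k : eqL f_P 4 H15.HS.B [nat_lit 0, nat_lit 2] [nat_lit 2, nat_lit 0] = 0 := by decide +kernel
theorem f3_k : eqL f_P 4 H15.HS.B [nat_lit 0, nat_lit 1, nat_lit 2, nat_lit 1] [nat_lit 1, nat_lit 2, nat_lit 1, nat_lit 3] = 0 := by decide +kernel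
theorem f4_k : 78 < 100 ∧ ltAll 4 [nat_lit 3, nat_lit 0] = 0 ∧ ltAll 4 [nat_lit 0, nat_lit 3] = 0 ∧ apW f_P [nat_lit 3, nat_lit 0] 78 ≠ apW f_P [nat_lit 0, nat_lit 3] 78 := by decide +kernel

theorem cz {G Ω : Type*} [Group G] [MulAction G Ω] {g : ℕ → G} {pt : ℕ → Ω}
    (M : Md g pt H15.HS.P 100 6 H15.HS.B 44352000) : Subgroup.centralizer {(wds g H15.IC.HS.c0ax_W) 0} = (gen (wds g H15.IC.HS.c0ace_W) 5) :=
  H15.IC.HS.c0ac_c.2 ▸ (H15.IC.HS.c0ac M).cent1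
theorem zU {G Ω : Type*} [Group G] [MulAction G Ω] {g : ℕ → G} {pt : ℕ → Ω}
    (M : Md g pt H15.HS.P 100 6 H15.HS.B 44352000) : (wds g H15.IC.HS.c0ax_W) 0 = evA (wds g H15.IC.HS.p2t_W) [0] ∧ (wds g H15.IC.HS.c0ax_W) 0 ∈ gen (wds g H15.IC.HS.p2t_W) 9 :=
  M.eqw (H15.IC.HS.p2t_act M) (H15.IC.HS.c0ax_act M) (by decide) zU_k
theorem Uz_k : ∀ i < 9, (cmEnt H15.IC.HS.p2t_P H15.IC.HS.c0ax_P (nat_lit 9) H15.HS.B (nat_lit 0)) i = 0 := allZ_sound0 Uz_k_0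
theorem Uz {G Ω : Type*} [Group G] [MulAction G Ω] {g : ℕ → G} {pt : ℕ → Ω}
    (M : Md g pt H15.HS.P 100 6 H15.HS.B 44352000) : (wds g H15.IC.HS.c0ax_W) 0 ∈ Subgroup.centralizer ((gen (wds g H15.IC.HS.p2t_W) 9) : Set G) :=
  cms M (H15.IC.HS.p2t_act M) (H15.IC.HS.c0ax_act M) (by decide) Uz_k
theorem z1 {G Ω : Type*} [Group G] [MulAction G Ω] {g : ℕ → G} {pt : ℕ → Ω}
    (M : Md g pt H15.HS.P 100 6 H15.HS.B 44352000) : (wds g H15.IC.HS.c0ax_W) 0 ^ 1 ≠ 1 :=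
  M.npw (H15.IC.HS.c0ax_act M) _ z1_k
theorem cuth_act {G Ω : Type*} [Group G] [MulAction G Ω] {g : ℕ → G} {pt : ℕ → Ω}
    (M : Md g pt H15.HS.P 100 6 H15.HS.B 44352000) : Act (wds g cuth_W) pt cuth_P 100 12 :=
  M.wact cuth_lt
theorem cutl0_e : ∀ i < 99, (dent cutl0 cuth_P (nat_lit 100)) i = 0 := allZ_sound0 cutl0_e_0
theorem cutl0_ok : DOK cutl0 cuth_P 100 := ⟨cutl0_h, cutl0_e⟩
theorem cutl1_e : ∀ i < 21, (dent cutl1 cuth_P (nat_lit 100)) i = 0 := allZ_sound0 cutl1_e_0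
theorem cutl1_ok : DOK cutl1 cuth_P 100 := ⟨cutl1_h, cutl1_e⟩
theorem cutl2_e : ∀ i < 20, (dent cutl2 cuth_P (nat_lit 100)) i = 0 := allZ_sound0 cutl2_e_0
theorem cutl2_ok : DOK cutl2 cuth_P 100 := ⟨cutl2_h, cutl2_e⟩
theorem cutl3_e : ∀ i < 19, (dent cutl3 cuth_P (nat_lit 100)) i = 0 := allZ_sound0 cutl3_e_0
theorem cutl3_ok : DOK cutl3 cuth_P 100 := ⟨cutl3_h, cutl3_e⟩
theorem cutl4_e : ∀ i < 11, (dent cutl4 cuth_P (nat_lit 100)) i = 0 := allZ_sound0 cutl4_e_0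
theorem cutl4_ok : DOK cutl4 cuth_P 100 := ⟨cutl4_h, cutl4_e⟩
theorem cutl5_e : ∀ i < 3, (dent cutl5 cuth_P (nat_lit 100)) i = 0 := allZ_sound0 cutl5_e_0
theorem cutl5_ok : DOK cutl5 cuth_P 100 := ⟨cutl5_h, cutl5_e⟩
theorem cut_low {G Ω : Type*} [Group G] [MulAction G Ω] {g : ℕ → G} {pt : ℕ → Ω}
    (M : Md g pt H15.HS.P 100 6 H15.HS.B 44352000) : SLow (gi (wds g cuth_W)) pt 100 [cutl0, cutl1, cutl2, cutl3, cutl4, cutl5] :=
  ((((((SLow.nil).cons cutl5_ok (cuth_act M) cut_f5).cons cutl4_ok (cuth_act M) cut_f4).cons cutl3_ok (cuth_act M) cut_f3).cons cutl2_ok (cuth_act M) cut_f2).cons cutl1_ok (cuth_act M) cut_f1).cons cutl0_ok (cuth_act M) cut_f0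
theorem cut_S0 {G Ω : Type*} [Group G] [MulAction G Ω] {g : ℕ → G} {pt : ℕ → Ω}
    (M : Md g pt H15.HS.P 100 6 H15.HS.B 44352000) : Stage ⊤ (wds g cuth_W) pt 100 [cutl0, cutl1, cutl2, cutl3, cutl4, cutl5] [] :=
  M.stage (cut_low M) cut_c
theorem cut_S1 {G Ω : Type*} [Group G] [MulAction G Ω] {g : ℕ → G} {pt : ℕ → Ω}
    (M : Md g pt H15.HS.P 100 6 H15.HS.B 44352000) : Stage ⊤ (wds g cuth_W) pt 100 [cutl1, cutl2, cutl3, cutl4, cutl5] [cutl0.Pt 0] :=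
  (cut_S0 M).next
theorem cut_S2 {G Ω : Type*} [Group G] [MulAction G Ω] {g : ℕ → G} {pt : ℕ → Ω}
    (M : Md g pt H15.HS.P 100 6 H15.HS.B 44352000) : Stage ⊤ (wds g cuth_W) pt 100 [cutl2, cutl3, cutl4, cutl5] [cutl1.Pt 0, cutl0.Pt 0] :=
  (cut_S1 M).next
theorem cut_S3 {G Ω : Type*} [Group G] [MulAction G Ω] {g : ℕ → G} {pt : ℕ → Ω}
    (M : Md g pt H15.HS.P 100 6 H15.HS.B 44352000) : Stage ⊤ (wds g cuth_W) pt 100 [cutl3, cutl4, cutl5] [cutl2.Pt 0, cutl1.Pt 0, cutl0.Pt 0] :=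
  (cut_S2 M).next
theorem cut_S4 {G Ω : Type*} [Group G] [MulAction G Ω] {g : ℕ → G} {pt : ℕ → Ω}
    (M : Md g pt H15.HS.P 100 6 H15.HS.B 44352000) : Stage ⊤ (wds g cuth_W) pt 100 [cutl4, cutl5] [cutl3.Pt 0, cutl2.Pt 0, cutl1.Pt 0, cutl0.Pt 0] :=
  (cut_S3 M).next
theorem cut_S5 {G Ω : Type*} [Group G] [MulAction G Ω] {g : ℕ → G} {pt : ℕ → Ω}
    (M : Md g pt H15.HS.P 100 6 H15.HS.B 44352000) : Stage ⊤ (wds g cuth_W) pt 100 [cutl5] [cutl4.Pt 0, cutl3.Pt 0, cutl2.Pt 0, cutl1.Pt 0, cutl0.Pt 0] :=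
  (cut_S4 M).next
theorem cut_S6 {G Ω : Type*} [Group G] [MulAction G Ω] {g : ℕ → G} {pt : ℕ → Ω}
    (M : Md g pt H15.HS.P 100 6 H15.HS.B 44352000) : Stage ⊤ (wds g cuth_W) pt 100 [] [cutl5.Pt 0, cutl4.Pt 0, cutl3.Pt 0, cutl2.Pt 0, cutl1.Pt 0, cutl0.Pt 0] :=
  (cut_S5 M).next
theorem cue_act {G Ω : Type*} [Group G] [MulAction G Ω] {g : ℕ → G} {pt : ℕ → Ω}
    (M : Md g pt H15.HS.P 100 6 H15.HS.B 44352000) : Act (wds g cue_W) pt cue_P 100 1 :=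
  M.wact cue_lt
theorem cuc0_e : ∀ i < 1, (dent cuc0 cue_P (nat_lit 100)) i = 0 := allZ_sound0 cuc0_e_0
theorem cuc0_ok : DOK cuc0 cue_P 100 := ⟨cuc0_h, cuc0_e⟩
theorem cutn0_1 : ∀ i < 100, (cutn0.ent H15.HS.P cuth_P H15.IC.HS.p2t_P H15.IC.HS.p2t_P cue_P (nat_lit 6) (nat_lit 9) H15.HS.B cutl0 [cutl1, cutl2, cutl3, cutl4, cutl5] (memO cuc0)) i = 0 := allZ_sound0 cutn0_1_0
theorem cutn0_t {G Ω : Type*} [Group G] [MulAction G Ω] {g : ℕ → G} {pt : ℕ → Ω}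
    (M : Md g pt H15.HS.P 100 6 H15.HS.B 44352000) : TrO (gen (wds g cuth_W) cutl0.K) (wds g H15.IC.HS.p2t_W) (wds g H15.IC.HS.p2t_W) 9 pt 100 (cutl0.Pt 0) (memO cuc0) :=
  node M (cut_S0 M) (cuth_act M) (H15.IC.HS.p2t_act M) (H15.IC.HS.p2t_act M) cutn0 ((cue_act M).mono (by decide)) (fun _ _ => trivial) cutn0_0 cutn0_1 (List.forall_mem_nil _)
theorem cu {G Ω : Type*} [Group G] [MulAction G Ω] {g : ℕ → G} {pt : ℕ → Ω}
    (M : Md g pt H15.HS.P 100 6 H15.HS.B 44352000) : Cen ⊤ (wds g H15.IC.HS.p2t_W) 9 (wds g cue_W) pt 100 [cuc0] :=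
  (cut_S0 M).top ▸ Cen.lev M (cut_S0 M) (Cen.triv (cut_S1 M) (Cen.triv (cut_S2 M) (Cen.triv (cut_S3 M) (Cen.triv (cut_S4 M) (Cen.triv (cut_S5 M) (Cen.bot) (forced (cut_S5 M) (cuth_act M) (H15.IC.HS.p2t_act M) _ _ cu_f5)) (forced (cut_S4 M) (cuth_act M) (H15.IC.HS.p2t_act M) _ _ cu_f4)) (forced (cut_S3 M) (cuth_act M) (H15.IC.HS.p2t_act M) _ _ cu_f3)) (forced (cut_S2 M) (cuth_act M) (H15.IC.HS.p2t_act M) _ _ cu_f2)) (forced (cut_S1 M) (cuth_act M) (H15.IC.HS.p2t_act M) _ _ cu_f1)) (cutn0_t M) (H15.IC.HS.p2t_act M) (cue_act M) (fun _ _ => trivial) cuc0_ok cu_f0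
theorem cu_eq {G Ω : Type*} [Group G] [MulAction G Ω] {g : ℕ → G} {pt : ℕ → Ω}
    (M : Md g pt H15.HS.P 100 6 H15.HS.B 44352000) : Subgroup.centralizer (gen (wds g H15.IC.HS.p2t_W) 9) = gen (wds g cue_W) 1 ∧ Nat.card (gen (wds g cue_W) 1) = 2 :=
  cu_c.1 ▸ cu_c.2 ▸ ⟨(cu M).cent, (cu M).card M.inj⟩
theorem v_act {G Ω : Type*} [Group G] [MulAction G Ω] {g : ℕ → G} {pt : ℕ → Ω}
    (M : Md g pt H15.HS.P 100 6 H15.HS.B 44352000) : Act (wds g v_W) pt v_P 100 6 :=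
  M.wact v_lt
theorem cvth_act {G Ω : Type*} [Group G] [MulAction G Ω] {g : ℕ → G} {pt : ℕ → Ω}
    (M : Md g pt H15.HS.P 100 6 H15.HS.B 44352000) : Act (wds g cvth_W) pt cvth_P 100 11 :=
  M.wact cvth_lt
theorem cvtl0_e : ∀ i < 99, (dent cvtl0 cvth_P (nat_lit 100)) i = 0 := allZ_sound0 cvtl0_e_0
theorem cvtl0_ok : DOK cvtl0 cvth_P 100 := ⟨cvtl0_h, cvtl0_e⟩
theorem cvtl1_e : ∀ i < 21, (dent cvtl1 cvth_P (nat_lit 100)) i = 0 := allZ_sound0 cvtl1_e_0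
theorem cvtl1_ok : DOK cvtl1 cvth_P 100 := ⟨cvtl1_h, cvtl1_e⟩
theorem cvtl2_e : ∀ i < 20, (dent cvtl2 cvth_P (nat_lit 100)) i = 0 := allZ_sound0 cvtl2_e_0
theorem cvtl2_ok : DOK cvtl2 cvth_P 100 := ⟨cvtl2_h, cvtl2_e⟩
theorem cvtl3_e : ∀ i < 39, (dent cvtl3 cvth_P (nat_lit 100)) i = 0 := allZ_sound0 cvtl3_e_0
theorem cvtl3_ok : DOK cvtl3 cvth_P 100 := ⟨cvtl3_h, cvtl3_e⟩
theorem cvtl4_e : ∀ i < 23, (dent cvtl4 cvth_P (nat_lit 100)) i = 0 := allZ_sound0 cvtl4_e_0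
theorem cvtl4_ok : DOK cvtl4 cvth_P 100 := ⟨cvtl4_h, cvtl4_e⟩
theorem cvt_low {G Ω : Type*} [Group G] [MulAction G Ω] {g : ℕ → G} {pt : ℕ → Ω}
    (M : Md g pt H15.HS.P 100 6 H15.HS.B 44352000) : SLow (gi (wds g cvth_W)) pt 100 [cvtl0, cvtl1, cvtl2, cvtl3, cvtl4] :=
  (((((SLow.nil).cons cvtl4_ok (cvth_act M) cvt_f4).cons cvtl3_ok (cvth_act M) cvt_f3).cons cvtl2_ok (cvth_act M) cvt_f2).cons cvtl1_ok (cvth_act M) cvt_f1).cons cvtl0_ok (cvth_act M) cvt_f0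
theorem cvt_S0 {G Ω : Type*} [Group G] [MulAction G Ω] {g : ℕ → G} {pt : ℕ → Ω}
    (M : Md g pt H15.HS.P 100 6 H15.HS.B 44352000) : Stage ⊤ (wds g cvth_W) pt 100 [cvtl0, cvtl1, cvtl2, cvtl3, cvtl4] [] :=
  M.stage (cvt_low M) cvt_c
theorem cvt_S1 {G Ω : Type*} [Group G] [MulAction G Ω] {g : ℕ → G} {pt : ℕ → Ω}
    (M : Md g pt H15.HS.P 100 6 H15.HS.B 44352000) : Stage ⊤ (wds g cvth_W) pt 100 [cvtl1, cvtl2, cvtl3, cvtl4] [cvtl0.Pt 0] :=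
  (cvt_S0 M).next
theorem cvt_S2 {G Ω : Type*} [Group G] [MulAction G Ω] {g : ℕ → G} {pt : ℕ → Ω}
    (M : Md g pt H15.HS.P 100 6 H15.HS.B 44352000) : Stage ⊤ (wds g cvth_W) pt 100 [cvtl2, cvtl3, cvtl4] [cvtl1.Pt 0, cvtl0.Pt 0] :=
  (cvt_S1 M).next
theorem cvt_S3 {G Ω : Type*} [Group G] [MulAction G Ω] {g : ℕ → G} {pt : ℕ → Ω}
    (M : Md g pt H15.HS.P 100 6 H15.HS.B 44352000) : Stage ⊤ (wds g cvth_W) pt 100 [cvtl3, cvtl4] [cvtl2.Pt 0, cvtl1.Pt 0, cvtl0.Pt 0] :=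
  (cvt_S2 M).next
theorem cvt_S4 {G Ω : Type*} [Group G] [MulAction G Ω] {g : ℕ → G} {pt : ℕ → Ω}
    (M : Md g pt H15.HS.P 100 6 H15.HS.B 44352000) : Stage ⊤ (wds g cvth_W) pt 100 [cvtl4] [cvtl3.Pt 0, cvtl2.Pt 0, cvtl1.Pt 0, cvtl0.Pt 0] :=
  (cvt_S3 M).next
theorem cvt_S5 {G Ω : Type*} [Group G] [MulAction G Ω] {g : ℕ → G} {pt : ℕ → Ω}
    (M : Md g pt H15.HS.P 100 6 H15.HS.B 44352000) : Stage ⊤ (wds g cvth_W) pt 100 [] [cvtl4.Pt 0, cvtl3.Pt 0, cvtl2.Pt 0, cvtl1.Pt 0, cvtl0.Pt 0] :=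
  (cvt_S4 M).next
theorem cve_act {G Ω : Type*} [Group G] [MulAction G Ω] {g : ℕ → G} {pt : ℕ → Ω}
    (M : Md g pt H15.HS.P 100 6 H15.HS.B 44352000) : Act (wds g cve_W) pt cve_P 100 2 :=
  M.wact cve_lt
theorem cvc0_e : ∀ i < 3, (dent cvc0 cve_P (nat_lit 100)) i = 0 := allZ_sound0 cvc0_e_0
theorem cvc0_ok : DOK cvc0 cve_P 100 := ⟨cvc0_h, cvc0_e⟩
theorem cvtn0_1 : ∀ i < 100, (cvtn0.ent H15.HS.P cvth_P v_P v_P cve_P (nat_lit 6) (nat_lit 6) H15.HS.B cvtl0 [cvtl1, cvtl2, cvtl3, cvtl4] (memO cvc0)) i = 0 := allZ_sound0 cvtn0_1_0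
theorem cvtn0_t {G Ω : Type*} [Group G] [MulAction G Ω] {g : ℕ → G} {pt : ℕ → Ω}
    (M : Md g pt H15.HS.P 100 6 H15.HS.B 44352000) : TrO (gen (wds g cvth_W) cvtl0.K) (wds g v_W) (wds g v_W) 6 pt 100 (cvtl0.Pt 0) (memO cvc0) :=
  node M (cvt_S0 M) (cvth_act M) (v_act M) (v_act M) cvtn0 ((cve_act M).mono (by decide)) (fun _ _ => trivial) cvtn0_0 cvtn0_1 (List.forall_mem_nil _)
theorem cv {G Ω : Type*} [Group G] [MulAction G Ω] {g : ℕ → G} {pt : ℕ → Ω}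
    (M : Md g pt H15.HS.P 100 6 H15.HS.B 44352000) : Cen ⊤ (wds g v_W) 6 (wds g cve_W) pt 100 [cvc0] :=
  (cvt_S0 M).top ▸ Cen.lev M (cvt_S0 M) (Cen.triv (cvt_S1 M) (Cen.triv (cvt_S2 M) (Cen.triv (cvt_S3 M) (Cen.triv (cvt_S4 M) (Cen.bot) (forced (cvt_S4 M) (cvth_act M) (v_act M) _ _ cv_f4)) (forced (cvt_S3 M) (cvth_act M) (v_act M) _ _ cv_f3)) (forced (cvt_S2 M) (cvth_act M) (v_act M) _ _ cv_f2)) (forced (cvt_S1 M) (cvth_act M) (v_act M) _ _ cv_f1)) (cvtn0_t M) (v_act M) (cve_act M) (fun _ _ => trivial) cvc0_ok cv_f0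
theorem cv_eq {G Ω : Type*} [Group G] [MulAction G Ω] {g : ℕ → G} {pt : ℕ → Ω}
    (M : Md g pt H15.HS.P 100 6 H15.HS.B 44352000) : Subgroup.centralizer (gen (wds g v_W) 6) = gen (wds g cve_W) 2 ∧ Nat.card (gen (wds g cve_W) 2) = 4 :=
  cv_c.1 ▸ cv_c.2 ▸ ⟨(cv M).cent, (cv M).card M.inj⟩
theorem nv_k : ∀ k < 5, ∀ i < 6, (nrmEnt v_P H15.IC.HS.c0ace_P (nat_lit 6) H15.HS.B nvW) k i = 0 := allZ2_sound nv_k_a
theorem nv {G Ω : Type*} [Group G] [MulAction G Ω] {g : ℕ → G} {pt : ℕ → Ω}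
    (M : Md g pt H15.HS.P 100 6 H15.HS.B 44352000) : (gen (wds g H15.IC.HS.c0ace_W) 5) ≤ Subgroup.normalizer ((gen (wds g v_W) 6) : Set G) :=
  norms M (v_act M) (H15.IC.HS.c0ace_act M) nv_k
theorem vz_k : ∀ i < 6, (cmEnt v_P H15.IC.HS.c0ax_P (nat_lit 6) H15.HS.B (nat_lit 0)) i = 0 := allZ_sound0 vz_k_0
theorem vz {G Ω : Type*} [Group G] [MulAction G Ω] {g : ℕ → G} {pt : ℕ → Ω}
    (M : Md g pt H15.HS.P 100 6 H15.HS.B 44352000) : (wds g H15.IC.HS.c0ax_W) 0 ∈ Subgroup.centralizer ((gen (wds g v_W) 6) : Set G) :=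
  cms M (v_act M) (H15.IC.HS.c0ax_act M) (by decide) vz_k
theorem vU {G Ω : Type*} [Group G] [MulAction G Ω] {g : ℕ → G} {pt : ℕ → Ω}
    (M : Md g pt H15.HS.P 100 6 H15.HS.B 44352000) : gen (wds g v_W) 6 ≤ gen (wds g H15.IC.HS.p2t_W) 9 :=
  M.gen_le (H15.IC.HS.p2t_act M) (v_act M) vU_k
theorem z0 {G Ω : Type*} [Group G] [MulAction G Ω] {g : ℕ → G} {pt : ℕ → Ω}
    (M : Md g pt H15.HS.P 100 6 H15.HS.B 44352000) : Z0 (gen (wds g H15.IC.HS.p2t_W) 9) ((wds g H15.IC.HS.c0ax_W) 0) :=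
  have := M.fin
  have s := pc_syl (H15.IC.HS.p2_pc M)
  ⟨s, (zU M).2, Uz M, z1 M, ((congrArg (fun H : Subgroup G => Nat.card H) (cu_eq M).1).trans (cu_eq M).2), cp_sub (k := 2) (H19.le_cent1_iff.2 (vz M)) ((cz M).le.trans (nv M)) (s.pi.of_le (vU M)) ((congrArg (fun H : Subgroup G => Nat.card H) (cv_eq M).1).trans (cv_eq M).2)⟩
theorem d_act {G Ω : Type*} [Group G] [MulAction G Ω] {g : ℕ → G} {pt : ℕ → Ω}
    (M : Md g pt H15.HS.P 100 6 H15.HS.B 44352000) : Act (wds g d_W) pt d_P 100 2 :=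
  M.wact d_lt
theorem dr0 {G Ω : Type*} [Group G] [MulAction G Ω] {g : ℕ → G} {pt : ℕ → Ω}
    (M : Md g pt H15.HS.P 100 6 H15.HS.B 44352000) : evA (wds g H15.IC.HS.p2t_W) [7, 8] = evA (wds g H15.IC.HS.p2t_W) [8, 7, 0, 3, 4] :=
  M.eq_of (H15.IC.HS.p2t_act M) dr0_k
theorem de0 {G Ω : Type*} [Group G] [MulAction G Ω] {g : ℕ → G} {pt : ℕ → Ω}
    (M : Md g pt H15.HS.P 100 6 H15.HS.B 44352000) : (wds g d_W) 0 = evA (wds g H15.IC.HS.p2t_W) [0, 2] ∧ (wds g d_W) 0 ∈ gen (wds g H15.IC.HS.p2t_W) 9 :=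
  M.eqw (H15.IC.HS.p2t_act M) (d_act M) (by decide) de0_k
theorem ds0 {G Ω : Type*} [Group G] [MulAction G Ω] {g : ℕ → G} {pt : ℕ → Ω}
    (M : Md g pt H15.HS.P 100 6 H15.HS.B 44352000) : evA (wds g H15.IC.HS.p2t_W) [8, 0, 3, 4] = evA (wds g H15.IC.HS.p2t_W) [0, 3, 4, 8, 0, 2] :=
  M.eq_of (H15.IC.HS.p2t_act M) ds0_k
theorem dr1 {G Ω : Type*} [Group G] [MulAction G Ω] {g : ℕ → G} {pt : ℕ → Ω}
    (M : Md g pt H15.HS.P 100 6 H15.HS.B 44352000) : evA (wds g H15.IC.HS.p2t_W) [6, 8] = evA (wds g H15.IC.HS.p2t_W) [8, 6, 0, 1, 5] :=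
  M.eq_of (H15.IC.HS.p2t_act M) dr1_k
theorem de1 {G Ω : Type*} [Group G] [MulAction G Ω] {g : ℕ → G} {pt : ℕ → Ω}
    (M : Md g pt H15.HS.P 100 6 H15.HS.B 44352000) : (wds g d_W) 1 = evA (wds g H15.IC.HS.p2t_W) [0, 1] ∧ (wds g d_W) 1 ∈ gen (wds g H15.IC.HS.p2t_W) 9 :=
  M.eqw (H15.IC.HS.p2t_act M) (d_act M) (by decide) de1_k
theorem ds1 {G Ω : Type*} [Group G] [MulAction G Ω] {g : ℕ → G} {pt : ℕ → Ω}
    (M : Md g pt H15.HS.P 100 6 H15.HS.B 44352000) : evA (wds g H15.IC.HS.p2t_W) [6, 0, 1, 5] = evA (wds g H15.IC.HS.p2t_W) [0, 1, 5, 6, 0, 1] :=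
  M.eq_of (H15.IC.HS.p2t_act M) ds1_k
theorem cdth_act {G Ω : Type*} [Group G] [MulAction G Ω] {g : ℕ → G} {pt : ℕ → Ω}
    (M : Md g pt H15.HS.P 100 6 H15.HS.B 44352000) : Act (wds g cdth_W) pt cdth_P 100 14 :=
  M.wact cdth_lt
theorem cdtl0_e : ∀ i < 99, (dent cdtl0 cdth_P (nat_lit 100)) i = 0 := allZ_sound0 cdtl0_e_0
theorem cdtl0_ok : DOK cdtl0 cdth_P 100 := ⟨cdtl0_h, cdtl0_e⟩
theorem cdtl1_e : ∀ i < 21, (dent cdtl1 cdth_P (nat_lit 100)) i = 0 := allZ_sound0 cdtl1_e_0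
theorem cdtl1_ok : DOK cdtl1 cdth_P 100 := ⟨cdtl1_h, cdtl1_e⟩
theorem cdtl2_e : ∀ i < 20, (dent cdtl2 cdth_P (nat_lit 100)) i = 0 := allZ_sound0 cdtl2_e_0
theorem cdtl2_ok : DOK cdtl2 cdth_P 100 := ⟨cdtl2_h, cdtl2_e⟩
theorem cdtl3_e : ∀ i < 4, (dent cdtl3 cdth_P (nat_lit 100)) i = 0 := allZ_sound0 cdtl3_e_0
theorem cdtl3_ok : DOK cdtl3 cdth_P 100 := ⟨cdtl3_h, cdtl3_e⟩
theorem cdtl4_e : ∀ i < 15, (dent cdtl4 cdth_P (nat_lit 100)) i = 0 := allZ_sound0 cdtl4_e_0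
theorem cdtl4_ok : DOK cdtl4 cdth_P 100 := ⟨cdtl4_h, cdtl4_e⟩
theorem cdtl5_e : ∀ i < 2, (dent cdtl5 cdth_P (nat_lit 100)) i = 0 := allZ_sound0 cdtl5_e_0
theorem cdtl5_ok : DOK cdtl5 cdth_P 100 := ⟨cdtl5_h, cdtl5_e⟩
theorem cdtl6_e : ∀ i < 3, (dent cdtl6 cdth_P (nat_lit 100)) i = 0 := allZ_sound0 cdtl6_e_0
theorem cdtl6_ok : DOK cdtl6 cdth_P 100 := ⟨cdtl6_h, cdtl6_e⟩
theorem cdt_low {G Ω : Type*} [Group G] [MulAction G Ω] {g : ℕ → G} {pt : ℕ → Ω}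
    (M : Md g pt H15.HS.P 100 6 H15.HS.B 44352000) : SLow (gi (wds g cdth_W)) pt 100 [cdtl0, cdtl1, cdtl2, cdtl3, cdtl4, cdtl5, cdtl6] :=
  (((((((SLow.nil).cons cdtl6_ok (cdth_act M) cdt_f6).cons cdtl5_ok (cdth_act M) cdt_f5).cons cdtl4_ok (cdth_act M) cdt_f4).cons cdtl3_ok (cdth_act M) cdt_f3).cons cdtl2_ok (cdth_act M) cdt_f2).cons cdtl1_ok (cdth_act M) cdt_f1).cons cdtl0_ok (cdth_act M) cdt_f0
theorem cdt_S0 {G Ω : Type*} [Group G] [MulAction G Ω] {g : ℕ → G} {pt : ℕ → Ω}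
    (M : Md g pt H15.HS.P 100 6 H15.HS.B 44352000) : Stage ⊤ (wds g cdth_W) pt 100 [cdtl0, cdtl1, cdtl2, cdtl3, cdtl4, cdtl5, cdtl6] [] :=
  M.stage (cdt_low M) cdt_c
theorem cdt_S1 {G Ω : Type*} [Group G] [MulAction G Ω] {g : ℕ → G} {pt : ℕ → Ω}
    (M : Md g pt H15.HS.P 100 6 H15.HS.B 44352000) : Stage ⊤ (wds g cdth_W) pt 100 [cdtl1, cdtl2, cdtl3, cdtl4, cdtl5, cdtl6] [cdtl0.Pt 0] :=
  (cdt_S0 M).next
theorem cdt_S2 {G Ω : Type*} [Group G] [MulAction G Ω] {g : ℕ → G} {pt : ℕ → Ω}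
    (M : Md g pt H15.HS.P 100 6 H15.HS.B 44352000) : Stage ⊤ (wds g cdth_W) pt 100 [cdtl2, cdtl3, cdtl4, cdtl5, cdtl6] [cdtl1.Pt 0, cdtl0.Pt 0] :=
  (cdt_S1 M).next
theorem cdt_S3 {G Ω : Type*} [Group G] [MulAction G Ω] {g : ℕ → G} {pt : ℕ → Ω}
    (M : Md g pt H15.HS.P 100 6 H15.HS.B 44352000) : Stage ⊤ (wds g cdth_W) pt 100 [cdtl3, cdtl4, cdtl5, cdtl6] [cdtl2.Pt 0, cdtl1.Pt 0, cdtl0.Pt 0] :=
  (cdt_S2 M).next
theorem cdt_S4 {G Ω : Type*} [Group G] [MulAction G Ω] {g : ℕ → G} {pt : ℕ → Ω}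
    (M : Md g pt H15.HS.P 100 6 H15.HS.B 44352000) : Stage ⊤ (wds g cdth_W) pt 100 [cdtl4, cdtl5, cdtl6] [cdtl3.Pt 0, cdtl2.Pt 0, cdtl1.Pt 0, cdtl0.Pt 0] :=
  (cdt_S3 M).next
theorem cdt_S5 {G Ω : Type*} [Group G] [MulAction G Ω] {g : ℕ → G} {pt : ℕ → Ω}
    (M : Md g pt H15.HS.P 100 6 H15.HS.B 44352000) : Stage ⊤ (wds g cdth_W) pt 100 [cdtl5, cdtl6] [cdtl4.Pt 0, cdtl3.Pt 0, cdtl2.Pt 0, cdtl1.Pt 0, cdtl0.Pt 0] :=
  (cdt_S4 M).next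
theorem cdt_S6 {G Ω : Type*} [Group G] [MulAction G Ω] {g : ℕ → G} {pt : ℕ → Ω}
    (M : Md g pt H15.HS.P 100 6 H15.HS.B 44352000) : Stage ⊤ (wds g cdth_W) pt 100 [cdtl6] [cdtl5.Pt 0, cdtl4.Pt 0, cdtl3.Pt 0, cdtl2.Pt 0, cdtl1.Pt 0, cdtl0.Pt 0] :=
  (cdt_S5 M).next
theorem cdt_S7 {G Ω : Type*} [Group G] [MulAction G Ω] {g : ℕ → G} {pt : ℕ → Ω}
    (M : Md g pt H15.HS.P 100 6 H15.HS.B 44352000) : Stage ⊤ (wds g cdth_W) pt 100 [] [cdtl6.Pt 0, cdtl5.Pt 0, cdtl4.Pt 0, cdtl3.Pt 0, cdtl2.Pt 0, cdtl1.Pt 0, cdtl0.Pt 0] :=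
  (cdt_S6 M).next
theorem cde_act {G Ω : Type*} [Group G] [MulAction G Ω] {g : ℕ → G} {pt : ℕ → Ω}
    (M : Md g pt H15.HS.P 100 6 H15.HS.B 44352000) : Act (wds g cde_W) pt cde_P 100 4 :=
  M.wact cde_lt
theorem cdc4_e : ∀ i < 15, (dent cdc4 cde_P (nat_lit 100)) i = 0 := allZ_sound0 cdc4_e_0
theorem cdc4_ok : DOK cdc4 cde_P 100 := ⟨cdc4_h, cdc4_e⟩
theorem cdtn0_1 : ∀ i < 16, (cdtn0.ent H15.HS.P cdth_P d_P d_P cde_P (nat_lit 6) (nat_lit 2) H15.HS.B cdtl4 [cdtl5, cdtl6] (memO cdc4)) i = 0 := allZ_sound0 cdtn0_1_0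
theorem cdtn0_t {G Ω : Type*} [Group G] [MulAction G Ω] {g : ℕ → G} {pt : ℕ → Ω}
    (M : Md g pt H15.HS.P 100 6 H15.HS.B 44352000) : TrO (gen (wds g cdth_W) cdtl4.K) (wds g d_W) (wds g d_W) 2 pt 100 (cdtl4.Pt 0) (memO cdc4) :=
  node M (cdt_S4 M) (cdth_act M) (d_act M) (d_act M) cdtn0 ((cde_act M).mono (by decide)) (fun _ _ => trivial) cdtn0_0 cdtn0_1 (List.forall_mem_nil _)
theorem cdc0_e : ∀ i < 3, (dent cdc0 cde_P (nat_lit 100)) i = 0 := allZ_sound0 cdc0_e_0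
theorem cdc0_ok : DOK cdc0 cde_P 100 := ⟨cdc0_h, cdc0_e⟩
theorem cdtn1y4_act {G Ω : Type*} [Group G] [MulAction G Ω] {g : ℕ → G} {pt : ℕ → Ω}
    (M : Md g pt H15.HS.P 100 6 H15.HS.B 44352000) : Act (wds g cdtn1y4_W) pt cdtn1y4_P 100 2 :=
  M.wact cdtn1y4_lt
theorem cdtr2k_act {G Ω : Type*} [Group G] [MulAction G Ω] {g : ℕ → G} {pt : ℕ → Ω}
    (M : Md g pt H15.HS.P 100 6 H15.HS.B 44352000) : Act (wds g cdtr2k_W) pt cdtr2k_P 100 2 :=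
  M.wact cdtr2k_lt
theorem cdtn2_1 : ∀ i < 16, (cdtn2.ent H15.HS.P cdth_P d_P cdtn1y4_P cdtr2k_P (nat_lit 6) (nat_lit 2) H15.HS.B cdtl4 [cdtl5, cdtl6] (fun _ => nat_lit 1)) i = 0 := allZ_sound0 cdtn2_1_0
theorem cdtn2_t {G Ω : Type*} [Group G] [MulAction G Ω] {g : ℕ → G} {pt : ℕ → Ω}
    (M : Md g pt H15.HS.P 100 6 H15.HS.B 44352000) : TrO (gen (wds g cdth_W) cdtl4.K) (wds g d_W) (wds g cdtn1y4_W) 2 pt 100 (cdtl4.Pt 0) (fun _ => nat_lit 1) :=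
  node M (cdt_S4 M) (cdth_act M) (d_act M) (cdtn1y4_act M) cdtn2 ((cdtr2k_act M).mono (by decide)) (fun _ _ => trivial) cdtn2_0 cdtn2_1 (List.forall_mem_nil _)
theorem cdtr2 {G Ω : Type*} [Group G] [MulAction G Ω] {g : ℕ → G} {pt : ℕ → Ω}
    (M : Md g pt H15.HS.P 100 6 H15.HS.B 44352000) : Ref (gen (wds g cdth_W) (topK [cdtl4, cdtl5, cdtl6])) (wds g d_W) (wds g cdtn1y4_W) 2 :=
  (cdtn2_t M).ref
theorem cdtn1_1 : ∀ i < 100, (cdtn1.ent H15.HS.P cdth_P d_P d_P cde_P (nat_lit 6) (nat_lit 2) H15.HS.B cdtl0 [cdtl1, cdtl2, cdtl3, cdtl4, cdtl5, cdtl6] (memO cdc0)) i = 0 := allZ_sound0 cdtn1_1_0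
theorem cdtn1_t {G Ω : Type*} [Group G] [MulAction G Ω] {g : ℕ → G} {pt : ℕ → Ω}
    (M : Md g pt H15.HS.P 100 6 H15.HS.B 44352000) : TrO (gen (wds g cdth_W) cdtl0.K) (wds g d_W) (wds g d_W) 2 pt 100 (cdtl0.Pt 0) (memO cdc0) :=
  node M (cdt_S0 M) (cdth_act M) (d_act M) (d_act M) cdtn1 ((cde_act M).mono (by decide)) (fun _ _ => trivial) cdtn1_0 cdtn1_1 (List.forall_mem_cons.2 ⟨cdtr2 M, List.forall_mem_nil _⟩)
theorem cd {G Ω : Type*} [Group G] [MulAction G Ω] {g : ℕ → G} {pt : ℕ → Ω}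
    (M : Md g pt H15.HS.P 100 6 H15.HS.B 44352000) : Cen ⊤ (wds g d_W) 2 (wds g cde_W) pt 100 [cdc0, cdc4] :=
  (cdt_S0 M).top ▸ Cen.lev M (cdt_S0 M) (Cen.triv (cdt_S1 M) (Cen.triv (cdt_S2 M) (Cen.triv (cdt_S3 M) (Cen.lev M (cdt_S4 M) (Cen.triv (cdt_S5 M) (Cen.triv (cdt_S6 M) (Cen.bot) (forced (cdt_S6 M) (cdth_act M) (d_act M) _ _ cd_f6)) (forced (cdt_S5 M) (cdth_act M) (d_act M) _ _ cd_f5)) (cdtn0_t M) (d_act M) (cde_act M) (fun _ _ => trivial) cdc4_ok cd_f4) (forced (cdt_S3 M) (cdth_act M) (d_act M) _ _ cd_f3)) (forced (cdt_S2 M) (cdth_act M) (d_act M) _ _ cd_f2)) (forced (cdt_S1 M) (cdth_act M) (d_act M) _ _ cd_f1)) (cdtn1_t M) (d_act M) (cde_act M) (fun _ _ => trivial) cdc0_ok cd_f0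
theorem cd_eq {G Ω : Type*} [Group G] [MulAction G Ω] {g : ℕ → G} {pt : ℕ → Ω}
    (M : Md g pt H15.HS.P 100 6 H15.HS.B 44352000) : Subgroup.centralizer (gen (wds g d_W) 2) = gen (wds g cde_W) 4 ∧ Nat.card (gen (wds g cde_W) 4) = 64 :=
  cd_c.1 ▸ cd_c.2 ▸ ⟨(cd M).cent, (cd M).card M.inj⟩
theorem wd0_k : ∀ i < 3, (cmEnt H15.IC.HS.p2t_P cde_P (nat_lit 3) H15.HS.B (nat_lit 0)) i = 0 := allZ_sound0 wd0_k_0
theorem wd0 {G Ω : Type*} [Group G] [MulAction G Ω] {g : ℕ → G} {pt : ℕ → Ω}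
    (M : Md g pt H15.HS.P 100 6 H15.HS.B 44352000) : (wds g cde_W) 0 ∈ Subgroup.centralizer ((gen (wds g H15.IC.HS.p2t_W) 3) : Set G) :=
  cms M ((H15.IC.HS.p2t_act M).mono (by decide)) (cde_act M) (by decide) wd0_k
theorem wd1_k : ∀ i < 3, (cmEnt H15.IC.HS.p2t_P cde_P (nat_lit 3) H15.HS.B (nat_lit 1)) i = 0 := allZ_sound0 wd1_k_0
theorem wd1 {G Ω : Type*} [Group G] [MulAction G Ω] {g : ℕ → G} {pt : ℕ → Ω}
    (M : Md g pt H15.HS.P 100 6 H15.HS.B 44352000) : (wds g cde_W) 1 ∈ Subgroup.centralizer ((gen (wds g H15.IC.HS.p2t_W) 3) : Set G) :=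
  cms M ((H15.IC.HS.p2t_act M).mono (by decide)) (cde_act M) (by decide) wd1_k
theorem wd2_k : ∀ i < 3, (cmEnt H15.IC.HS.p2t_P cde_P (nat_lit 3) H15.HS.B (nat_lit 2)) i = 0 := allZ_sound0 wd2_k_0
theorem wd2 {G Ω : Type*} [Group G] [MulAction G Ω] {g : ℕ → G} {pt : ℕ → Ω}
    (M : Md g pt H15.HS.P 100 6 H15.HS.B 44352000) : (wds g cde_W) 2 ∈ Subgroup.centralizer ((gen (wds g H15.IC.HS.p2t_W) 3) : Set G) :=
  cms M ((H15.IC.HS.p2t_act M).mono (by decide)) (cde_act M) (by decide) wd2_k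
theorem wd3_k : ∀ i < 3, (cmEnt H15.IC.HS.p2t_P cde_P (nat_lit 3) H15.HS.B (nat_lit 3)) i = 0 := allZ_sound0 wd3_k_0
theorem wd3 {G Ω : Type*} [Group G] [MulAction G Ω] {g : ℕ → G} {pt : ℕ → Ω}
    (M : Md g pt H15.HS.P 100 6 H15.HS.B 44352000) : (wds g cde_W) 3 ∈ Subgroup.centralizer ((gen (wds g H15.IC.HS.p2t_W) 3) : Set G) :=
  cms M ((H15.IC.HS.p2t_act M).mono (by decide)) (cde_act M) (by decide) wd3_k
theorem ivw {G Ω : Type*} [Group G] [MulAction G Ω] {g : ℕ → G} {pt : ℕ → Ω}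
    (M : Md g pt H15.HS.P 100 6 H15.HS.B 44352000) : Iv (gen (wds g H15.IC.HS.p2t_W) 9) (gen (wds g cde_W) 4) :=
  have := M.fin
  iv_self.com.com.sw (gen_le.2 fun i hi => match i, hi with | 0, _ => com_mem (W := [0, 3, 4]) (b := 8) (by decide) (com_mem (W := [8]) (b := 7) (by decide) (evA_mem_gen _ (by decide)) ⟨rfl, evA_mem_gen _ (by decide)⟩ (dr0 M)) (de0 M) (ds0 M) | 1, _ => com_mem (W := [0, 1, 5]) (b := 6) (by decide) (com_mem (W := [8]) (b := 6) (by decide) (evA_mem_gen _ (by decide)) ⟨rfl, evA_mem_gen _ (by decide)⟩ (dr1 M)) (de1 M) (ds1 M))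
    ((Subgroup.commutator_mono (com_le (H15.IC.HS.p2_pc M).toPC0 (by decide) (sm_der (H15.IC.HS.p2_sm M).1 H15.IC.HS.p2_p dk)) le_rfl).trans (com_le (H15.IC.HS.p2_pc M).toPC0 (by decide) (sm_der (H15.IC.HS.p2_sm M).1 H15.IC.HS.p2_p dl))) (cd_eq M).1
    (gen_le.2 fun i hi => match i, hi with | 0, _ => wd0 M | 1, _ => wd1 M | 2, _ => wd2 M | 3, _ => wd3 M)
theorem wU {G Ω : Type*} [Group G] [MulAction G Ω] {g : ℕ → G} {pt : ℕ → Ω}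
    (M : Md g pt H15.HS.P 100 6 H15.HS.B 44352000) : gen (wds g cde_W) 4 ≤ gen (wds g H15.IC.HS.p2t_W) 9 :=
  M.gen_le (H15.IC.HS.p2t_act M) (cde_act M) wU_k
theorem zW {G Ω : Type*} [Group G] [MulAction G Ω] {g : ℕ → G} {pt : ℕ → Ω}
    (M : Md g pt H15.HS.P 100 6 H15.HS.B 44352000) : (wds g H15.IC.HS.c0ax_W) 0 = evA (wds g cde_W) [0, 0, 3, 3] ∧ (wds g H15.IC.HS.c0ax_W) 0 ∈ gen (wds g cde_W) 4 :=
  M.eqw (cde_act M) (H15.IC.HS.c0ax_act M) (by decide) zW_k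
theorem f_act {G Ω : Type*} [Group G] [MulAction G Ω] {g : ℕ → G} {pt : ℕ → Ω}
    (M : Md g pt H15.HS.P 100 6 H15.HS.B 44352000) : Act (wds g f_W) pt f_P 100 4 :=
  M.wact f_lt
theorem f1 {G Ω : Type*} [Group G] [MulAction G Ω] {g : ℕ → G} {pt : ℕ → Ω}
    (M : Md g pt H15.HS.P 100 6 H15.HS.B 44352000) : (wds g f_W) 1 ∈ Subgroup.normalizer (gen (wds g cde_W) 4 : Set G) :=
  M.norm (cde_act M) (f_act M) (by decide) f1_k
theorem f2 {G Ω : Type*} [Group G] [MulAction G Ω] {g : ℕ → G} {pt : ℕ → Ω}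
    (M : Md g pt H15.HS.P 100 6 H15.HS.B 44352000) : evA (wds g f_W) [0, 2] = evA (wds g f_W) [2, 0] :=
  M.eq_of (f_act M) f2_k
theorem f3 {G Ω : Type*} [Group G] [MulAction G Ω] {g : ℕ → G} {pt : ℕ → Ω}
    (M : Md g pt H15.HS.P 100 6 H15.HS.B 44352000) : evA (wds g f_W) [0, 1, 2, 1] = evA (wds g f_W) [1, 2, 1, 3] :=
  M.eq_of (f_act M) f3_k
theorem f4 {G Ω : Type*} [Group G] [MulAction G Ω] {g : ℕ → G} {pt : ℕ → Ω}
    (M : Md g pt H15.HS.P 100 6 H15.HS.B 44352000) : evA (wds g f_W) [3, 0] ≠ evA (wds g f_W) [0, 3] :=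
  M.nrel (f_act M) _ f4_k
theorem kg {G Ω : Type*} [Group G] [MulAction G Ω] {g : ℕ → G} {pt : ℕ → Ω}
    (M : Md g pt H15.HS.P 100 6 H15.HS.B 44352000) : H18.UB.KG G :=
  have := M.fin
  kg4 (f := (wds g f_W)) (L := [1, 2, 1]) (z0 M) (ivw M) (wU M) (zW M).2 (f1 M) (f2 M) (by decide) (f3 M) (f4 M)
theorem spor : H18.UB.KG Cfsg.Spor.HS := by
  obtain ⟨_, g, M, -⟩ := H15.IC.HS.md H15.hsGen
  exact kg M

end H15.UB.HS
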