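import Cfsg.Agent.H15.UB.He.C0
import Cfsg.Agent.H15.UB.He.C1

/-! Generated by tools/h15/ub/gk.py (kit tools/h0/tr). -/

set_option maxRecDepth 100000
set_option maxHeartbeats 0

namespace H15.UB.He
open H16 H0.TR
open H15.QS H15.UB
open scoped commutatorElement Pointwise

theorem cz {G Ω : Type*} [Group G] [MulAction G Ω] {g : ℕ → G} {pt : ℕ → Ω}
    (M : Md g pt H16.PHe.P 2058 7 H16.PHe.B 4030387200) : Subgroup.centralizer {(wds g H15.IC.He.c0ax_W) 0} = (gen (wds g H15.IC.He.c0ace_W) 10) :=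
  H15.IC.He.c0ac_c.2 ▸ (H15.IC.He.c0ac M).cent1
theorem zU {G Ω : Type*} [Group G] [MulAction G Ω] {g : ℕ → G} {pt : ℕ → Ω}
    (M : Md g pt H16.PHe.P 2058 7 H16.PHe.B 4030387200) : (wds g H15.IC.He.c0ax_W) 0 = evA (wds g H15.IC.He.p2t_W) [0] ∧ (wds g H15.IC.He.c0ax_W) 0 ∈ gen (wds g H15.IC.He.p2t_W) 10 :=
  M.eqw (H15.IC.He.p2t_act M) (H15.IC.He.c0ax_act M) (by decide) zU_k
theorem Uz_k : ∀ i < 10, (cmEnt H15.IC.He.p2t_P H15.IC.He.c0ax_P (nat_lit 10) H16.PHe.B (nat_lit 0)) i = 0 := allZ_sound0 Uz_k_0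
theorem Uz {G Ω : Type*} [Group G] [MulAction G Ω] {g : ℕ → G} {pt : ℕ → Ω}
    (M : Md g pt H16.PHe.P 2058 7 H16.PHe.B 4030387200) : (wds g H15.IC.He.c0ax_W) 0 ∈ Subgroup.centralizer ((gen (wds g H15.IC.He.p2t_W) 10) : Set G) :=
  cms M (H15.IC.He.p2t_act M) (H15.IC.He.c0ax_act M) (by decide) Uz_k
theorem z1 {G Ω : Type*} [Group G] [MulAction G Ω] {g : ℕ → G} {pt : ℕ → Ω}
    (M : Md g pt H16.PHe.P 2058 7 H16.PHe.B 4030387200) : (wds g H15.IC.He.c0ax_W) 0 ^ 1 ≠ 1 :=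
  M.npw (H15.IC.He.c0ax_act M) _ z1_k
theorem cuth_m_0 : ∀ i < 2058, (matEnt (wdsP H16.PHe.P cuth_W) cuth_P (nat_lit 0)) i = 0 := allZ_sound0 cuth_m_0_0
theorem cuth_m_1 : ∀ i < 2058, (matEnt (wdsP H16.PHe.P cuth_W) cuth_P (nat_lit 1)) i = 0 := allZ_sound0 cuth_m_1_0
theorem cuth_m_2 : ∀ i < 2058, (matEnt (wdsP H16.PHe.P cuth_W) cuth_P (nat_lit 2)) i = 0 := allZ_sound0 cuth_m_2_0
theorem cuth_m_3 : ∀ i < 2058, (matEnt (wdsP H16.PHe.P cuth_W) cuth_P (nat_lit 3)) i = 0 := allZ_sound0 cuth_m_3_0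
theorem cuth_m_4 : ∀ i < 2058, (matEnt (wdsP H16.PHe.P cuth_W) cuth_P (nat_lit 4)) i = 0 := allZ_sound0 cuth_m_4_0
theorem cuth_m_5 : ∀ i < 2058, (matEnt (wdsP H16.PHe.P cuth_W) cuth_P (nat_lit 5)) i = 0 := allZ_sound0 cuth_m_5_0
theorem cuth_m_6 : ∀ i < 2058, (matEnt (wdsP H16.PHe.P cuth_W) cuth_P (nat_lit 6)) i = 0 := allZ_sound0 cuth_m_6_0
theorem cuth_m_7 : ∀ i < 2058, (matEnt (wdsP H16.PHe.P cuth_W) cuth_P (nat_lit 7)) i = 0 := range_glue (allZ_sound0 cuth_m_7_0) cuth_m_7_1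
theorem cuth_m_8 : ∀ i < 2058, (matEnt (wdsP H16.PHe.P cuth_W) cuth_P (nat_lit 8)) i = 0 := allZ_sound0 cuth_m_8_0
theorem cuth_m_9 : ∀ i < 2058, (matEnt (wdsP H16.PHe.P cuth_W) cuth_P (nat_lit 9)) i = 0 := allZ_sound0 cuth_m_9_0
theorem cuth_m_10 : ∀ i < 2058, (matEnt (wdsP H16.PHe.P cuth_W) cuth_P (nat_lit 10)) i = 0 := allZ_sound0 cuth_m_10_0
theorem cuth_m_11 : ∀ i < 2058, (matEnt (wdsP H16.PHe.P cuth_W) cuth_P (nat_lit 11)) i = 0 := allZ_sound0 cuth_m_11_0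
theorem cuth_m_12 : ∀ i < 2058, (matEnt (wdsP H16.PHe.P cuth_W) cuth_P (nat_lit 12)) i = 0 := allZ_sound0 cuth_m_12_0
theorem cuth_m_13 : ∀ i < 2058, (matEnt (wdsP H16.PHe.P cuth_W) cuth_P (nat_lit 13)) i = 0 := allZ_sound0 cuth_m_13_0
theorem cuth_m_14 : ∀ i < 2058, (matEnt (wdsP H16.PHe.P cuth_W) cuth_P (nat_lit 14)) i = 0 := allZ_sound0 cuth_m_14_0
theorem cuth_m_15 : ∀ i < 2058, (matEnt (wdsP H16.PHe.P cuth_W) cuth_P (nat_lit 15)) i = 0 := allZ_sound0 cuth_m_15_0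
theorem cuth_m_16 : ∀ i < 2058, (matEnt (wdsP H16.PHe.P cuth_W) cuth_P (nat_lit 16)) i = 0 := allZ_sound0 cuth_m_16_0
theorem cuth_m : ∀ k < 17, ∀ i < 2058, (matEnt (wdsP H16.PHe.P cuth_W) cuth_P) k i = 0 :=
  letters_glue (letters_glue (letters_glue (letters_glue (letters_glue (letters_glue (letters_glue (letters_glue (letters_glue (letters_glue (letters_glue (letters_glue (letters_glue (letters_glue (letters_glue (letters_glue (letters_glue (letters_nil) cuth_m_0) cuth_m_1) cuth_m_2) cuth_m_3) cuth_m_4) cuth_m_5) cuth_m_6) cuth_m_7) cuth_m_8) cuth_m_9) cuth_m_10) cuth_m_11) cuth_m_12) cuth_m_13) cuth_m_14) cuth_m_15) cuth_m_16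
theorem cuth_act {G Ω : Type*} [Group G] [MulAction G Ω] {g : ℕ → G} {pt : ℕ → Ω}
    (M : Md g pt H16.PHe.P 2058 7 H16.PHe.B 4030387200) : Act (wds g cuth_W) pt cuth_P 2058 17 :=
  act_mat (M.wact cuth_lt) cuth_m
theorem cutl0_e : ∀ i < 2057, (dent cutl0 cuth_P (nat_lit 2058)) i = 0 := allZ_sound0 cutl0_e_0
theorem cutl0_ok : DOK cutl0 cuth_P 2058 := ⟨cutl0_h, cutl0_e⟩
theorem cutl1_e : ∀ i < 135, (dent cutl1 cuth_P (nat_lit 2058)) i = 0 := allZ_sound0 cutl1_e_0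
theorem cutl1_ok : DOK cutl1 cuth_P 2058 := ⟨cutl1_h, cutl1_e⟩
theorem cutl2_e : ∀ i < 49, (dent cutl2 cuth_P (nat_lit 2058)) i = 0 := allZ_sound0 cutl2_e_0
theorem cutl2_ok : DOK cutl2 cuth_P 2058 := ⟨cutl2_h, cutl2_e⟩
theorem cutl3_e : ∀ i < 35, (dent cutl3 cuth_P (nat_lit 2058)) i = 0 := allZ_sound0 cutl3_e_0
theorem cutl3_ok : DOK cutl3 cuth_P 2058 := ⟨cutl3_h, cutl3_e⟩
theorem cutl4_e : ∀ i < 7, (dent cutl4 cuth_P (nat_lit 2058)) i = 0 := allZ_sound0 cutl4_e_0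
theorem cutl4_ok : DOK cutl4 cuth_P 2058 := ⟨cutl4_h, cutl4_e⟩
theorem cut_low {G Ω : Type*} [Group G] [MulAction G Ω] {g : ℕ → G} {pt : ℕ → Ω}
    (M : Md g pt H16.PHe.P 2058 7 H16.PHe.B 4030387200) : SLow (gi (wds g cuth_W)) pt 2058 [cutl0, cutl1, cutl2, cutl3, cutl4] :=
  (((((SLow.nil).cons cutl4_ok (cuth_act M) cut_f4).cons cutl3_ok (cuth_act M) cut_f3).cons cutl2_ok (cuth_act M) cut_f2).cons cutl1_ok (cuth_act M) cut_f1).cons cutl0_ok (cuth_act M) cut_f0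
theorem cut_S0 {G Ω : Type*} [Group G] [MulAction G Ω] {g : ℕ → G} {pt : ℕ → Ω}
    (M : Md g pt H16.PHe.P 2058 7 H16.PHe.B 4030387200) : Stage ⊤ (wds g cuth_W) pt 2058 [cutl0, cutl1, cutl2, cutl3, cutl4] [] :=
  M.stage (cut_low M) cut_c
theorem cut_S1 {G Ω : Type*} [Group G] [MulAction G Ω] {g : ℕ → G} {pt : ℕ → Ω}
    (M : Md g pt H16.PHe.P 2058 7 H16.PHe.B 4030387200) : Stage ⊤ (wds g cuth_W) pt 2058 [cutl1, cutl2, cutl3, cutl4] [cutl0.Pt 0] :=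
  (cut_S0 M).next
theorem cut_S2 {G Ω : Type*} [Group G] [MulAction G Ω] {g : ℕ → G} {pt : ℕ → Ω}
    (M : Md g pt H16.PHe.P 2058 7 H16.PHe.B 4030387200) : Stage ⊤ (wds g cuth_W) pt 2058 [cutl2, cutl3, cutl4] [cutl1.Pt 0, cutl0.Pt 0] :=
  (cut_S1 M).next
theorem cut_S3 {G Ω : Type*} [Group G] [MulAction G Ω] {g : ℕ → G} {pt : ℕ → Ω}
    (M : Md g pt H16.PHe.P 2058 7 H16.PHe.B 4030387200) : Stage ⊤ (wds g cuth_W) pt 2058 [cutl3, cutl4] [cutl2.Pt 0, cutl1.Pt 0, cutl0.Pt 0] :=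
  (cut_S2 M).next
theorem cut_S4 {G Ω : Type*} [Group G] [MulAction G Ω] {g : ℕ → G} {pt : ℕ → Ω}
    (M : Md g pt H16.PHe.P 2058 7 H16.PHe.B 4030387200) : Stage ⊤ (wds g cuth_W) pt 2058 [cutl4] [cutl3.Pt 0, cutl2.Pt 0, cutl1.Pt 0, cutl0.Pt 0] :=
  (cut_S3 M).next
theorem cut_S5 {G Ω : Type*} [Group G] [MulAction G Ω] {g : ℕ → G} {pt : ℕ → Ω}
    (M : Md g pt H16.PHe.P 2058 7 H16.PHe.B 4030387200) : Stage ⊤ (wds g cuth_W) pt 2058 [] [cutl4.Pt 0, cutl3.Pt 0, cutl2.Pt 0, cutl1.Pt 0, cutl0.Pt 0] :=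
  (cut_S4 M).next
theorem cue_m : ∀ k < 1, ∀ i < 2058, (matEnt (wdsP H16.PHe.P cue_W) cue_P) k i = 0 := allZ2_sound cue_m_a
theorem cue_act {G Ω : Type*} [Group G] [MulAction G Ω] {g : ℕ → G} {pt : ℕ → Ω}
    (M : Md g pt H16.PHe.P 2058 7 H16.PHe.B 4030387200) : Act (wds g cue_W) pt cue_P 2058 1 :=
  act_mat (M.wact cue_lt) cue_m
theorem cuc0_e : ∀ i < 1, (dent cuc0 cue_P (nat_lit 2058)) i = 0 := allZ_sound0 cuc0_e_0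
theorem cuc0_ok : DOK cuc0 cue_P 2058 := ⟨cuc0_h, cuc0_e⟩
theorem cutn0_1 : ∀ i < 2058, (cutn0.ent H16.PHe.P cuth_P H15.IC.He.p2t_P H15.IC.He.p2t_P cue_P (nat_lit 7) (nat_lit 10) H16.PHe.B cutl0 [cutl1, cutl2, cutl3, cutl4] (memO cuc0)) i = 0 := allZ_sound0 cutn0_1_0
theorem cutn0_t {G Ω : Type*} [Group G] [MulAction G Ω] {g : ℕ → G} {pt : ℕ → Ω}
    (M : Md g pt H16.PHe.P 2058 7 H16.PHe.B 4030387200) : TrO (gen (wds g cuth_W) cutl0.K) (wds g H15.IC.He.p2t_W) (wds g H15.IC.He.p2t_W) 10 pt 2058 (cutl0.Pt 0) (memO cuc0) :=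
  node M (cut_S0 M) (cuth_act M) (H15.IC.He.p2t_act M) (H15.IC.He.p2t_act M) cutn0 ((cue_act M).mono (by decide)) (fun _ _ => trivial) cutn0_0 cutn0_1 (List.forall_mem_nil _)
theorem cu {G Ω : Type*} [Group G] [MulAction G Ω] {g : ℕ → G} {pt : ℕ → Ω}
    (M : Md g pt H16.PHe.P 2058 7 H16.PHe.B 4030387200) : Cen ⊤ (wds g H15.IC.He.p2t_W) 10 (wds g cue_W) pt 2058 [cuc0] :=
  (cut_S0 M).top ▸ Cen.lev M (cut_S0 M) (Cen.triv (cut_S1 M) (Cen.triv (cut_S2 M) (Cen.triv (cut_S3 M) (Cen.triv (cut_S4 M) (Cen.bot) (forced (cut_S4 M) (cuth_act M) (H15.IC.He.p2t_act M) _ _ cu_f4)) (forced (cut_S3 M) (cuth_act M) (H15.IC.He.p2t_act M) _ _ cu_f3)) (forced (cut_S2 M) (cuth_act M) (H15.IC.He.p2t_act M) _ _ cu_f2)) (forced (cut_S1 M) (cuth_act M) (H15.IC.He.p2t_act M) _ _ cu_f1)) (cutn0_t M) (H15.IC.He.p2t_act M) (cue_act M) (fun _ _ => trivial)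 cuc0_ok cu_f0
theorem cu_eq {G Ω : Type*} [Group G] [MulAction G Ω] {g : ℕ → G} {pt : ℕ → Ω}
    (M : Md g pt H16.PHe.P 2058 7 H16.PHe.B 4030387200) : Subgroup.centralizer (gen (wds g H15.IC.He.p2t_W) 10) = gen (wds g cue_W) 1 ∧ Nat.card (gen (wds g cue_W) 1) = 2 :=
  cu_c.1 ▸ cu_c.2 ▸ ⟨(cu M).cent, (cu M).card M.inj⟩
theorem v_m_0 : ∀ i < 2058, (matEnt (wdsP H16.PHe.P v_W) v_P (nat_lit 0)) i = 0 := allZ_sound0 v_m_0_0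
theorem v_m_1 : ∀ i < 2058, (matEnt (wdsP H16.PHe.P v_W) v_P (nat_lit 1)) i = 0 := allZ_sound0 v_m_1_0
theorem v_m_2 : ∀ i < 2058, (matEnt (wdsP H16.PHe.P v_W) v_P (nat_lit 2)) i = 0 := allZ_sound0 v_m_2_0
theorem v_m_3 : ∀ i < 2058, (matEnt (wdsP H16.PHe.P v_W) v_P (nat_lit 3)) i = 0 := allZ_sound0 v_m_3_0
theorem v_m : ∀ k < 4, ∀ i < 2058, (matEnt (wdsP H16.PHe.P v_W) v_P) k i = 0 :=
  letters_glue (letters_glue (letters_glue (letters_glue (letters_nil) v_m_0) v_m_1) v_m_2) v_m_3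
theorem v_act {G Ω : Type*} [Group G] [MulAction G Ω] {g : ℕ → G} {pt : ℕ → Ω}
    (M : Md g pt H16.PHe.P 2058 7 H16.PHe.B 4030387200) : Act (wds g v_W) pt v_P 2058 4 :=
  act_mat (M.wact v_lt) v_m
theorem cvth_m_0 : ∀ i < 2058, (matEnt (wdsP H16.PHe.P cvth_W) cvth_P (nat_lit 0)) i = 0 := allZ_sound0 cvth_m_0_0
theorem cvth_m_1 : ∀ i < 2058, (matEnt (wdsP H16.PHe.P cvth_W) cvth_P (nat_lit 1)) i = 0 := allZ_sound0 cvth_m_1_0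
theorem cvth_m_2 : ∀ i < 2058, (matEnt (wdsP H16.PHe.P cvth_W) cvth_P (nat_lit 2)) i = 0 := range_glue (allZ_sound0 cvth_m_2_0) cvth_m_2_1
theorem cvth_m_3 : ∀ i < 2058, (matEnt (wdsP H16.PHe.P cvth_W) cvth_P (nat_lit 3)) i = 0 := allZ_sound0 cvth_m_3_0
theorem cvth_m_4 : ∀ i < 2058, (matEnt (wdsP H16.PHe.P cvth_W) cvth_P (nat_lit 4)) i = 0 := allZ_sound0 cvth_m_4_0
theorem cvth_m_5 : ∀ i < 2058, (matEnt (wdsP H16.PHe.P cvth_W) cvth_P (nat_lit 5)) i = 0 := allZ_sound0 cvth_m_5_0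
theorem cvth_m_6 : ∀ i < 2058, (matEnt (wdsP H16.PHe.P cvth_W) cvth_P (nat_lit 6)) i = 0 := allZ_sound0 cvth_m_6_0
theorem cvth_m_7 : ∀ i < 2058, (matEnt (wdsP H16.PHe.P cvth_W) cvth_P (nat_lit 7)) i = 0 := allZ_sound0 cvth_m_7_0
theorem cvth_m_8 : ∀ i < 2058, (matEnt (wdsP H16.PHe.P cvth_W) cvth_P (nat_lit 8)) i = 0 := allZ_sound0 cvth_m_8_0
theorem cvth_m_9 : ∀ i < 2058, (matEnt (wdsP H16.PHe.P cvth_W) cvth_P (nat_lit 9)) i = 0 := allZ_sound0 cvth_m_9_0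
theorem cvth_m_10 : ∀ i < 2058, (matEnt (wdsP H16.PHe.P cvth_W) cvth_P (nat_lit 10)) i = 0 := allZ_sound0 cvth_m_10_0
theorem cvth_m_11 : ∀ i < 2058, (matEnt (wdsP H16.PHe.P cvth_W) cvth_P (nat_lit 11)) i = 0 := allZ_sound0 cvth_m_11_0
theorem cvth_m_12 : ∀ i < 2058, (matEnt (wdsP H16.PHe.P cvth_W) cvth_P (nat_lit 12)) i = 0 := allZ_sound0 cvth_m_12_0
theorem cvth_m_13 : ∀ i < 2058, (matEnt (wdsP H16.PHe.P cvth_W) cvth_P (nat_lit 13)) i = 0 := allZ_sound0 cvth_m_13_0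
theorem cvth_m_14 : ∀ i < 2058, (matEnt (wdsP H16.PHe.P cvth_W) cvth_P (nat_lit 14)) i = 0 := allZ_sound0 cvth_m_14_0
theorem cvth_m_15 : ∀ i < 2058, (matEnt (wdsP H16.PHe.P cvth_W) cvth_P (nat_lit 15)) i = 0 := allZ_sound0 cvth_m_15_0
theorem cvth_m_16 : ∀ i < 2058, (matEnt (wdsP H16.PHe.P cvth_W) cvth_P (nat_lit 16)) i = 0 := allZ_sound0 cvth_m_16_0
theorem cvth_m : ∀ k < 17, ∀ i < 2058, (matEnt (wdsP H16.PHe.P cvth_W) cvth_P) k i = 0 :=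
  letters_glue (letters_glue (letters_glue (letters_glue (letters_glue (letters_glue (letters_glue (letters_glue (letters_glue (letters_glue (letters_glue (letters_glue (letters_glue (letters_glue (letters_glue (letters_glue (letters_glue (letters_nil) cvth_m_0) cvth_m_1) cvth_m_2) cvth_m_3) cvth_m_4) cvth_m_5) cvth_m_6) cvth_m_7) cvth_m_8) cvth_m_9) cvth_m_10) cvth_m_11) cvth_m_12) cvth_m_13) cvth_m_14) cvth_m_15) cvth_m_16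
theorem cvth_act {G Ω : Type*} [Group G] [MulAction G Ω] {g : ℕ → G} {pt : ℕ → Ω}
    (M : Md g pt H16.PHe.P 2058 7 H16.PHe.B 4030387200) : Act (wds g cvth_W) pt cvth_P 2058 17 :=
  act_mat (M.wact cvth_lt) cvth_m
theorem cvtl0_e : ∀ i < 2057, (dent cvtl0 cvth_P (nat_lit 2058)) i = 0 := allZ_sound0 cvtl0_e_0
theorem cvtl0_ok : DOK cvtl0 cvth_P 2058 := ⟨cvtl0_h, cvtl0_e⟩
theorem cvtl1_e : ∀ i < 424, (dent cvtl1 cvth_P (nat_lit 2058)) i = 0 := allZ_sound0 cvtl1_e_0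
theorem cvtl1_ok : DOK cvtl1 cvth_P 2058 := ⟨cvtl1_h, cvtl1_e⟩
theorem cvtl2_e : ∀ i < 3, (dent cvtl2 cvth_P (nat_lit 2058)) i = 0 := allZ_sound0 cvtl2_e_0
theorem cvtl2_ok : DOK cvtl2 cvth_P 2058 := ⟨cvtl2_h, cvtl2_e⟩
theorem cvtl3_e : ∀ i < 71, (dent cvtl3 cvth_P (nat_lit 2058)) i = 0 := allZ_sound0 cvtl3_e_0
theorem cvtl3_ok : DOK cvtl3 cvth_P 2058 := ⟨cvtl3_h, cvtl3_e⟩
theorem cvtl4_e : ∀ i < 1, (dent cvtl4 cvth_P (nat_lit 2058)) i = 0 := allZ_sound0 cvtl4_e_0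
theorem cvtl4_ok : DOK cvtl4 cvth_P 2058 := ⟨cvtl4_h, cvtl4_e⟩
theorem cvtl5_e : ∀ i < 1, (dent cvtl5 cvth_P (nat_lit 2058)) i = 0 := allZ_sound0 cvtl5_e_0
theorem cvtl5_ok : DOK cvtl5 cvth_P 2058 := ⟨cvtl5_h, cvtl5_e⟩
theorem cvtl6_e : ∀ i < 1, (dent cvtl6 cvth_P (nat_lit 2058)) i = 0 := allZ_sound0 cvtl6_e_0
theorem cvtl6_ok : DOK cvtl6 cvth_P 2058 := ⟨cvtl6_h, cvtl6_e⟩
theorem cvtl7_e : ∀ i < 1, (dent cvtl7 cvth_P (nat_lit 2058)) i = 0 := allZ_sound0 cvtl7_e_0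
theorem cvtl7_ok : DOK cvtl7 cvth_P 2058 := ⟨cvtl7_h, cvtl7_e⟩
theorem cvt_low {G Ω : Type*} [Group G] [MulAction G Ω] {g : ℕ → G} {pt : ℕ → Ω}
    (M : Md g pt H16.PHe.P 2058 7 H16.PHe.B 4030387200) : SLow (gi (wds g cvth_W)) pt 2058 [cvtl0, cvtl1, cvtl2, cvtl3, cvtl4, cvtl5, cvtl6, cvtl7] :=
  ((((((((SLow.nil).cons cvtl7_ok (cvth_act M) cvt_f7).cons cvtl6_ok (cvth_act M) cvt_f6).cons cvtl5_ok (cvth_act M) cvt_f5).cons cvtl4_ok (cvth_act M) cvt_f4).cons cvtl3_ok (cvth_act M) cvt_f3).cons cvtl2_ok (cvth_act M) cvt_f2).cons cvtl1_ok (cvth_act M) cvt_f1).cons cvtl0_ok (cvth_act M) cvt_f0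
theorem cvt_S0 {G Ω : Type*} [Group G] [MulAction G Ω] {g : ℕ → G} {pt : ℕ → Ω}
    (M : Md g pt H16.PHe.P 2058 7 H16.PHe.B 4030387200) : Stage ⊤ (wds g cvth_W) pt 2058 [cvtl0, cvtl1, cvtl2, cvtl3, cvtl4, cvtl5, cvtl6, cvtl7] [] :=
  M.stage (cvt_low M) cvt_c
theorem cvt_S1 {G Ω : Type*} [Group G] [MulAction G Ω] {g : ℕ → G} {pt : ℕ → Ω}
    (M : Md g pt H16.PHe.P 2058 7 H16.PHe.B 4030387200) : Stage ⊤ (wds g cvth_W) pt 2058 [cvtl1, cvtl2, cvtl3, cvtl4, cvtl5, cvtl6, cvtl7] [cvtl0.Pt 0] :=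
  (cvt_S0 M).next
theorem cvt_S2 {G Ω : Type*} [Group G] [MulAction G Ω] {g : ℕ → G} {pt : ℕ → Ω}
    (M : Md g pt H16.PHe.P 2058 7 H16.PHe.B 4030387200) : Stage ⊤ (wds g cvth_W) pt 2058 [cvtl2, cvtl3, cvtl4, cvtl5, cvtl6, cvtl7] [cvtl1.Pt 0, cvtl0.Pt 0] :=
  (cvt_S1 M).next
theorem cvt_S3 {G Ω : Type*} [Group G] [MulAction G Ω] {g : ℕ → G} {pt : ℕ → Ω}
    (M : Md g pt H16.PHe.P 2058 7 H16.PHe.B 4030387200) : Stage ⊤ (wds g cvth_W) pt 2058 [cvtl3, cvtl4, cvtl5, cvtl6, cvtl7] [cvtl2.Pt 0, cvtl1.Pt 0, cvtl0.Pt 0] :=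
  (cvt_S2 M).next
theorem cvt_S4 {G Ω : Type*} [Group G] [MulAction G Ω] {g : ℕ → G} {pt : ℕ → Ω}
    (M : Md g pt H16.PHe.P 2058 7 H16.PHe.B 4030387200) : Stage ⊤ (wds g cvth_W) pt 2058 [cvtl4, cvtl5, cvtl6, cvtl7] [cvtl3.Pt 0, cvtl2.Pt 0, cvtl1.Pt 0, cvtl0.Pt 0] :=
  (cvt_S3 M).next
theorem cvt_S5 {G Ω : Type*} [Group G] [MulAction G Ω] {g : ℕ → G} {pt : ℕ → Ω}
    (M : Md g pt H16.PHe.P 2058 7 H16.PHe.B 4030387200) : Stage ⊤ (wds g cvth_W) pt 2058 [cvtl5, cvtl6, cvtl7] [cvtl4.Pt 0, cvtl3.Pt 0, cvtl2.Pt 0, cvtl1.Pt 0, cvtl0.Pt 0] :=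
  (cvt_S4 M).next
theorem cvt_S6 {G Ω : Type*} [Group G] [MulAction G Ω] {g : ℕ → G} {pt : ℕ → Ω}
    (M : Md g pt H16.PHe.P 2058 7 H16.PHe.B 4030387200) : Stage ⊤ (wds g cvth_W) pt 2058 [cvtl6, cvtl7] [cvtl5.Pt 0, cvtl4.Pt 0, cvtl3.Pt 0, cvtl2.Pt 0, cvtl1.Pt 0, cvtl0.Pt 0] :=
  (cvt_S5 M).next
theorem cvt_S7 {G Ω : Type*} [Group G] [MulAction G Ω] {g : ℕ → G} {pt : ℕ → Ω}
    (M : Md g pt H16.PHe.P 2058 7 H16.PHe.B 4030387200) : Stage ⊤ (wds g cvth_W) pt 2058 [cvtl7] [cvtl6.Pt 0, cvtl5.Pt 0, cvtl4.Pt 0, cvtl3.Pt 0, cvtl2.Pt 0, cvtl1.Pt 0, cvtl0.Pt 0] :=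
  (cvt_S6 M).next
theorem cvt_S8 {G Ω : Type*} [Group G] [MulAction G Ω] {g : ℕ → G} {pt : ℕ → Ω}
    (M : Md g pt H16.PHe.P 2058 7 H16.PHe.B 4030387200) : Stage ⊤ (wds g cvth_W) pt 2058 [] [cvtl7.Pt 0, cvtl6.Pt 0, cvtl5.Pt 0, cvtl4.Pt 0, cvtl3.Pt 0, cvtl2.Pt 0, cvtl1.Pt 0, cvtl0.Pt 0] :=
  (cvt_S7 M).next
theorem cve_m_0 : ∀ i < 2058, (matEnt (wdsP H16.PHe.P cve_W) cve_P (nat_lit 0)) i = 0 := allZ_sound0 cve_m_0_0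
theorem cve_m_1 : ∀ i < 2058, (matEnt (wdsP H16.PHe.P cve_W) cve_P (nat_lit 1)) i = 0 := allZ_sound0 cve_m_1_0
theorem cve_m_2 : ∀ i < 2058, (matEnt (wdsP H16.PHe.P cve_W) cve_P (nat_lit 2)) i = 0 := allZ_sound0 cve_m_2_0
theorem cve_m_3 : ∀ i < 2058, (matEnt (wdsP H16.PHe.P cve_W) cve_P (nat_lit 3)) i = 0 := range_glue (allZ_sound0 cve_m_3_0) cve_m_3_1
theorem cve_m : ∀ k < 4, ∀ i < 2058, (matEnt (wdsP H16.PHe.P cve_W) cve_P) k i = 0 :=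
  letters_glue (letters_glue (letters_glue (letters_glue (letters_nil) cve_m_0) cve_m_1) cve_m_2) cve_m_3
theorem cve_act {G Ω : Type*} [Group G] [MulAction G Ω] {g : ℕ → G} {pt : ℕ → Ω}
    (M : Md g pt H16.PHe.P 2058 7 H16.PHe.B 4030387200) : Act (wds g cve_W) pt cve_P 2058 4 :=
  act_mat (M.wact cve_lt) cve_m
theorem cvc4_e : ∀ i < 1, (dent cvc4 cve_P (nat_lit 2058)) i = 0 := allZ_sound0 cvc4_e_0
theorem cvc4_ok : DOK cvc4 cve_P 2058 := ⟨cvc4_h, cvc4_e⟩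
theorem cvtn0_1 : ∀ i < 2, (cvtn0.ent H16.PHe.P cvth_P v_P v_P cve_P (nat_lit 7) (nat_lit 4) H16.PHe.B cvtl4 [cvtl5, cvtl6, cvtl7] (memO cvc4)) i = 0 := allZ_sound0 cvtn0_1_0
theorem cvtn0_t {G Ω : Type*} [Group G] [MulAction G Ω] {g : ℕ → G} {pt : ℕ → Ω}
    (M : Md g pt H16.PHe.P 2058 7 H16.PHe.B 4030387200) : TrO (gen (wds g cvth_W) cvtl4.K) (wds g v_W) (wds g v_W) 4 pt 2058 (cvtl4.Pt 0) (memO cvc4) :=
  node M (cvt_S4 M) (cvth_act M) (v_act M) (v_act M) cvtn0 ((cve_act M).mono (by decide)) (fun _ _ => trivial) cvtn0_0 cvtn0_1 (List.forall_mem_nil _)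
theorem cvc0_e : ∀ i < 7, (dent cvc0 cve_P (nat_lit 2058)) i = 0 := allZ_sound0 cvc0_e_0
theorem cvc0_ok : DOK cvc0 cve_P 2058 := ⟨cvc0_h, cvc0_e⟩
theorem cvtn1_1 : ∀ i < 2058, (cvtn1.ent H16.PHe.P cvth_P v_P v_P cve_P (nat_lit 7) (nat_lit 4) H16.PHe.B cvtl0 [cvtl1, cvtl2, cvtl3, cvtl4, cvtl5, cvtl6, cvtl7] (memO cvc0)) i = 0 := allZ_sound0 cvtn1_1_0
theorem cvtn1_t {G Ω : Type*} [Group G] [MulAction G Ω] {g : ℕ → G} {pt : ℕ → Ω}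
    (M : Md g pt H16.PHe.P 2058 7 H16.PHe.B 4030387200) : TrO (gen (wds g cvth_W) cvtl0.K) (wds g v_W) (wds g v_W) 4 pt 2058 (cvtl0.Pt 0) (memO cvc0) :=
  node M (cvt_S0 M) (cvth_act M) (v_act M) (v_act M) cvtn1 ((cve_act M).mono (by decide)) (fun _ _ => trivial) cvtn1_0 cvtn1_1 (List.forall_mem_nil _)
theorem cv {G Ω : Type*} [Group G] [MulAction G Ω] {g : ℕ → G} {pt : ℕ → Ω}
    (M : Md g pt H16.PHe.P 2058 7 H16.PHe.B 4030387200) : Cen ⊤ (wds g v_W) 4 (wds g cve_W) pt 2058 [cvc0, cvc4] :=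
  (cvt_S0 M).top ▸ Cen.lev M (cvt_S0 M) (Cen.triv (cvt_S1 M) (Cen.triv (cvt_S2 M) (Cen.triv (cvt_S3 M) (Cen.lev M (cvt_S4 M) (Cen.triv (cvt_S5 M) (Cen.triv (cvt_S6 M) (Cen.triv (cvt_S7 M) (Cen.bot) (forced (cvt_S7 M) (cvth_act M) (v_act M) _ _ cv_f7)) (forced (cvt_S6 M) (cvth_act M) (v_act M) _ _ cv_f6)) (forced (cvt_S5 M) (cvth_act M) (v_act M) _ _ cv_f5)) (cvtn0_t M) (v_act M) (cve_act M) (fun _ _ => trivial) cvc4_ok cv_f4) (forced (cvt_S3 M) (cvth_act M) (v_act M) _ _ cv_f3)) (forced (cvt_S2 M) (cvth_act M) (v_act M) _ _ cv_f2)) (forced (cvt_S1 M) (cvth_act M) (v_act M) _ _ cv_f1)) (cvtn1_t M) (v_act M) (cve_act M) (fun _ _ => trivial) cvc0_ok cv_f0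
theorem cv_eq {G Ω : Type*} [Group G] [MulAction G Ω] {g : ℕ → G} {pt : ℕ → Ω}
    (M : Md g pt H16.PHe.P 2058 7 H16.PHe.B 4030387200) : Subgroup.centralizer (gen (wds g v_W) 4) = gen (wds g cve_W) 4 ∧ Nat.card (gen (wds g cve_W) 4) = 16 :=
  cv_c.1 ▸ cv_c.2 ▸ ⟨(cv M).cent, (cv M).card M.inj⟩
theorem nv_k : ∀ k < 10, ∀ i < 4, (nrmEnt v_P H15.IC.He.c0ace_P (nat_lit 4) H16.PHe.B nvW) k i = 0 := allZ2_sound nv_k_a
theorem nv {G Ω : Type*} [Group G] [MulAction G Ω] {g : ℕ → G} {pt : ℕ → Ω}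
    (M : Md g pt H16.PHe.P 2058 7 H16.PHe.B 4030387200) : (gen (wds g H15.IC.He.c0ace_W) 10) ≤ Subgroup.normalizer ((gen (wds g v_W) 4) : Set G) :=
  norms M (v_act M) (H15.IC.He.c0ace_act M) nv_k
theorem vz_k : ∀ i < 4, (cmEnt v_P H15.IC.He.c0ax_P (nat_lit 4) H16.PHe.B (nat_lit 0)) i = 0 := allZ_sound0 vz_k_0
theorem vz {G Ω : Type*} [Group G] [MulAction G Ω] {g : ℕ → G} {pt : ℕ → Ω}
    (M : Md g pt H16.PHe.P 2058 7 H16.PHe.B 4030387200) : (wds g H15.IC.He.c0ax_W) 0 ∈ Subgroup.centralizer ((gen (wds g v_W) 4) : Set G) :=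
  cms M (v_act M) (H15.IC.He.c0ax_act M) (by decide) vz_k
theorem vU {G Ω : Type*} [Group G] [MulAction G Ω] {g : ℕ → G} {pt : ℕ → Ω}
    (M : Md g pt H16.PHe.P 2058 7 H16.PHe.B 4030387200) : gen (wds g v_W) 4 ≤ gen (wds g H15.IC.He.p2t_W) 10 :=
  M.gen_le (H15.IC.He.p2t_act M) (v_act M) vU_k
theorem z0 {G Ω : Type*} [Group G] [MulAction G Ω] {g : ℕ → G} {pt : ℕ → Ω}
    (M : Md g pt H16.PHe.P 2058 7 H16.PHe.B 4030387200) : Z0 (gen (wds g H15.IC.He.p2t_W) 10) ((wds g H15.IC.He.c0ax_W) 0) :=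
  have := M.fin
  have s := pc_syl (H15.IC.He.p2_pc M)
  ⟨s, (zU M).2, Uz M, z1 M, ((congrArg (fun H : Subgroup G => Nat.card H) (cu_eq M).1).trans (cu_eq M).2), cp_sub (k := 4) (H19.le_cent1_iff.2 (vz M)) ((cz M).le.trans (nv M)) (s.pi.of_le (vU M)) ((congrArg (fun H : Subgroup G => Nat.card H) (cv_eq M).1).trans (cv_eq M).2)⟩
theorem d_m_0 : ∀ i < 2058, (matEnt (wdsP H16.PHe.P d_W) d_P (nat_lit 0)) i = 0 := range_glue (allZ_sound0 d_m_0_0) d_m_0_1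
theorem d_m_1 : ∀ i < 2058, (matEnt (wdsP H16.PHe.P d_W) d_P (nat_lit 1)) i = 0 := allZ_sound0 d_m_1_0
theorem d_m_2 : ∀ i < 2058, (matEnt (wdsP H16.PHe.P d_W) d_P (nat_lit 2)) i = 0 := allZ_sound0 d_m_2_0
theorem d_m : ∀ k < 3, ∀ i < 2058, (matEnt (wdsP H16.PHe.P d_W) d_P) k i = 0 :=
  letters_glue (letters_glue (letters_glue (letters_nil) d_m_0) d_m_1) d_m_2
theorem d_act {G Ω : Type*} [Group G] [MulAction G Ω] {g : ℕ → G} {pt : ℕ → Ω}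
    (M : Md g pt H16.PHe.P 2058 7 H16.PHe.B 4030387200) : Act (wds g d_W) pt d_P 2058 3 :=
  act_mat (M.wact d_lt) d_m
theorem dr0 {G Ω : Type*} [Group G] [MulAction G Ω] {g : ℕ → G} {pt : ℕ → Ω}
    (M : Md g pt H16.PHe.P 2058 7 H16.PHe.B 4030387200) : evA (wds g H15.IC.He.p2t_W) [6, 9] = evA (wds g H15.IC.He.p2t_W) [9, 6, 4] :=
  M.eq_of (H15.IC.He.p2t_act M) dr0_k
theorem de0 {G Ω : Type*} [Group G] [MulAction G Ω] {g : ℕ → G} {pt : ℕ → Ω}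
    (M : Md g pt H16.PHe.P 2058 7 H16.PHe.B 4030387200) : (wds g d_W) 0 = evA (wds g H15.IC.He.p2t_W) [4] ∧ (wds g d_W) 0 ∈ gen (wds g H15.IC.He.p2t_W) 10 :=
  M.eqw (H15.IC.He.p2t_act M) (d_act M) (by decide) de0_k
theorem dr1 {G Ω : Type*} [Group G] [MulAction G Ω] {g : ℕ → G} {pt : ℕ → Ω}
    (M : Md g pt H16.PHe.P 2058 7 H16.PHe.B 4030387200) : evA (wds g H15.IC.He.p2t_W) [4, 8] = evA (wds g H15.IC.He.p2t_W) [8, 4, 2] :=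
  M.eq_of (H15.IC.He.p2t_act M) dr1_k
theorem de1 {G Ω : Type*} [Group G] [MulAction G Ω] {g : ℕ → G} {pt : ℕ → Ω}
    (M : Md g pt H16.PHe.P 2058 7 H16.PHe.B 4030387200) : (wds g d_W) 1 = evA (wds g H15.IC.He.p2t_W) [2] ∧ (wds g d_W) 1 ∈ gen (wds g H15.IC.He.p2t_W) 10 :=
  M.eqw (H15.IC.He.p2t_act M) (d_act M) (by decide) de1_k
theorem dr2 {G Ω : Type*} [Group G] [MulAction G Ω] {g : ℕ → G} {pt : ℕ → Ω}
    (M : Md g pt H16.PHe.P 2058 7 H16.PHe.B 4030387200) : evA (wds g H15.IC.He.p2t_W) [8, 9] = evA (wds g H15.IC.He.p2t_W) [9, 8, 5] :=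
  M.eq_of (H15.IC.He.p2t_act M) dr2_k
theorem de2 {G Ω : Type*} [Group G] [MulAction G Ω] {g : ℕ → G} {pt : ℕ → Ω}
    (M : Md g pt H16.PHe.P 2058 7 H16.PHe.B 4030387200) : (wds g d_W) 2 = evA (wds g H15.IC.He.p2t_W) [5] ∧ (wds g d_W) 2 ∈ gen (wds g H15.IC.He.p2t_W) 10 :=
  M.eqw (H15.IC.He.p2t_act M) (d_act M) (by decide) de2_k
theorem cdth_m_0 : ∀ i < 2058, (matEnt (wdsP H16.PHe.P cdth_W) cdth_P (nat_lit 0)) i = 0 := allZ_sound0 cdth_m_0_0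
theorem cdth_m_1 : ∀ i < 2058, (matEnt (wdsP H16.PHe.P cdth_W) cdth_P (nat_lit 1)) i = 0 := allZ_sound0 cdth_m_1_0
theorem cdth_m_2 : ∀ i < 2058, (matEnt (wdsP H16.PHe.P cdth_W) cdth_P (nat_lit 2)) i = 0 := allZ_sound0 cdth_m_2_0
theorem cdth_m_3 : ∀ i < 2058, (matEnt (wdsP H16.PHe.P cdth_W) cdth_P (nat_lit 3)) i = 0 := allZ_sound0 cdth_m_3_0
theorem cdth_m_4 : ∀ i < 2058, (matEnt (wdsP H16.PHe.P cdth_W) cdth_P (nat_lit 4)) i = 0 := allZ_sound0 cdth_m_4_0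
theorem cdth_m_5 : ∀ i < 2058, (matEnt (wdsP H16.PHe.P cdth_W) cdth_P (nat_lit 5)) i = 0 := allZ_sound0 cdth_m_5_0
theorem cdth_m_6 : ∀ i < 2058, (matEnt (wdsP H16.PHe.P cdth_W) cdth_P (nat_lit 6)) i = 0 := allZ_sound0 cdth_m_6_0
theorem cdth_m_7 : ∀ i < 2058, (matEnt (wdsP H16.PHe.P cdth_W) cdth_P (nat_lit 7)) i = 0 := allZ_sound0 cdth_m_7_0
theorem cdth_m_8 : ∀ i < 2058, (matEnt (wdsP H16.PHe.P cdth_W) cdth_P (nat_lit 8)) i = 0 := allZ_sound0 cdth_m_8_0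
theorem cdth_m_9 : ∀ i < 2058, (matEnt (wdsP H16.PHe.P cdth_W) cdth_P (nat_lit 9)) i = 0 := allZ_sound0 cdth_m_9_0
theorem cdth_m_10 : ∀ i < 2058, (matEnt (wdsP H16.PHe.P cdth_W) cdth_P (nat_lit 10)) i = 0 := allZ_sound0 cdth_m_10_0
theorem cdth_m_11 : ∀ i < 2058, (matEnt (wdsP H16.PHe.P cdth_W) cdth_P (nat_lit 11)) i = 0 := allZ_sound0 cdth_m_11_0
theorem cdth_m_12 : ∀ i < 2058, (matEnt (wdsP H16.PHe.P cdth_W) cdth_P (nat_lit 12)) i = 0 := allZ_sound0 cdth_m_12_0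
theorem cdth_m_13 : ∀ i < 2058, (matEnt (wdsP H16.PHe.P cdth_W) cdth_P (nat_lit 13)) i = 0 := allZ_sound0 cdth_m_13_0
theorem cdth_m_14 : ∀ i < 2058, (matEnt (wdsP H16.PHe.P cdth_W) cdth_P (nat_lit 14)) i = 0 := allZ_sound0 cdth_m_14_0
theorem cdth_m_15 : ∀ i < 2058, (matEnt (wdsP H16.PHe.P cdth_W) cdth_P (nat_lit 15)) i = 0 := allZ_sound0 cdth_m_15_0
theorem cdth_m : ∀ k < 16, ∀ i < 2058, (matEnt (wdsP H16.PHe.P cdth_W) cdth_P) k i = 0 :=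
  letters_glue (letters_glue (letters_glue (letters_glue (letters_glue (letters_glue (letters_glue (letters_glue (letters_glue (letters_glue (letters_glue (letters_glue (letters_glue (letters_glue (letters_glue (letters_glue (letters_nil) cdth_m_0) cdth_m_1) cdth_m_2) cdth_m_3) cdth_m_4) cdth_m_5) cdth_m_6) cdth_m_7) cdth_m_8) cdth_m_9) cdth_m_10) cdth_m_11) cdth_m_12) cdth_m_13) cdth_m_14) cdth_m_15
theorem cdth_act {G Ω : Type*} [Group G] [MulAction G Ω] {g : ℕ → G} {pt : ℕ → Ω}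
    (M : Md g pt H16.PHe.P 2058 7 H16.PHe.B 4030387200) : Act (wds g cdth_W) pt cdth_P 2058 16 :=
  act_mat (M.wact cdth_lt) cdth_m
theorem cdtl0_e : ∀ i < 2057, (dent cdtl0 cdth_P (nat_lit 2058)) i = 0 := allZ_sound0 cdtl0_e_0
theorem cdtl0_ok : DOK cdtl0 cdth_P 2058 := ⟨cdtl0_h, cdtl0_e⟩
theorem cdtl1_e : ∀ i < 424, (dent cdtl1 cdth_P (nat_lit 2058)) i = 0 := allZ_sound0 cdtl1_e_0
theorem cdtl1_ok : DOK cdtl1 cdth_P 2058 := ⟨cdtl1_h, cdtl1_e⟩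
theorem cdtl2_e : ∀ i < 63, (dent cdtl2 cdth_P (nat_lit 2058)) i = 0 := allZ_sound0 cdtl2_e_0
theorem cdtl2_ok : DOK cdtl2 cdth_P 2058 := ⟨cdtl2_h, cdtl2_e⟩
theorem cdtl3_e : ∀ i < 8, (dent cdtl3 cdth_P (nat_lit 2058)) i = 0 := allZ_sound0 cdtl3_e_0
theorem cdtl3_ok : DOK cdtl3 cdth_P 2058 := ⟨cdtl3_h, cdtl3_e⟩
theorem cdtl4_e : ∀ i < 3, (dent cdtl4 cdth_P (nat_lit 2058)) i = 0 := allZ_sound0 cdtl4_e_0
theorem cdtl4_ok : DOK cdtl4 cdth_P 2058 := ⟨cdtl4_h, cdtl4_e⟩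
theorem cdtl5_e : ∀ i < 1, (dent cdtl5 cdth_P (nat_lit 2058)) i = 0 := allZ_sound0 cdtl5_e_0
theorem cdtl5_ok : DOK cdtl5 cdth_P 2058 := ⟨cdtl5_h, cdtl5_e⟩
theorem cdt_low {G Ω : Type*} [Group G] [MulAction G Ω] {g : ℕ → G} {pt : ℕ → Ω}
    (M : Md g pt H16.PHe.P 2058 7 H16.PHe.B 4030387200) : SLow (gi (wds g cdth_W)) pt 2058 [cdtl0, cdtl1, cdtl2, cdtl3, cdtl4, cdtl5] :=
  ((((((SLow.nil).cons cdtl5_ok (cdth_act M) cdt_f5).cons cdtl4_ok (cdth_act M) cdt_f4).cons cdtl3_ok (cdth_act M) cdt_f3).cons cdtl2_ok (cdth_act M) cdt_f2).cons cdtl1_ok (cdth_act M) cdt_f1).cons cdtl0_ok (cdth_act M) cdt_f0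
theorem cdt_S0 {G Ω : Type*} [Group G] [MulAction G Ω] {g : ℕ → G} {pt : ℕ → Ω}
    (M : Md g pt H16.PHe.P 2058 7 H16.PHe.B 4030387200) : Stage ⊤ (wds g cdth_W) pt 2058 [cdtl0, cdtl1, cdtl2, cdtl3, cdtl4, cdtl5] [] :=
  M.stage (cdt_low M) cdt_c
theorem cdt_S1 {G Ω : Type*} [Group G] [MulAction G Ω] {g : ℕ → G} {pt : ℕ → Ω}
    (M : Md g pt H16.PHe.P 2058 7 H16.PHe.B 4030387200) : Stage ⊤ (wds g cdth_W) pt 2058 [cdtl1, cdtl2, cdtl3, cdtl4, cdtl5] [cdtl0.Pt 0] :=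
  (cdt_S0 M).next
theorem cdt_S2 {G Ω : Type*} [Group G] [MulAction G Ω] {g : ℕ → G} {pt : ℕ → Ω}
    (M : Md g pt H16.PHe.P 2058 7 H16.PHe.B 4030387200) : Stage ⊤ (wds g cdth_W) pt 2058 [cdtl2, cdtl3, cdtl4, cdtl5] [cdtl1.Pt 0, cdtl0.Pt 0] :=
  (cdt_S1 M).next
theorem cdt_S3 {G Ω : Type*} [Group G] [MulAction G Ω] {g : ℕ → G} {pt : ℕ → Ω}
    (M : Md g pt H16.PHe.P 2058 7 H16.PHe.B 4030387200) : Stage ⊤ (wds g cdth_W) pt 2058 [cdtl3, cdtl4, cdtl5] [cdtl2.Pt 0, cdtl1.Pt 0, cdtl0.Pt 0] :=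
  (cdt_S2 M).next
theorem cdt_S4 {G Ω : Type*} [Group G] [MulAction G Ω] {g : ℕ → G} {pt : ℕ → Ω}
    (M : Md g pt H16.PHe.P 2058 7 H16.PHe.B 4030387200) : Stage ⊤ (wds g cdth_W) pt 2058 [cdtl4, cdtl5] [cdtl3.Pt 0, cdtl2.Pt 0, cdtl1.Pt 0, cdtl0.Pt 0] :=
  (cdt_S3 M).next
theorem cdt_S5 {G Ω : Type*} [Group G] [MulAction G Ω] {g : ℕ → G} {pt : ℕ → Ω}
    (M : Md g pt H16.PHe.P 2058 7 H16.PHe.B 4030387200) : Stage ⊤ (wds g cdth_W) pt 2058 [cdtl5] [cdtl4.Pt 0, cdtl3.Pt 0, cdtl2.Pt 0, cdtl1.Pt 0, cdtl0.Pt 0] :=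
  (cdt_S4 M).next
theorem cdt_S6 {G Ω : Type*} [Group G] [MulAction G Ω] {g : ℕ → G} {pt : ℕ → Ω}
    (M : Md g pt H16.PHe.P 2058 7 H16.PHe.B 4030387200) : Stage ⊤ (wds g cdth_W) pt 2058 [] [cdtl5.Pt 0, cdtl4.Pt 0, cdtl3.Pt 0, cdtl2.Pt 0, cdtl1.Pt 0, cdtl0.Pt 0] :=
  (cdt_S5 M).next
theorem cde_m_0 : ∀ i < 2058, (matEnt (wdsP H16.PHe.P cde_W) cde_P (nat_lit 0)) i = 0 := allZ_sound0 cde_m_0_0
theorem cde_m_1 : ∀ i < 2058, (matEnt (wdsP H16.PHe.P cde_W) cde_P (nat_lit 1)) i = 0 := allZ_sound0 cde_m_1_0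
theorem cde_m_2 : ∀ i < 2058, (matEnt (wdsP H16.PHe.P cde_W) cde_P (nat_lit 2)) i = 0 := allZ_sound0 cde_m_2_0
theorem cde_m_3 : ∀ i < 2058, (matEnt (wdsP H16.PHe.P cde_W) cde_P (nat_lit 3)) i = 0 := range_glue (allZ_sound0 cde_m_3_0) cde_m_3_1
theorem cde_m : ∀ k < 4, ∀ i < 2058, (matEnt (wdsP H16.PHe.P cde_W) cde_P) k i = 0 :=
  letters_glue (letters_glue (letters_glue (letters_glue (letters_nil) cde_m_0) cde_m_1) cde_m_2) cde_m_3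
theorem cde_act {G Ω : Type*} [Group G] [MulAction G Ω] {g : ℕ → G} {pt : ℕ → Ω}
    (M : Md g pt H16.PHe.P 2058 7 H16.PHe.B 4030387200) : Act (wds g cde_W) pt cde_P 2058 4 :=
  act_mat (M.wact cde_lt) cde_m
theorem cdc5_e : ∀ i < 1, (dent cdc5 cde_P (nat_lit 2058)) i = 0 := allZ_sound0 cdc5_e_0
theorem cdc5_ok : DOK cdc5 cde_P 2058 := ⟨cdc5_h, cdc5_e⟩
theorem cdtn0_1 : ∀ i < 2, (cdtn0.ent H16.PHe.P cdth_P d_P d_P cde_P (nat_lit 7) (nat_lit 3) H16.PHe.B cdtl5 [] (memO cdc5)) i = 0 := allZ_sound0 cdtn0_1_0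
theorem cdtn0_t {G Ω : Type*} [Group G] [MulAction G Ω] {g : ℕ → G} {pt : ℕ → Ω}
    (M : Md g pt H16.PHe.P 2058 7 H16.PHe.B 4030387200) : TrO (gen (wds g cdth_W) cdtl5.K) (wds g d_W) (wds g d_W) 3 pt 2058 (cdtl5.Pt 0) (memO cdc5) :=
  node M (cdt_S5 M) (cdth_act M) (d_act M) (d_act M) cdtn0 ((cde_act M).mono (by decide)) (fun _ _ => trivial) cdtn0_0 cdtn0_1 (List.forall_mem_nil _)
theorem cdc4_e : ∀ i < 1, (dent cdc4 cde_P (nat_lit 2058)) i = 0 := allZ_sound0 cdc4_e_0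
theorem cdc4_ok : DOK cdc4 cde_P 2058 := ⟨cdc4_h, cdc4_e⟩
theorem cdtn1_1 : ∀ i < 4, (cdtn1.ent H16.PHe.P cdth_P d_P d_P cde_P (nat_lit 7) (nat_lit 3) H16.PHe.B cdtl4 [cdtl5] (memO cdc4)) i = 0 := allZ_sound0 cdtn1_1_0
theorem cdtn1_t {G Ω : Type*} [Group G] [MulAction G Ω] {g : ℕ → G} {pt : ℕ → Ω}
    (M : Md g pt H16.PHe.P 2058 7 H16.PHe.B 4030387200) : TrO (gen (wds g cdth_W) cdtl4.K) (wds g d_W) (wds g d_W) 3 pt 2058 (cdtl4.Pt 0) (memO cdc4) :=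
  node M (cdt_S4 M) (cdth_act M) (d_act M) (d_act M) cdtn1 ((cde_act M).mono (by decide)) (fun _ _ => trivial) cdtn1_0 cdtn1_1 (List.forall_mem_nil _)
theorem cdc0_e : ∀ i < 3, (dent cdc0 cde_P (nat_lit 2058)) i = 0 := allZ_sound0 cdc0_e_0
theorem cdc0_ok : DOK cdc0 cde_P 2058 := ⟨cdc0_h, cdc0_e⟩
theorem cdtn2_1 : ∀ i < 2058, (cdtn2.ent H16.PHe.P cdth_P d_P d_P cde_P (nat_lit 7) (nat_lit 3) H16.PHe.B cdtl0 [cdtl1, cdtl2, cdtl3, cdtl4, cdtl5] (memO cdc0)) i = 0 := allZ_sound0 cdtn2_1_0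
theorem cdtn2_t {G Ω : Type*} [Group G] [MulAction G Ω] {g : ℕ → G} {pt : ℕ → Ω}
    (M : Md g pt H16.PHe.P 2058 7 H16.PHe.B 4030387200) : TrO (gen (wds g cdth_W) cdtl0.K) (wds g d_W) (wds g d_W) 3 pt 2058 (cdtl0.Pt 0) (memO cdc0) :=
  node M (cdt_S0 M) (cdth_act M) (d_act M) (d_act M) cdtn2 ((cde_act M).mono (by decide)) (fun _ _ => trivial) cdtn2_0 cdtn2_1 (List.forall_mem_nil _)
theorem cd {G Ω : Type*} [Group G] [MulAction G Ω] {g : ℕ → G} {pt : ℕ → Ω}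
    (M : Md g pt H16.PHe.P 2058 7 H16.PHe.B 4030387200) : Cen ⊤ (wds g d_W) 3 (wds g cde_W) pt 2058 [cdc0, cdc4, cdc5] :=
  (cdt_S0 M).top ▸ Cen.lev M (cdt_S0 M) (Cen.triv (cdt_S1 M) (Cen.triv (cdt_S2 M) (Cen.triv (cdt_S3 M) (Cen.lev M (cdt_S4 M) (Cen.lev M (cdt_S5 M) (Cen.bot) (cdtn0_t M) (d_act M) (cde_act M) (fun _ _ => trivial) cdc5_ok cd_f5) (cdtn1_t M) (d_act M) (cde_act M) (fun _ _ => trivial) cdc4_ok cd_f4) (forced (cdt_S3 M) (cdth_act M) (d_act M) _ _ cd_f3)) (forced (cdt_S2 M) (cdth_act M) (d_act M) _ _ cd_f2)) (forced (cdt_S1 M) (cdth_act M) (d_act M) _ _ cd_f1)) (cdtn2_t M) (d_act M) (cde_act M) (fun _ _ => trivial) cdc0_ok cd_f0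
theorem cd_eq {G Ω : Type*} [Group G] [MulAction G Ω] {g : ℕ → G} {pt : ℕ → Ω}
    (M : Md g pt H16.PHe.P 2058 7 H16.PHe.B 4030387200) : Subgroup.centralizer (gen (wds g d_W) 3) = gen (wds g cde_W) 4 ∧ Nat.card (gen (wds g cde_W) 4) = 16 :=
  cd_c.1 ▸ cd_c.2 ▸ ⟨(cd M).cent, (cd M).card M.inj⟩
theorem wd0_k : ∀ i < 6, (cmEnt H15.IC.He.p2t_P cde_P (nat_lit 6) H16.PHe.B (nat_lit 0)) i = 0 := allZ_sound0 wd0_k_0
theorem wd0 {G Ω : Type*} [Group G] [MulAction G Ω] {g : ℕ → G} {pt : ℕ → Ω}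
    (M : Md g pt H16.PHe.P 2058 7 H16.PHe.B 4030387200) : (wds g cde_W) 0 ∈ Subgroup.centralizer ((gen (wds g H15.IC.He.p2t_W) 6) : Set G) :=
  cms M ((H15.IC.He.p2t_act M).mono (by decide)) (cde_act M) (by decide) wd0_k
theorem wd1_k : ∀ i < 6, (cmEnt H15.IC.He.p2t_P cde_P (nat_lit 6) H16.PHe.B (nat_lit 1)) i = 0 := allZ_sound0 wd1_k_0
theorem wd1 {G Ω : Type*} [Group G] [MulAction G Ω] {g : ℕ → G} {pt : ℕ → Ω}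
    (M : Md g pt H16.PHe.P 2058 7 H16.PHe.B 4030387200) : (wds g cde_W) 1 ∈ Subgroup.centralizer ((gen (wds g H15.IC.He.p2t_W) 6) : Set G) :=
  cms M ((H15.IC.He.p2t_act M).mono (by decide)) (cde_act M) (by decide) wd1_k
theorem wd2_k : ∀ i < 6, (cmEnt H15.IC.He.p2t_P cde_P (nat_lit 6) H16.PHe.B (nat_lit 2)) i = 0 := allZ_sound0 wd2_k_0
theorem wd2 {G Ω : Type*} [Group G] [MulAction G Ω] {g : ℕ → G} {pt : ℕ → Ω}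
    (M : Md g pt H16.PHe.P 2058 7 H16.PHe.B 4030387200) : (wds g cde_W) 2 ∈ Subgroup.centralizer ((gen (wds g H15.IC.He.p2t_W) 6) : Set G) :=
  cms M ((H15.IC.He.p2t_act M).mono (by decide)) (cde_act M) (by decide) wd2_k
theorem wd3_k : ∀ i < 6, (cmEnt H15.IC.He.p2t_P cde_P (nat_lit 6) H16.PHe.B (nat_lit 3)) i = 0 := allZ_sound0 wd3_k_0
theorem wd3 {G Ω : Type*} [Group G] [MulAction G Ω] {g : ℕ → G} {pt : ℕ → Ω}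
    (M : Md g pt H16.PHe.P 2058 7 H16.PHe.B 4030387200) : (wds g cde_W) 3 ∈ Subgroup.centralizer ((gen (wds g H15.IC.He.p2t_W) 6) : Set G) :=
  cms M ((H15.IC.He.p2t_act M).mono (by decide)) (cde_act M) (by decide) wd3_k
theorem ivw {G Ω : Type*} [Group G] [MulAction G Ω] {g : ℕ → G} {pt : ℕ → Ω}
    (M : Md g pt H16.PHe.P 2058 7 H16.PHe.B 4030387200) : Iv (gen (wds g H15.IC.He.p2t_W) 10) (gen (wds g cde_W) 4) :=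
  have := M.fin
  iv_self.com.sw (gen_le.2 fun i hi => match i, hi with | 0, _ => com_mem (W := [9]) (b := 6) (by decide) (evA_mem_gen _ (by decide)) (de0 M) (dr0 M) | 1, _ => com_mem (W := [8]) (b := 4) (by decide) (evA_mem_gen _ (by decide)) (de1 M) (dr1 M) | 2, _ => com_mem (W := [9]) (b := 8) (by decide) (evA_mem_gen _ (by decide)) (de2 M) (dr2 M))
    (com_le (H15.IC.He.p2_pc M).toPC0 (by decide) (sm_der (H15.IC.He.p2_sm M).1 H15.IC.He.p2_p dk)) (cd_eq M).1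
    (gen_le.2 fun i hi => match i, hi with | 0, _ => wd0 M | 1, _ => wd1 M | 2, _ => wd2 M | 3, _ => wd3 M)
theorem wU {G Ω : Type*} [Group G] [MulAction G Ω] {g : ℕ → G} {pt : ℕ → Ω}
    (M : Md g pt H16.PHe.P 2058 7 H16.PHe.B 4030387200) : gen (wds g cde_W) 4 ≤ gen (wds g H15.IC.He.p2t_W) 10 :=
  M.gen_le (H15.IC.He.p2t_act M) (cde_act M) wU_k
theorem zW {G Ω : Type*} [Group G] [MulAction G Ω] {g : ℕ → G} {pt : ℕ → Ω}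
    (M : Md g pt H16.PHe.P 2058 7 H16.PHe.B 4030387200) : (wds g H15.IC.He.c0ax_W) 0 = evA (wds g cde_W) [1, 2] ∧ (wds g H15.IC.He.c0ax_W) 0 ∈ gen (wds g cde_W) 4 :=
  M.eqw (cde_act M) (H15.IC.He.c0ax_act M) (by decide) zW_k
theorem f_act {G Ω : Type*} [Group G] [MulAction G Ω] {g : ℕ → G} {pt : ℕ → Ω}
    (M : Md g pt H16.PHe.P 2058 7 H16.PHe.B 4030387200) : Act (wds g f_W) pt f_P 2058 4 :=
  M.wact f_lt
theorem f1 {G Ω : Type*} [Group G] [MulAction G Ω] {g : ℕ → G} {pt : ℕ → Ω}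
    (M : Md g pt H16.PHe.P 2058 7 H16.PHe.B 4030387200) : (wds g f_W) 1 ∈ Subgroup.normalizer (gen (wds g cde_W) 4 : Set G) :=
  M.norm (cde_act M) (f_act M) (by decide) f1_k
theorem f2 {G Ω : Type*} [Group G] [MulAction G Ω] {g : ℕ → G} {pt : ℕ → Ω}
    (M : Md g pt H16.PHe.P 2058 7 H16.PHe.B 4030387200) : evA (wds g f_W) [0, 2] = evA (wds g f_W) [2, 0] :=
  M.eq_of (f_act M) f2_k
theorem f3 {G Ω : Type*} [Group G] [MulAction G Ω] {g : ℕ → G} {pt : ℕ → Ω}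
    (M : Md g pt H16.PHe.P 2058 7 H16.PHe.B 4030387200) : evA (wds g f_W) [0, 1, 2, 1] = evA (wds g f_W) [1, 2, 1, 3] :=
  M.eq_of (f_act M) f3_k
theorem f4 {G Ω : Type*} [Group G] [MulAction G Ω] {g : ℕ → G} {pt : ℕ → Ω}
    (M : Md g pt H16.PHe.P 2058 7 H16.PHe.B 4030387200) : evA (wds g f_W) [3, 0] ≠ evA (wds g f_W) [0, 3] :=
  M.nrel (f_act M) _ f4_k
theorem kg {G Ω : Type*} [Group G] [MulAction G Ω] {g : ℕ → G} {pt : ℕ → Ω}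
    (M : Md g pt H16.PHe.P 2058 7 H16.PHe.B 4030387200) : H18.UB.KG G :=
  have := M.fin
  kg4 (f := (wds g f_W)) (L := [1, 2, 1]) (z0 M) (ivw M) (wU M) (zW M).2 (f1 M) (f2 M) (by decide) (f3 M) (f4 M)
theorem spor : H18.UB.KG Cfsg.Spor.He := by
  obtain ⟨_, g, M, -⟩ := H15.IC.He.md H16.PHe.equiv.symm
  exact kg M

end H15.UB.He
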