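import Cfsg.Agent.H15.UB1
import Cfsg.Agent.H15.IC.J2

/-! Generated by tools/h15/ub/gk.py (kit tools/h0/tr). -/

set_option maxRecDepth 100000
set_option maxHeartbeats 0

namespace H15.UB.J2
open H16 H0.TR
open H15.QS H15.UB
open scoped commutatorElement Pointwise

noncomputable def cuth_W : List (List ℕ) := [[nat_lit 0, nat_lit 2, nat_lit 1, nat_lit 1, nat_lit 3, nat_lit 2, nat_lit 1],
  [nat_lit 2, nat_lit 1, nat_lit 2, nat_lit 3, nat_lit 2, nat_lit 0, nat_lit 2],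
  [nat_lit 2, nat_lit 0, nat_lit 3, nat_lit 2, nat_lit 0, nat_lit 2, nat_lit 1, nat_lit 3, nat_lit 2],
  [nat_lit 2, nat_lit 1, nat_lit 2, nat_lit 0, nat_lit 3, nat_lit 2],
  [nat_lit 0],
  [nat_lit 1],
  [nat_lit 2],
  [nat_lit 3],
  [nat_lit 4],
  [nat_lit 3, nat_lit 2, nat_lit 1, nat_lit 2, nat_lit 0, nat_lit 2, nat_lit 1, nat_lit 4, nat_lit 1]]
noncomputable def cuth_P : ℕ → ℕ → ℕ := wdsP H16.J2.P cuth_W
noncomputable def cutl0Dd : ℕ := nat_lit 0xe2167aa6fece2a8bd29cb82c29fa56932378d9937f19118df277990701a25e966571484f9344a9203053d4590245497629454ec83428da40048318822743414cc32c09c144d6330c211c620fc86184570a4160f0210c82807c5f13044178430e44a05c380b8150dc24050400d82c0701b030190600d02c090281002000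
noncomputable def cutl0D (u : ℕ) : ℕ := Nat.land (Nat.shiftRight cutl0Dd (Nat.mul u (nat_lit 10))) (nat_lit 1023)
noncomputable def cutl0Pd : ℕ := nat_lit 0xa90ad489f8ef3e71895bb58890b054dda5c415cfb2950281c51763bf6a9cab32876a9a4ae9790c135b1ea24e34c1f4b08e3358dc97a32f89530698d25658d815165b9461c4249c44c0b8710ba60c16d8308b96bc2c08080
noncomputable def cutl0P (u : ℕ) : ℕ := Nat.land (Nat.shiftRight cutl0Pd (Nat.mul u (nat_lit 7))) (nat_lit 127)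
noncomputable def cutl0Qd : ℕ := nat_lit 0xbd696b74b763501384f1c9ca9ee342b99c9be4db30332d4608ac4d0e1f8914a8971384b0e8c5ba4d61d18130ed472182d7b34d1c78431d942f5aacf9ad1f4852f15911a0e0bf647c9385eb1026206d2152c2c5071008080
noncomputable def cutl0Q (u : ℕ) : ℕ := Nat.land (Nat.shiftRight cutl0Qd (Nat.mul u (nat_lit 7))) (nat_lit 127)
noncomputable def cutl0 : H16.Lev := ⟨100, 10, cutl0D, cutl0P, cutl0Q⟩
noncomputable def cutl1Dd : ℕ := nat_lit 0x8e7d4838317c6d5e30645d294e3e44342e191318110b100908171d160f1c0c0706050400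
noncomputable def cutl1D (u : ℕ) : ℕ := Nat.land (Nat.shiftRight cutl1Dd (Nat.mul u (nat_lit 8))) (nat_lit 255)
noncomputable def cutl1Pd : ℕ := nat_lit 0xa1764306f1da21ae80e4fbd0b1333f69c63b8f913220ae55459255407eecaa8
noncomputable def cutl1P (u : ℕ) : ℕ := Nat.land (Nat.shiftRight cutl1Pd (Nat.mul u (nat_lit 7))) (nat_lit 127)
noncomputable def cutl1Qd : ℕ := nat_lit 0x41500001788f0120006c00080000236000000091a17800000160040ce0000800117c001d50c02000000728500000000000d71a4c001900000000004000000b000000000000000000000000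
noncomputable def cutl1Q (u : ℕ) : ℕ := Nat.land (Nat.shiftRight cutl1Qd (Nat.mul u (nat_lit 6))) (nat_lit 63)
noncomputable def cutl1 : H16.Lev := ⟨36, 8, cutl1D, cutl1P, cutl1Q⟩
noncomputable def cutl2Dd : ℕ := nat_lit 0xec65430
noncomputable def cutl2D (u : ℕ) : ℕ := Nat.land (Nat.shiftRight cutl2Dd (Nat.mul u (nat_lit 4))) (nat_lit 15)
noncomputable def cutl2Pd : ℕ := nat_lit 0x1419b4bc815d4
noncomputable def cutl2P (u : ℕ) : ℕ := Nat.land (Nat.shiftRight cutl2Pd (Nat.mul u (nat_lit 7))) (nat_lit 127)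
noncomputable def cutl2Qd : ℕ := nat_lit 0xc0000000006000000000000000000004a00000200000002000000000000000000000000
noncomputable def cutl2Q (u : ℕ) : ℕ := Nat.land (Nat.shiftRight cutl2Qd (Nat.mul u (nat_lit 3))) (nat_lit 7)
noncomputable def cutl2 : H16.Lev := ⟨7, 4, cutl2D, cutl2P, cutl2Q⟩
noncomputable def cutl3Dd : ℕ := nat_lit 0x38
noncomputable def cutl3D (u : ℕ) : ℕ := Nat.land (Nat.shiftRight cutl3Dd (Nat.mul u (nat_lit 2))) (nat_lit 3)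
noncomputable def cutl3Pd : ℕ := nat_lit 0x313c5
noncomputable def cutl3P (u : ℕ) : ℕ := Nat.land (Nat.shiftRight cutl3Pd (Nat.mul u (nat_lit 7))) (nat_lit 127)
noncomputable def cutl3Qd : ℕ := nat_lit 0x40000000000002000000
noncomputable def cutl3Q (u : ℕ) : ℕ := Nat.land (Nat.shiftRight cutl3Qd (Nat.mul u (nat_lit 2))) (nat_lit 3)
noncomputable def cutl3 : H16.Lev := ⟨3, 3, cutl3D, cutl3P, cutl3Q⟩
noncomputable def cutl4Dd : ℕ := nat_lit 0xb9643100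
noncomputable def cutl4D (u : ℕ) : ℕ := Nat.land (Nat.shiftRight cutl4Dd (Nat.mul u (nat_lit 4))) (nat_lit 15)
noncomputable def cutl4Pd : ℕ := nat_lit 0x9a3d2d2aa2eb0a
noncomputable def cutl4P (u : ℕ) : ℕ := Nat.land (Nat.shiftRight cutl4Pd (Nat.mul u (nat_lit 7))) (nat_lit 127)
noncomputable def cutl4Qd : ℕ := nat_lit 0x58100038000000000000000000000000000028000000000000000c00400000000
noncomputable def cutl4Q (u : ℕ) : ℕ := Nat.land (Nat.shiftRight cutl4Qd (Nat.mul u (nat_lit 3))) (nat_lit 7)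
noncomputable def cutl4 : H16.Lev := ⟨8, 2, cutl4D, cutl4P, cutl4Q⟩
noncomputable def cue_W : List (List ℕ) := [[nat_lit 4, nat_lit 2, nat_lit 1, nat_lit 1, nat_lit 3, nat_lit 2, nat_lit 4]]
noncomputable def cue_P : ℕ → ℕ → ℕ := wdsP H16.J2.P cue_W
noncomputable def cuc0Dd : ℕ := nat_lit 0
noncomputable def cuc0D (u : ℕ) : ℕ := Nat.land (Nat.shiftRight cuc0Dd (Nat.mul u (nat_lit 1))) (nat_lit 1)
noncomputable def cuc0Pd : ℕ := nat_lit 0x2c0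
noncomputable def cuc0P (u : ℕ) : ℕ := Nat.land (Nat.shiftRight cuc0Pd (Nat.mul u (nat_lit 5))) (nat_lit 31)
noncomputable def cuc0Qd : ℕ := nat_lit 0x400000
noncomputable def cuc0Q (u : ℕ) : ℕ := Nat.land (Nat.shiftRight cuc0Qd (Nat.mul u (nat_lit 1))) (nat_lit 1)
noncomputable def cuc0 : H16.Lev := ⟨2, 1, cuc0D, cuc0P, cuc0Q⟩
noncomputable def cutn0Fd : ℕ := nat_lit 0x96aa5aa69aaaaaa969965656556655565a5566555555655514
noncomputable def cutn0F (u : ℕ) : ℕ := Nat.land (Nat.shiftRight cutn0Fd (Nat.mul u (nat_lit 2))) (nat_lit 3)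
noncomputable def cutn0 : Nd := ⟨cutn0F, (nat_lit 2), (nat_lit 1), [[nat_lit 1, nat_lit 4],
  [nat_lit 0]], [((nat_lit 0), []), ((nat_lit 0), [nat_lit 6]), ((nat_lit 0), [nat_lit 3]), ((nat_lit 0), [nat_lit 5])], []⟩
noncomputable def v_W : List (List ℕ) := [[nat_lit 3],
  [nat_lit 4, nat_lit 1, nat_lit 1, nat_lit 2, nat_lit 3, nat_lit 4],
  [nat_lit 2, nat_lit 0, nat_lit 2, nat_lit 1, nat_lit 1, nat_lit 4, nat_lit 2, nat_lit 1, nat_lit 2],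
  [nat_lit 0, nat_lit 2, nat_lit 1, nat_lit 2, nat_lit 4, nat_lit 2, nat_lit 4, nat_lit 2, nat_lit 0, nat_lit 2, nat_lit 1]]
noncomputable def v_P : ℕ → ℕ → ℕ := wdsP H16.J2.P v_W
noncomputable def cvth_W : List (List ℕ) := [[nat_lit 1, nat_lit 1, nat_lit 2, nat_lit 1, nat_lit 2, nat_lit 0, nat_lit 2, nat_lit 1, nat_lit 1],
  [nat_lit 1, nat_lit 1, nat_lit 2, nat_lit 0, nat_lit 2, nat_lit 0, nat_lit 3, nat_lit 2, nat_lit 1, nat_lit 2, nat_lit 1, nat_lit 1],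
  [nat_lit 1, nat_lit 1, nat_lit 2, nat_lit 3, nat_lit 2, nat_lit 1, nat_lit 2, nat_lit 3],
  [nat_lit 0],
  [nat_lit 1],
  [nat_lit 2],
  [nat_lit 3],
  [nat_lit 0, nat_lit 3, nat_lit 2, nat_lit 1, nat_lit 2, nat_lit 1],
  [nat_lit 4],
  [nat_lit 3, nat_lit 4, nat_lit 2, nat_lit 4, nat_lit 2, nat_lit 0, nat_lit 2, nat_lit 1, nat_lit 3, nat_lit 2]]
noncomputable def cvth_P : ℕ → ℕ → ℕ := wdsP H16.J2.P cvth_W
noncomputable def cvtl0Dd : ℕ := nat_lit 0xd36e07b2fd73b2d9fa999aac91b6858912e9c5de2363585e206383b3c96687d5c4f99609cc04a9824590c6c5324e8e44e50917100318bc2c85a278393acd8228fe2e876334a63f4c32bcd62e0d526820304ad1f41e1cc581c88f2147115442098541042e14c37050400b43f08c3502c21070110680c0281805c0f02000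
noncomputable def cvtl0D (u : ℕ) : ℕ := Nat.land (Nat.shiftRight cvtl0Dd (Nat.mul u (nat_lit 10))) (nat_lit 1023)
noncomputable def cvtl0Pd : ℕ := nat_lit 0xaf72d48c6e23c2bb527b39329bbec0fd0d8777afb296c2851c5195d254b2a9c6282cd3c3311283f6c8352ce4acd4f008a37b14ec34b10699366a75682d0a1826e9b24163d7095e4872d103053c521c31e0a5d3030808080
noncomputable def cvtl0P (u : ℕ) : ℕ := Nat.land (Nat.shiftRight cvtl0Pd (Nat.mul u (nat_lit 7))) (nat_lit 127)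
noncomputable def cvtl0Qd : ℕ := nat_lit 0xbf1ddd39b3ade26d85ed0c6820da7912449b28583a975abe0bb195265170faea55158c9e6995eaa65a1eb131fca26548428b0c5b85e1539858e68be6e214c0468921c0ccd89d36496b52c4528e2e34a0f14243830808080
noncomputable def cvtl0Q (u : ℕ) : ℕ := Nat.land (Nat.shiftRight cvtl0Qd (Nat.mul u (nat_lit 7))) (nat_lit 127)
noncomputable def cvtl0 : H16.Lev := ⟨100, 10, cvtl0D, cvtl0P, cvtl0Q⟩
noncomputable def cvtl1Dd : ℕ := nat_lit 0x3a28d55b2512c7432bb755c6062ad54ae36d920808d1d0c9561951a152628049d0e66d0f974d81710190aa4e0d1ac30631f0f4142e1d8b40e250f058380e0d8341606028100600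
noncomputable def cvtl1D (u : ℕ) : ℕ := Nat.land (Nat.shiftRight cvtl1Dd (Nat.mul u (nat_lit 9))) (nat_lit 511)
noncomputable def cvtl1Pd : ℕ := nat_lit 0x182fae89621cba5566d1634dcbc8d396c57a5e65b4831ad66c489c14e60a26b264b1b4aeb0a33c7578634294911e2c6851c04209101c103
noncomputable def cvtl1P (u : ℕ) : ℕ := Nat.land (Nat.shiftRight cvtl1Pd (Nat.mul u (nat_lit 7))) (nat_lit 127)
noncomputable def cvtl1Qd : ℕ := nat_lit 0x57ef40000a006fa024d80cb7d0002ed69e0000002fb3be40800000af0016c40023940000cc047cb400003407dc5e750000001348060f69ea9901d8623002c726628e103090205001180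
noncomputable def cvtl1Q (u : ℕ) : ℕ := Nat.land (Nat.shiftRight cvtl1Qd (Nat.mul u (nat_lit 6))) (nat_lit 63)
noncomputable def cvtl1 : H16.Lev := ⟨63, 8, cvtl1D, cvtl1P, cvtl1Q⟩
noncomputable def cvtl2Dd : ℕ := nat_lit 0xef8d72b246934175113ce2872c9204143080
noncomputable def cvtl2D (u : ℕ) : ℕ := Nat.land (Nat.shiftRight cvtl2Dd (Nat.mul u (nat_lit 6))) (nat_lit 63)
noncomputable def cvtl2Pd : ℕ := nat_lit 0x785304d18c693dab7c736880971a484e3076abe98a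
noncomputable def cvtl2P (u : ℕ) : ℕ := Nat.land (Nat.shiftRight cvtl2Pd (Nat.mul u (nat_lit 7))) (nat_lit 127)
noncomputable def cvtl2Qd : ℕ := nat_lit 0x157000000000001e00c40000280000000140b0000000217000000306000240124000000000007000000000002000000163000003413000002000002800
noncomputable def cvtl2Q (u : ℕ) : ℕ := Nat.land (Nat.shiftRight cvtl2Qd (Nat.mul u (nat_lit 5))) (nat_lit 31)
noncomputable def cvtl2 : H16.Lev := ⟨24, 3, cvtl2D, cvtl2P, cvtl2Q⟩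
noncomputable def cvtl3Dd : ℕ := nat_lit 0xd0
noncomputable def cvtl3D (u : ℕ) : ℕ := Nat.land (Nat.shiftRight cvtl3Dd (Nat.mul u (nat_lit 2))) (nat_lit 3)
noncomputable def cvtl3Pd : ℕ := nat_lit 0xab7e344
noncomputable def cvtl3P (u : ℕ) : ℕ := Nat.land (Nat.shiftRight cvtl3Pd (Nat.mul u (nat_lit 7))) (nat_lit 127)
noncomputable def cvtl3Qd : ℕ := nat_lit 0x80000c000000100000000000000000000000000000000000
noncomputable def cvtl3Q (u : ℕ) : ℕ := Nat.land (Nat.shiftRight cvtl3Qd (Nat.mul u (nat_lit 2))) (nat_lit 3)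
noncomputable def cvtl3 : H16.Lev := ⟨4, 2, cvtl3D, cvtl3P, cvtl3Q⟩
noncomputable def cve_W : List (List ℕ) := [[nat_lit 4, nat_lit 2, nat_lit 1, nat_lit 3, nat_lit 1, nat_lit 2, nat_lit 4]]
noncomputable def cve_P : ℕ → ℕ → ℕ := wdsP H16.J2.P cve_W
noncomputable def cvc0Dd : ℕ := nat_lit 0
noncomputable def cvc0D (u : ℕ) : ℕ := Nat.land (Nat.shiftRight cvc0Dd (Nat.mul u (nat_lit 1))) (nat_lit 1)
noncomputable def cvc0Pd : ℕ := nat_lit 0x2c0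
noncomputable def cvc0P (u : ℕ) : ℕ := Nat.land (Nat.shiftRight cvc0Pd (Nat.mul u (nat_lit 5))) (nat_lit 31)
noncomputable def cvc0Qd : ℕ := nat_lit 0x400000
noncomputable def cvc0Q (u : ℕ) : ℕ := Nat.land (Nat.shiftRight cvc0Qd (Nat.mul u (nat_lit 1))) (nat_lit 1)
noncomputable def cvc0 : H16.Lev := ⟨2, 1, cvc0D, cvc0P, cvc0Q⟩
noncomputable def cvtn0Fd : ℕ := nat_lit 0xaa99999655a6695aa6666a992995a5596559955a5955555554
noncomputable def cvtn0F (u : ℕ) : ℕ := Nat.land (Nat.shiftRight cvtn0Fd (Nat.mul u (nat_lit 2))) (nat_lit 3)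
noncomputable def cvtn0 : Nd := ⟨cvtn0F, (nat_lit 2), (nat_lit 1), [[nat_lit 0],
  [nat_lit 1, nat_lit 1]], [((nat_lit 0), []), ((nat_lit 0), [nat_lit 1]), ((nat_lit 0), [nat_lit 2]), ((nat_lit 0), [nat_lit 3]), ((nat_lit 1), [nat_lit 1, nat_lit 0])], []⟩
noncomputable def nvW : List (List (List ℕ)) := [[[nat_lit 0],
  [nat_lit 0, nat_lit 1, nat_lit 0],
  [nat_lit 0, nat_lit 2, nat_lit 0],
  [nat_lit 0, nat_lit 3, nat_lit 0]], [[nat_lit 0],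
  [nat_lit 0, nat_lit 1, nat_lit 3, nat_lit 2],
  [nat_lit 3],
  [nat_lit 0, nat_lit 2, nat_lit 0]], [[nat_lit 0],
  [nat_lit 2, nat_lit 0],
  [nat_lit 3],
  [nat_lit 0, nat_lit 1]], [[nat_lit 0, nat_lit 1, nat_lit 1],
  [nat_lit 0, nat_lit 3],
  [nat_lit 2],
  [nat_lit 1, nat_lit 3, nat_lit 2]], [[nat_lit 1, nat_lit 3, nat_lit 2],
  [nat_lit 0, nat_lit 1, nat_lit 0, nat_lit 2],
  [nat_lit 0, nat_lit 1],
  [nat_lit 0, nat_lit 1, nat_lit 1]], [[nat_lit 0, nat_lit 3, nat_lit 0],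
  [nat_lit 1, nat_lit 0, nat_lit 3],
  [nat_lit 0],
  [nat_lit 2]]]
noncomputable def d_W : List (List ℕ) := [[nat_lit 4, nat_lit 0, nat_lit 0, nat_lit 2, nat_lit 3, nat_lit 4],
  [nat_lit 2, nat_lit 0, nat_lit 2, nat_lit 1, nat_lit 1, nat_lit 4, nat_lit 2, nat_lit 1, nat_lit 2],
  [nat_lit 1, nat_lit 1, nat_lit 3, nat_lit 2, nat_lit 1, nat_lit 2, nat_lit 4, nat_lit 2, nat_lit 0, nat_lit 2, nat_lit 1, nat_lit 1]]
noncomputable def d_P : ℕ → ℕ → ℕ := wdsP H16.J2.P d_W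
noncomputable def cdth_W : List (List ℕ) := [[nat_lit 2, nat_lit 0, nat_lit 2, nat_lit 1, nat_lit 1, nat_lit 4, nat_lit 2, nat_lit 1, nat_lit 2],
  [nat_lit 1, nat_lit 1, nat_lit 2, nat_lit 3, nat_lit 2, nat_lit 1, nat_lit 1],
  [nat_lit 2],
  [nat_lit 2, nat_lit 4, nat_lit 0, nat_lit 2, nat_lit 0, nat_lit 4, nat_lit 2, nat_lit 0, nat_lit 2, nat_lit 1, nat_lit 3, nat_lit 4],
  [nat_lit 4, nat_lit 1, nat_lit 2, nat_lit 0, nat_lit 2, nat_lit 1, nat_lit 4, nat_lit 2, nat_lit 0, nat_lit 2, nat_lit 0, nat_lit 0],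
  [nat_lit 0],
  [nat_lit 1],
  [nat_lit 3],
  [nat_lit 4],
  [nat_lit 3, nat_lit 2, nat_lit 0, nat_lit 2, nat_lit 1]]
noncomputable def cdth_P : ℕ → ℕ → ℕ := wdsP H16.J2.P cdth_W
noncomputable def cdtl0Dd : ℕ := nat_lit 0x823688e2858194a3e57d751ca1c96968a353998e4dc5476daa5c1bd17453598f1100a034df6789166999c648783698849d00088d02f156384bb279421140e4e0ce490ba2751a0ec462e49c26cd421c32300270f474188330a0731844e078601101417c660e4151043802c520dc1c024110a80f080160300801c0601400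
noncomputable def cdtl0D (u : ℕ) : ℕ := Nat.land (Nat.shiftRight cdtl0Dd (Nat.mul u (nat_lit 10))) (nat_lit 1023)
noncomputable def cdtl0Pd : ℕ := nat_lit 0x9f5e6dca11de5580c23617d3a4326efd449552dc34575b058b37932038f5b5d3ec7151c65564c8495152832909276a4d5bbecd39e367569328d69c32116a441e01c8d496870a32e91975e58c075c1040b02446030424305
noncomputable def cdtl0P (u : ℕ) : ℕ := Nat.land (Nat.shiftRight cdtl0Pd (Nat.mul u (nat_lit 7))) (nat_lit 127)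
noncomputable def cdtl0Qd : ℕ := nat_lit 0x76f6c49571a060585a3c8c52ae1d42d1e5fc75b0b89cca855bd64f1c40dd9dba55e15d5e48ccda70514c5551f5a1e2d2b9973d7515315b1722d58c47ea13434eb498d2039d2348c031f3654c051050109180400a080c39a
noncomputable def cdtl0Q (u : ℕ) : ℕ := Nat.land (Nat.shiftRight cdtl0Qd (Nat.mul u (nat_lit 7))) (nat_lit 127)
noncomputable def cdtl0 : H16.Lev := ⟨100, 10, cdtl0D, cdtl0P, cdtl0Q⟩
noncomputable def cdtl1Dd : ℕ := nat_lit 0x6e5d938e84704f4a6b454061563631512c3d223e341d1e181f1312190e090b0506070400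
noncomputable def cdtl1D (u : ℕ) : ℕ := Nat.land (Nat.shiftRight cdtl1Dd (Nat.mul u (nat_lit 8))) (nat_lit 255)
noncomputable def cdtl1Pd : ℕ := nat_lit 0x8e5702f94ea5c5237ad06274c4cc18d70b1a4a8f9bad0ee309e3672279054ab
noncomputable def cdtl1P (u : ℕ) : ℕ := Nat.land (Nat.shiftRight cdtl1Pd (Nat.mul u (nat_lit 7))) (nat_lit 127)
noncomputable def cdtl1Qd : ℕ := nat_lit 0x46101a00901900000b00058f0001c501475f0008c070028008000000301e00000048000040880000000e0400000000040003400003000000008805c06c0000193000540018000000000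
noncomputable def cdtl1Q (u : ℕ) : ℕ := Nat.land (Nat.shiftRight cdtl1Qd (Nat.mul u (nat_lit 6))) (nat_lit 63)
noncomputable def cdtl1 : H16.Lev := ⟨36, 5, cdtl1D, cdtl1P, cdtl1Q⟩
noncomputable def cdtl2Dd : ℕ := nat_lit 0x512429860
noncomputable def cdtl2D (u : ℕ) : ℕ := Nat.land (Nat.shiftRight cdtl2Dd (Nat.mul u (nat_lit 5))) (nat_lit 31)
noncomputable def cdtl2Pd : ℕ := nat_lit 0xc272279054dc
noncomputable def cdtl2P (u : ℕ) : ℕ := Nat.land (Nat.shiftRight cdtl2Pd (Nat.mul u (nat_lit 7))) (nat_lit 127)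
noncomputable def cdtl2Qd : ℕ := nat_lit 0x140000000010003000000006000008000100000000000000000000000000
noncomputable def cdtl2Q (u : ℕ) : ℕ := Nat.land (Nat.shiftRight cdtl2Qd (Nat.mul u (nat_lit 3))) (nat_lit 7)
noncomputable def cdtl2 : H16.Lev := ⟨7, 4, cdtl2D, cdtl2P, cdtl2Q⟩
noncomputable def cdtl3Dd : ℕ := nat_lit 0xed0
noncomputable def cdtl3D (u : ℕ) : ℕ := Nat.land (Nat.shiftRight cdtl3Dd (Nat.mul u (nat_lit 3))) (nat_lit 7)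
noncomputable def cdtl3Pd : ℕ := nat_lit 0xac34faa
noncomputable def cdtl3P (u : ℕ) : ℕ := Nat.land (Nat.shiftRight cdtl3Pd (Nat.mul u (nat_lit 7))) (nat_lit 127)
noncomputable def cdtl3Qd : ℕ := nat_lit 0x30000000000000000000000000004000000008000000
noncomputable def cdtl3Q (u : ℕ) : ℕ := Nat.land (Nat.shiftRight cdtl3Qd (Nat.mul u (nat_lit 2))) (nat_lit 3)
noncomputable def cdtl3 : H16.Lev := ⟨4, 3, cdtl3D, cdtl3P, cdtl3Q⟩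
noncomputable def cdtl4Dd : ℕ := nat_lit 0x24
noncomputable def cdtl4D (u : ℕ) : ℕ := Nat.land (Nat.shiftRight cdtl4Dd (Nat.mul u (nat_lit 2))) (nat_lit 3)
noncomputable def cdtl4Pd : ℕ := nat_lit 0x2ae
noncomputable def cdtl4P (u : ℕ) : ℕ := Nat.land (Nat.shiftRight cdtl4Pd (Nat.mul u (nat_lit 6))) (nat_lit 63)
noncomputable def cdtl4Qd : ℕ := nat_lit 0x100002
noncomputable def cdtl4Q (u : ℕ) : ℕ := Nat.land (Nat.shiftRight cdtl4Qd (Nat.mul u (nat_lit 2))) (nat_lit 3)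
noncomputable def cdtl4 : H16.Lev := ⟨3, 2, cdtl4D, cdtl4P, cdtl4Q⟩
noncomputable def cdtl5Dd : ℕ := nat_lit 0
noncomputable def cdtl5D (u : ℕ) : ℕ := Nat.land (Nat.shiftRight cdtl5Dd (Nat.mul u (nat_lit 1))) (nat_lit 1)
noncomputable def cdtl5Pd : ℕ := nat_lit 0xa0
noncomputable def cdtl5P (u : ℕ) : ℕ := Nat.land (Nat.shiftRight cdtl5Pd (Nat.mul u (nat_lit 4))) (nat_lit 15)
noncomputable def cdtl5Qd : ℕ := nat_lit 0x400
noncomputable def cdtl5Q (u : ℕ) : ℕ := Nat.land (Nat.shiftRight cdtl5Qd (Nat.mul u (nat_lit 1))) (nat_lit 1)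
noncomputable def cdtl5 : H16.Lev := ⟨2, 1, cdtl5D, cdtl5P, cdtl5Q⟩
noncomputable def cde_W : List (List ℕ) := [[nat_lit 2, nat_lit 0, nat_lit 2, nat_lit 1, nat_lit 1, nat_lit 4, nat_lit 2, nat_lit 1, nat_lit 2],
  [nat_lit 3, nat_lit 2, nat_lit 0, nat_lit 2, nat_lit 1, nat_lit 1, nat_lit 4, nat_lit 2, nat_lit 1, nat_lit 2, nat_lit 3]]
noncomputable def cde_P : ℕ → ℕ → ℕ := wdsP H16.J2.P cde_W
noncomputable def cdc5Dd : ℕ := nat_lit 0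
noncomputable def cdc5D (u : ℕ) : ℕ := Nat.land (Nat.shiftRight cdc5Dd (Nat.mul u (nat_lit 1))) (nat_lit 1)
noncomputable def cdc5Pd : ℕ := nat_lit 0xa0
noncomputable def cdc5P (u : ℕ) : ℕ := Nat.land (Nat.shiftRight cdc5Pd (Nat.mul u (nat_lit 4))) (nat_lit 15)
noncomputable def cdc5Qd : ℕ := nat_lit 0x400
noncomputable def cdc5Q (u : ℕ) : ℕ := Nat.land (Nat.shiftRight cdc5Qd (Nat.mul u (nat_lit 1))) (nat_lit 1)
noncomputable def cdc5 : H16.Lev := ⟨2, 1, cdc5D, cdc5P, cdc5Q⟩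
noncomputable def cdtn0Fd : ℕ := nat_lit 0
noncomputable def cdtn0F (u : ℕ) : ℕ := Nat.land (Nat.shiftRight cdtn0Fd (Nat.mul u (nat_lit 1))) (nat_lit 1)
noncomputable def cdtn0 : Nd := ⟨cdtn0F, (nat_lit 2), (nat_lit 1), [], [((nat_lit 0), [])], []⟩
noncomputable def cdc0Dd : ℕ := nat_lit 2
noncomputable def cdc0D (u : ℕ) : ℕ := Nat.land (Nat.shiftRight cdc0Dd (Nat.mul u (nat_lit 1))) (nat_lit 1)
noncomputable def cdc0Pd : ℕ := nat_lit 0xb85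
noncomputable def cdc0P (u : ℕ) : ℕ := Nat.land (Nat.shiftRight cdc0Pd (Nat.mul u (nat_lit 6))) (nat_lit 63)
noncomputable def cdc0Qd : ℕ := nat_lit 0x400000000000
noncomputable def cdc0Q (u : ℕ) : ℕ := Nat.land (Nat.shiftRight cdc0Qd (Nat.mul u (nat_lit 1))) (nat_lit 1)
noncomputable def cdc0 : H16.Lev := ⟨2, 2, cdc0D, cdc0P, cdc0Q⟩
noncomputable def cdtn1y17_W : List (List ℕ) := [[nat_lit 4, nat_lit 1, nat_lit 1, nat_lit 2, nat_lit 3, nat_lit 4],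
  [nat_lit 2, nat_lit 0, nat_lit 2, nat_lit 1, nat_lit 1, nat_lit 4, nat_lit 2, nat_lit 1, nat_lit 2],
  [nat_lit 4, nat_lit 2, nat_lit 0, nat_lit 2, nat_lit 1, nat_lit 1, nat_lit 3, nat_lit 2, nat_lit 0, nat_lit 2, nat_lit 4]]
noncomputable def cdtn1y17_P : ℕ → ℕ → ℕ := wdsP H16.J2.P cdtn1y17_W
noncomputable def cdtr2k_W : List (List ℕ) := [[nat_lit 2, nat_lit 0, nat_lit 2, nat_lit 1, nat_lit 1, nat_lit 4, nat_lit 2, nat_lit 1, nat_lit 2],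
  [nat_lit 2, nat_lit 0, nat_lit 2, nat_lit 1, nat_lit 1, nat_lit 4, nat_lit 2, nat_lit 1, nat_lit 2]]
noncomputable def cdtr2k_P : ℕ → ℕ → ℕ := wdsP H16.J2.P cdtr2k_W
noncomputable def cdtn2Fd : ℕ := nat_lit 9
noncomputable def cdtn2F (u : ℕ) : ℕ := Nat.land (Nat.shiftRight cdtn2Fd (Nat.mul u (nat_lit 2))) (nat_lit 3)
noncomputable def cdtn2 : Nd := ⟨cdtn2F, (nat_lit 2), (nat_lit 2), [], [((nat_lit 0), []), ((nat_lit 1), [nat_lit 2])], []⟩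
noncomputable def cdtn1y86_W : List (List ℕ) := [[nat_lit 2, nat_lit 0, nat_lit 2, nat_lit 1, nat_lit 1, nat_lit 4, nat_lit 2, nat_lit 1, nat_lit 2, nat_lit 1, nat_lit 1, nat_lit 4, nat_lit 2, nat_lit 3, nat_lit 4],
  [nat_lit 2, nat_lit 0, nat_lit 2, nat_lit 1, nat_lit 1, nat_lit 4, nat_lit 2, nat_lit 1, nat_lit 2],
  [nat_lit 4, nat_lit 2, nat_lit 0, nat_lit 2, nat_lit 1, nat_lit 1, nat_lit 3, nat_lit 2, nat_lit 0, nat_lit 2, nat_lit 4]]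
noncomputable def cdtn1y86_P : ℕ → ℕ → ℕ := wdsP H16.J2.P cdtn1y86_W
noncomputable def cdtr3k_W : List (List ℕ) := [[nat_lit 2, nat_lit 0, nat_lit 2, nat_lit 1, nat_lit 1, nat_lit 4, nat_lit 2, nat_lit 1, nat_lit 2],
  []]
noncomputable def cdtr3k_P : ℕ → ℕ → ℕ := wdsP H16.J2.P cdtr3k_W
noncomputable def cdtn3Fd : ℕ := nat_lit 9
noncomputable def cdtn3F (u : ℕ) : ℕ := Nat.land (Nat.shiftRight cdtn3Fd (Nat.mul u (nat_lit 2))) (nat_lit 3)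
noncomputable def cdtn3 : Nd := ⟨cdtn3F, (nat_lit 2), (nat_lit 2), [], [((nat_lit 0), []), ((nat_lit 1), [nat_lit 2])], []⟩
noncomputable def cdtn1y60_W : List (List ℕ) := [[nat_lit 2, nat_lit 0, nat_lit 2, nat_lit 1, nat_lit 1, nat_lit 4, nat_lit 2, nat_lit 1, nat_lit 2, nat_lit 1, nat_lit 1, nat_lit 4, nat_lit 2, nat_lit 3, nat_lit 4],
  [nat_lit 2, nat_lit 0, nat_lit 2, nat_lit 1, nat_lit 1, nat_lit 4, nat_lit 2, nat_lit 1, nat_lit 2],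
  [nat_lit 1, nat_lit 1, nat_lit 3, nat_lit 2, nat_lit 1, nat_lit 2, nat_lit 4, nat_lit 2, nat_lit 0, nat_lit 2, nat_lit 1, nat_lit 1]]
noncomputable def cdtn1y60_P : ℕ → ℕ → ℕ := wdsP H16.J2.P cdtn1y60_W
noncomputable def cdtr4k_W : List (List ℕ) := [[],
  [nat_lit 2, nat_lit 0, nat_lit 2, nat_lit 1, nat_lit 1, nat_lit 4, nat_lit 2, nat_lit 1, nat_lit 2]]
noncomputable def cdtr4k_P : ℕ → ℕ → ℕ := wdsP H16.J2.P cdtr4k_W
noncomputable def cdtn4Fd : ℕ := nat_lit 0xd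
noncomputable def cdtn4F (u : ℕ) : ℕ := Nat.land (Nat.shiftRight cdtn4Fd (Nat.mul u (nat_lit 2))) (nat_lit 3)
noncomputable def cdtn4 : Nd := ⟨cdtn4F, (nat_lit 2), (nat_lit 2), [], [((nat_lit 0), []), ((nat_lit 1), [nat_lit 0])], []⟩
noncomputable def cdtn1Fd : ℕ := nat_lit 0x6db4ca5522d325b6cb64a54d492449b6b26d2954e92ab28a4e9b5955129324924904924d248
noncomputable def cdtn1F (u : ℕ) : ℕ := Nat.land (Nat.shiftRight cdtn1Fd (Nat.mul u (nat_lit 3))) (nat_lit 7)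
noncomputable def cdtn1 : Nd := ⟨cdtn1F, (nat_lit 2), (nat_lit 2), [[nat_lit 1],
  [nat_lit 0, nat_lit 0]], [((nat_lit 0), []), ((nat_lit 0), [nat_lit 0]), ((nat_lit 0), [nat_lit 2]), ((nat_lit 0), [nat_lit 2, nat_lit 0]), ((nat_lit 0), [nat_lit 0, nat_lit 0])], [((nat_lit 17), cdtn1y17_W), ((nat_lit 86), cdtn1y86_W), ((nat_lit 60), cdtn1y60_W)]⟩
noncomputable def f_W : List (List ℕ) := [[nat_lit 4, nat_lit 2, nat_lit 1, nat_lit 1, nat_lit 3, nat_lit 2, nat_lit 4],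
  [nat_lit 1, nat_lit 1, nat_lit 2, nat_lit 3, nat_lit 4, nat_lit 2, nat_lit 0, nat_lit 2, nat_lit 1, nat_lit 2, nat_lit 1, nat_lit 2, nat_lit 0, nat_lit 2],
  [nat_lit 3, nat_lit 4, nat_lit 2, nat_lit 0, nat_lit 2, nat_lit 4],
  [nat_lit 3, nat_lit 2, nat_lit 0, nat_lit 2, nat_lit 4, nat_lit 2, nat_lit 1, nat_lit 2, nat_lit 3]]
noncomputable def f_P : ℕ → ℕ → ℕ := wdsP H16.J2.P f_W

theorem zU_k : Nat.add (ltAll 7 [nat_lit 0]) (sumL (fun β => Nat.xor (H15.IC.J2.c0ax_P 0 β) (apW H15.IC.J2.p2t_P [nat_lit 0] β)) H16.J2.B) = 0 := by decide +kernel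
theorem Uz_k_0 : allZ (cmEnt H15.IC.J2.p2t_P H15.IC.J2.c0ax_P (nat_lit 7) H16.J2.B (nat_lit 0)) (nat_lit 0) (nat_lit 7) = true := by decide +kernel
theorem z1_k : 0 < 100 ∧ ltAll 1 (List.replicate 1 0) = 0 ∧ ltAll 1 [] = 0 ∧ apW H15.IC.J2.c0ax_P (List.replicate 1 0) 0 ≠ apW H15.IC.J2.c0ax_P [] 0 := by decide +kernel
theorem cuth_lt : H16.allL (ltAll 5) cuth_W = true := by decide +kernel
theorem cutl0_e_0 : allZ (dent cutl0 cuth_P (nat_lit 100)) (nat_lit 0) (nat_lit 99) = true := by decide +kernel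
theorem cutl0_h : 0 < cutl0.n ∧ 0 < cutl0.K ∧ cutl0.Pt 0 < 100 ∧ cutl0.Q (cutl0.Pt 0) = 0 := by decide +kernel
theorem cutl1_e_0 : allZ (dent cutl1 cuth_P (nat_lit 100)) (nat_lit 0) (nat_lit 35) = true := by decide +kernel
theorem cutl1_h : 0 < cutl1.n ∧ 0 < cutl1.K ∧ cutl1.Pt 0 < 100 ∧ cutl1.Q (cutl1.Pt 0) = 0 := by decide +kernel
theorem cutl2_e_0 : allZ (dent cutl2 cuth_P (nat_lit 100)) (nat_lit 0) (nat_lit 6) = true := by decide +kernel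
theorem cutl2_h : 0 < cutl2.n ∧ 0 < cutl2.K ∧ cutl2.Pt 0 < 100 ∧ cutl2.Q (cutl2.Pt 0) = 0 := by decide +kernel
theorem cutl3_e_0 : allZ (dent cutl3 cuth_P (nat_lit 100)) (nat_lit 0) (nat_lit 2) = true := by decide +kernel
theorem cutl3_h : 0 < cutl3.n ∧ 0 < cutl3.K ∧ cutl3.Pt 0 < 100 ∧ cutl3.Q (cutl3.Pt 0) = 0 := by decide +kernel
theorem cutl4_e_0 : allZ (dent cutl4 cuth_P (nat_lit 100)) (nat_lit 0) (nat_lit 7) = true := by decide +kernel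
theorem cutl4_h : 0 < cutl4.n ∧ 0 < cutl4.K ∧ cutl4.Pt 0 < 100 ∧ cutl4.Q (cutl4.Pt 0) = 0 := by decide +kernel
theorem cut_f4 : (Nat.ble cutl4.K 10 && Nat.ble (topK []) cutl4.K && fixLetters cuth_P (topK []) (cutl4.Pt 0)) = true := by decide +kernel
theorem cut_f3 : (Nat.ble cutl3.K 10 && Nat.ble (topK [cutl4]) cutl3.K && fixLetters cuth_P (topK [cutl4]) (cutl3.Pt 0)) = true := by decide +kernel
theorem cut_f2 : (Nat.ble cutl2.K 10 && Nat.ble (topK [cutl3, cutl4]) cutl2.K && fixLetters cuth_P (topK [cutl3, cutl4]) (cutl2.Pt 0)) = true := by decide +kernel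
theorem cut_f1 : (Nat.ble cutl1.K 10 && Nat.ble (topK [cutl2, cutl3, cutl4]) cutl1.K && fixLetters cuth_P (topK [cutl2, cutl3, cutl4]) (cutl1.Pt 0)) = true := by decide +kernel
theorem cut_f0 : (Nat.ble cutl0.K 10 && Nat.ble (topK [cutl1, cutl2, cutl3, cutl4]) cutl0.K && fixLetters cuth_P (topK [cutl1, cutl2, cutl3, cutl4]) (cutl0.Pt 0)) = true := by decide +kernel
theorem cut_c : chainCard [cutl0, cutl1, cutl2, cutl3, cutl4] = 604800 := by decide +kernel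
theorem cue_lt : H16.allL (ltAll 5) cue_W = true := by decide +kernel
theorem cu_f4 : (Nat.ble cutl4.K 10 && Nat.blt (nat_lit 0) 100 && fixLetters cuth_P cutl4.K (nat_lit 0) && Nat.beq (ltAll 7 [nat_lit 1]) 0 && Nat.beq (apW H15.IC.J2.p2t_P [nat_lit 1] (nat_lit 0)) (cutl4.Pt 0)) = true := by decide +kernel
theorem cu_f3 : (Nat.ble cutl3.K 10 && Nat.blt (nat_lit 0) 100 && fixLetters cuth_P cutl3.K (nat_lit 0) && Nat.beq (ltAll 7 [nat_lit 5]) 0 && Nat.beq (apW H15.IC.J2.p2t_P [nat_lit 5] (nat_lit 0)) (cutl3.Pt 0)) = true := by decide +kernel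
theorem cu_f2 : (Nat.ble cutl2.K 10 && Nat.blt (nat_lit 0) 100 && fixLetters cuth_P cutl2.K (nat_lit 0) && Nat.beq (ltAll 7 [nat_lit 3]) 0 && Nat.beq (apW H15.IC.J2.p2t_P [nat_lit 3] (nat_lit 0)) (cutl2.Pt 0)) = true := by decide +kernel
theorem cu_f1 : (Nat.ble cutl1.K 10 && Nat.blt (nat_lit 0) 100 && fixLetters cuth_P cutl1.K (nat_lit 0) && Nat.beq (ltAll 7 [nat_lit 6]) 0 && Nat.beq (apW H15.IC.J2.p2t_P [nat_lit 6] (nat_lit 0)) (cutl1.Pt 0)) = true := by decide +kernel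
theorem cuc0_e_0 : allZ (dent cuc0 cue_P (nat_lit 100)) (nat_lit 0) (nat_lit 1) = true := by decide +kernel
theorem cuc0_h : 0 < cuc0.n ∧ 0 < cuc0.K ∧ cuc0.Pt 0 < 100 ∧ cuc0.Q (cuc0.Pt 0) = 0 := by decide +kernel
theorem cutn0_0 : (Nat.ble cutl0.K 10 && Nat.beq (ltAll 100 []) 0 && kChk cue_P H15.IC.J2.p2t_P cutn0.Kn 7 H16.J2.B [] && H16.allL (ltAll 7) cutn0.pre && planOK cuth_P H15.IC.J2.p2t_P 7 (cutl0.Pt 0) cutn0.plan [cutl0, cutl1, cutl2, cutl3, cutl4]) = true := by decide +kernel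
theorem cutn0_1_0 : allZ (cutn0.ent H16.J2.P cuth_P H15.IC.J2.p2t_P H15.IC.J2.p2t_P cue_P (nat_lit 5) (nat_lit 7) H16.J2.B cutl0 [cutl1, cutl2, cutl3, cutl4] (memO cuc0)) (nat_lit 0) (nat_lit 100) = true := by decide +kernel
theorem cu_f0 : (Nat.ble cuc0.K 1 && Nat.ble (topK []) cuc0.K && Nat.beq (cuc0.Pt 0) (cutl0.Pt 0) && Nat.beq (ltAll 100 []) 0 && kChk cue_P H15.IC.J2.p2t_P cuc0.K 7 H16.J2.B []) = true := by decide +kernel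
theorem cu_c : chainCard [cuc0] = 2 ∧ topK [cuc0] = 1 := by decide +kernel
theorem v_lt : H16.allL (ltAll 5) v_W = true := by decide +kernel
theorem cvth_lt : H16.allL (ltAll 5) cvth_W = true := by decide +kernel
theorem cvtl0_e_0 : allZ (dent cvtl0 cvth_P (nat_lit 100)) (nat_lit 0) (nat_lit 99) = true := by decide +kernel
theorem cvtl0_h : 0 < cvtl0.n ∧ 0 < cvtl0.K ∧ cvtl0.Pt 0 < 100 ∧ cvtl0.Q (cvtl0.Pt 0) = 0 := by decide +kernel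
theorem cvtl1_e_0 : allZ (dent cvtl1 cvth_P (nat_lit 100)) (nat_lit 0) (nat_lit 62) = true := by decide +kernel
theorem cvtl1_h : 0 < cvtl1.n ∧ 0 < cvtl1.K ∧ cvtl1.Pt 0 < 100 ∧ cvtl1.Q (cvtl1.Pt 0) = 0 := by decide +kernel
theorem cvtl2_e_0 : allZ (dent cvtl2 cvth_P (nat_lit 100)) (nat_lit 0) (nat_lit 23) = true := by decide +kernel
theorem cvtl2_h : 0 < cvtl2.n ∧ 0 < cvtl2.K ∧ cvtl2.Pt 0 < 100 ∧ cvtl2.Q (cvtl2.Pt 0) = 0 := by decide +kernel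
theorem cvtl3_e_0 : allZ (dent cvtl3 cvth_P (nat_lit 100)) (nat_lit 0) (nat_lit 3) = true := by decide +kernel
theorem cvtl3_h : 0 < cvtl3.n ∧ 0 < cvtl3.K ∧ cvtl3.Pt 0 < 100 ∧ cvtl3.Q (cvtl3.Pt 0) = 0 := by decide +kernel
theorem cvt_f3 : (Nat.ble cvtl3.K 10 && Nat.ble (topK []) cvtl3.K && fixLetters cvth_P (topK []) (cvtl3.Pt 0)) = true := by decide +kernel
theorem cvt_f2 : (Nat.ble cvtl2.K 10 && Nat.ble (topK [cvtl3]) cvtl2.K && fixLetters cvth_P (topK [cvtl3]) (cvtl2.Pt 0)) = true := by decide +kernel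
theorem cvt_f1 : (Nat.ble cvtl1.K 10 && Nat.ble (topK [cvtl2, cvtl3]) cvtl1.K && fixLetters cvth_P (topK [cvtl2, cvtl3]) (cvtl1.Pt 0)) = true := by decide +kernel
theorem cvt_f0 : (Nat.ble cvtl0.K 10 && Nat.ble (topK [cvtl1, cvtl2, cvtl3]) cvtl0.K && fixLetters cvth_P (topK [cvtl1, cvtl2, cvtl3]) (cvtl0.Pt 0)) = true := by decide +kernel
theorem cvt_c : chainCard [cvtl0, cvtl1, cvtl2, cvtl3] = 604800 := by decide +kernel
theorem cve_lt : H16.allL (ltAll 5) cve_W = true := by decide +kernel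
theorem cv_f3 : (Nat.ble cvtl3.K 10 && Nat.blt (nat_lit 0) 100 && fixLetters cvth_P cvtl3.K (nat_lit 0) && Nat.beq (ltAll 4 [nat_lit 3]) 0 && Nat.beq (apW v_P [nat_lit 3] (nat_lit 0)) (cvtl3.Pt 0)) = true := by decide +kernel
theorem cv_f2 : (Nat.ble cvtl2.K 10 && Nat.blt (nat_lit 0) 100 && fixLetters cvth_P cvtl2.K (nat_lit 0) && Nat.beq (ltAll 4 [nat_lit 2]) 0 && Nat.beq (apW v_P [nat_lit 2] (nat_lit 0)) (cvtl2.Pt 0)) = true := by decide +kernel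
theorem cv_f1 : (Nat.ble cvtl1.K 10 && Nat.blt (nat_lit 0) 100 && fixLetters cvth_P cvtl1.K (nat_lit 0) && Nat.beq (ltAll 4 [nat_lit 1]) 0 && Nat.beq (apW v_P [nat_lit 1] (nat_lit 0)) (cvtl1.Pt 0)) = true := by decide +kernel
theorem cvc0_e_0 : allZ (dent cvc0 cve_P (nat_lit 100)) (nat_lit 0) (nat_lit 1) = true := by decide +kernel
theorem cvc0_h : 0 < cvc0.n ∧ 0 < cvc0.K ∧ cvc0.Pt 0 < 100 ∧ cvc0.Q (cvc0.Pt 0) = 0 := by decide +kernel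
theorem cvtn0_0 : (Nat.ble cvtl0.K 10 && Nat.beq (ltAll 100 []) 0 && kChk cve_P v_P cvtn0.Kn 4 H16.J2.B [] && H16.allL (ltAll 4) cvtn0.pre && planOK cvth_P v_P 4 (cvtl0.Pt 0) cvtn0.plan [cvtl0, cvtl1, cvtl2, cvtl3]) = true := by decide +kernel
theorem cvtn0_1_0 : allZ (cvtn0.ent H16.J2.P cvth_P v_P v_P cve_P (nat_lit 5) (nat_lit 4) H16.J2.B cvtl0 [cvtl1, cvtl2, cvtl3] (memO cvc0)) (nat_lit 0) (nat_lit 100) = true := by decide +kernel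
theorem cv_f0 : (Nat.ble cvc0.K 1 && Nat.ble (topK []) cvc0.K && Nat.beq (cvc0.Pt 0) (cvtl0.Pt 0) && Nat.beq (ltAll 100 []) 0 && kChk cve_P v_P cvc0.K 4 H16.J2.B []) = true := by decide +kernel
theorem cv_c : chainCard [cvc0] = 2 ∧ topK [cvc0] = 1 := by decide +kernel
theorem nv_k_a : allZ2 (nrmEnt v_P H15.IC.J2.c0ace_P (nat_lit 4) H16.J2.B nvW) (nat_lit 6) (nat_lit 4) = true := by decide +kernel
theorem vz_k_0 : allZ (cmEnt v_P H15.IC.J2.c0ax_P (nat_lit 4) H16.J2.B (nat_lit 0)) (nat_lit 0) (nat_lit 4) = true := by decide +kernel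
theorem vU_k : allZ (fun a => Nat.add (ltAll 7 (nth [] [[nat_lit 1, nat_lit 4],
  [nat_lit 1, nat_lit 3],
  [nat_lit 1],
  [nat_lit 1, nat_lit 2, nat_lit 3, nat_lit 4]] a)) (sumL (fun β => Nat.xor (v_P a β) (apW H15.IC.J2.p2t_P (nth [] [[nat_lit 1, nat_lit 4],
  [nat_lit 1, nat_lit 3],
  [nat_lit 1],
  [nat_lit 1, nat_lit 2, nat_lit 3, nat_lit 4]] a) β)) H16.J2.B)) 0 4 = true := by decide +kernel
theorem dk : ∀ b < 7, ∀ a < 7, 4 ≤ b → b < a → ltAll 4 (nth [] (nth [] H15.IC.J2.p2C b) a) = 0 := by decide +kernel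
theorem d_lt : H16.allL (ltAll 5) d_W = true := by decide +kernel
theorem dr0_k : eqL H15.IC.J2.p2t_P 7 H16.J2.B [nat_lit 4, nat_lit 6] [nat_lit 6, nat_lit 4, nat_lit 1, nat_lit 3] = 0 := by decide +kernel
theorem de0_k : Nat.add (ltAll 7 [nat_lit 1, nat_lit 3]) (sumL (fun β => Nat.xor (d_P 0 β) (apW H15.IC.J2.p2t_P [nat_lit 1, nat_lit 3] β)) H16.J2.B) = 0 := by decide +kernel
theorem dr1_k : eqL H15.IC.J2.p2t_P 7 H16.J2.B [nat_lit 2, nat_lit 6] [nat_lit 6, nat_lit 2, nat_lit 1] = 0 := by decide +kernel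
theorem de1_k : Nat.add (ltAll 7 [nat_lit 1]) (sumL (fun β => Nat.xor (d_P 1 β) (apW H15.IC.J2.p2t_P [nat_lit 1] β)) H16.J2.B) = 0 := by decide +kernel
theorem dr2_k : eqL H15.IC.J2.p2t_P 7 H16.J2.B [nat_lit 4, nat_lit 5] [nat_lit 5, nat_lit 4, nat_lit 0, nat_lit 2] = 0 := by decide +kernel
theorem de2_k : Nat.add (ltAll 7 [nat_lit 0, nat_lit 2]) (sumL (fun β => Nat.xor (d_P 2 β) (apW H15.IC.J2.p2t_P [nat_lit 0, nat_lit 2] β)) H16.J2.B) = 0 := by decide +kernel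
theorem cdth_lt : H16.allL (ltAll 5) cdth_W = true := by decide +kernel
theorem cdtl0_e_0 : allZ (dent cdtl0 cdth_P (nat_lit 100)) (nat_lit 0) (nat_lit 99) = true := by decide +kernel
theorem cdtl0_h : 0 < cdtl0.n ∧ 0 < cdtl0.K ∧ cdtl0.Pt 0 < 100 ∧ cdtl0.Q (cdtl0.Pt 0) = 0 := by decide +kernel
theorem cdtl1_e_0 : allZ (dent cdtl1 cdth_P (nat_lit 100)) (nat_lit 0) (nat_lit 35) = true := by decide +kernel
theorem cdtl1_h : 0 < cdtl1.n ∧ 0 < cdtl1.K ∧ cdtl1.Pt 0 < 100 ∧ cdtl1.Q (cdtl1.Pt 0) = 0 := by decide +kernel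
theorem cdtl2_e_0 : allZ (dent cdtl2 cdth_P (nat_lit 100)) (nat_lit 0) (nat_lit 6) = true := by decide +kernel
theorem cdtl2_h : 0 < cdtl2.n ∧ 0 < cdtl2.K ∧ cdtl2.Pt 0 < 100 ∧ cdtl2.Q (cdtl2.Pt 0) = 0 := by decide +kernel
theorem cdtl3_e_0 : allZ (dent cdtl3 cdth_P (nat_lit 100)) (nat_lit 0) (nat_lit 3) = true := by decide +kernel
theorem cdtl3_h : 0 < cdtl3.n ∧ 0 < cdtl3.K ∧ cdtl3.Pt 0 < 100 ∧ cdtl3.Q (cdtl3.Pt 0) = 0 := by decide +kernel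
theorem cdtl4_e_0 : allZ (dent cdtl4 cdth_P (nat_lit 100)) (nat_lit 0) (nat_lit 2) = true := by decide +kernel
theorem cdtl4_h : 0 < cdtl4.n ∧ 0 < cdtl4.K ∧ cdtl4.Pt 0 < 100 ∧ cdtl4.Q (cdtl4.Pt 0) = 0 := by decide +kernel
theorem cdtl5_e_0 : allZ (dent cdtl5 cdth_P (nat_lit 100)) (nat_lit 0) (nat_lit 1) = true := by decide +kernel
theorem cdtl5_h : 0 < cdtl5.n ∧ 0 < cdtl5.K ∧ cdtl5.Pt 0 < 100 ∧ cdtl5.Q (cdtl5.Pt 0) = 0 := by decide +kernel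
theorem cdt_f5 : (Nat.ble cdtl5.K 10 && Nat.ble (topK []) cdtl5.K && fixLetters cdth_P (topK []) (cdtl5.Pt 0)) = true := by decide +kernel
theorem cdt_f4 : (Nat.ble cdtl4.K 10 && Nat.ble (topK [cdtl5]) cdtl4.K && fixLetters cdth_P (topK [cdtl5]) (cdtl4.Pt 0)) = true := by decide +kernel
theorem cdt_f3 : (Nat.ble cdtl3.K 10 && Nat.ble (topK [cdtl4, cdtl5]) cdtl3.K && fixLetters cdth_P (topK [cdtl4, cdtl5]) (cdtl3.Pt 0)) = true := by decide +kernel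
theorem cdt_f2 : (Nat.ble cdtl2.K 10 && Nat.ble (topK [cdtl3, cdtl4, cdtl5]) cdtl2.K && fixLetters cdth_P (topK [cdtl3, cdtl4, cdtl5]) (cdtl2.Pt 0)) = true := by decide +kernel
theorem cdt_f1 : (Nat.ble cdtl1.K 10 && Nat.ble (topK [cdtl2, cdtl3, cdtl4, cdtl5]) cdtl1.K && fixLetters cdth_P (topK [cdtl2, cdtl3, cdtl4, cdtl5]) (cdtl1.Pt 0)) = true := by decide +kernel
theorem cdt_f0 : (Nat.ble cdtl0.K 10 && Nat.ble (topK [cdtl1, cdtl2, cdtl3, cdtl4, cdtl5]) cdtl0.K && fixLetters cdth_P (topK [cdtl1, cdtl2, cdtl3, cdtl4, cdtl5]) (cdtl0.Pt 0)) = true := by decide +kernel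
theorem cdt_c : chainCard [cdtl0, cdtl1, cdtl2, cdtl3, cdtl4, cdtl5] = 604800 := by decide +kernel
theorem cde_lt : H16.allL (ltAll 5) cde_W = true := by decide +kernel
theorem cdc5_e_0 : allZ (dent cdc5 cde_P (nat_lit 100)) (nat_lit 0) (nat_lit 1) = true := by decide +kernel
theorem cdc5_h : 0 < cdc5.n ∧ 0 < cdc5.K ∧ cdc5.Pt 0 < 100 ∧ cdc5.Q (cdc5.Pt 0) = 0 := by decide +kernel
theorem cdtn0_0 : (Nat.ble cdtl5.K 10 && Nat.beq (ltAll 100 [cdtl4.Pt 0, cdtl3.Pt 0, cdtl2.Pt 0, cdtl1.Pt 0, cdtl0.Pt 0]) 0 && kChk cde_P d_P cdtn0.Kn 3 H16.J2.B [cdtl4.Pt 0, cdtl3.Pt 0, cdtl2.Pt 0, cdtl1.Pt 0, cdtl0.Pt 0] && H16.allL (ltAll 3) cdtn0.pre && planOK cdth_P d_P 3 (cdtl5.Pt 0) cdtn0.plan [cdtl5]) = true := by decide +kernel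
theorem cdtn0_1_0 : allZ (cdtn0.ent H16.J2.P cdth_P d_P d_P cde_P (nat_lit 5) (nat_lit 3) H16.J2.B cdtl5 [] (memO cdc5)) (nat_lit 0) (nat_lit 2) = true := by decide +kernel
theorem cd_f5 : (Nat.ble cdc5.K 2 && Nat.ble (topK []) cdc5.K && Nat.beq (cdc5.Pt 0) (cdtl5.Pt 0) && Nat.beq (ltAll 100 [cdtl4.Pt 0, cdtl3.Pt 0, cdtl2.Pt 0, cdtl1.Pt 0, cdtl0.Pt 0]) 0 && kChk cde_P d_P cdc5.K 3 H16.J2.B [cdtl4.Pt 0, cdtl3.Pt 0, cdtl2.Pt 0, cdtl1.Pt 0, cdtl0.Pt 0]) = true := by decide +kernel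
theorem cd_f4 : (Nat.ble cdtl4.K 10 && Nat.blt (nat_lit 5) 100 && fixLetters cdth_P cdtl4.K (nat_lit 5) && Nat.beq (ltAll 3 [nat_lit 0, nat_lit 0]) 0 && Nat.beq (apW d_P [nat_lit 0, nat_lit 0] (nat_lit 5)) (cdtl4.Pt 0)) = true := by decide +kernel
theorem cd_f3 : (Nat.ble cdtl3.K 10 && Nat.blt (nat_lit 5) 100 && fixLetters cdth_P cdtl3.K (nat_lit 5) && Nat.beq (ltAll 3 [nat_lit 2, nat_lit 0]) 0 && Nat.beq (apW d_P [nat_lit 2, nat_lit 0] (nat_lit 5)) (cdtl3.Pt 0)) = true := by decide +kernel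
theorem cd_f2 : (Nat.ble cdtl2.K 10 && Nat.blt (nat_lit 5) 100 && fixLetters cdth_P cdtl2.K (nat_lit 5) && Nat.beq (ltAll 3 [nat_lit 2]) 0 && Nat.beq (apW d_P [nat_lit 2] (nat_lit 5)) (cdtl2.Pt 0)) = true := by decide +kernel
theorem cd_f1 : (Nat.ble cdtl1.K 10 && Nat.blt (nat_lit 5) 100 && fixLetters cdth_P cdtl1.K (nat_lit 5) && Nat.beq (ltAll 3 [nat_lit 0]) 0 && Nat.beq (apW d_P [nat_lit 0] (nat_lit 5)) (cdtl1.Pt 0)) = true := by decide +kernel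
theorem cdc0_e_0 : allZ (dent cdc0 cde_P (nat_lit 100)) (nat_lit 0) (nat_lit 1) = true := by decide +kernel
theorem cdc0_h : 0 < cdc0.n ∧ 0 < cdc0.K ∧ cdc0.Pt 0 < 100 ∧ cdc0.Q (cdc0.Pt 0) = 0 := by decide +kernel
theorem cdtn1y17_lt : H16.allL (ltAll 5) cdtn1y17_W = true := by decide +kernel
theorem cdtr2k_lt : H16.allL (ltAll 5) cdtr2k_W = true := by decide +kernel
theorem cdtn2_0 : (Nat.ble cdtl5.K 10 && Nat.beq (ltAll 100 [cdtl4.Pt 0, cdtl3.Pt 0, cdtl2.Pt 0, cdtl1.Pt 0, cdtl0.Pt 0]) 0 && kChk cdtr2k_P cdtn1y17_P cdtn2.Kn 3 H16.J2.B [cdtl4.Pt 0, cdtl3.Pt 0, cdtl2.Pt 0, cdtl1.Pt 0, cdtl0.Pt 0] && H16.allL (ltAll 3) cdtn2.pre && planOK cdth_P d_P 3 (cdtl5.Pt 0) cdtn2.plan [cdtl5]) = true := by decide +kernel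
theorem cdtn2_1_0 : allZ (cdtn2.ent H16.J2.P cdth_P d_P cdtn1y17_P cdtr2k_P (nat_lit 5) (nat_lit 3) H16.J2.B cdtl5 [] (fun _ => nat_lit 1)) (nat_lit 0) (nat_lit 2) = true := by decide +kernel
theorem cdtn1y86_lt : H16.allL (ltAll 5) cdtn1y86_W = true := by decide +kernel
theorem cdtr3k_lt : H16.allL (ltAll 5) cdtr3k_W = true := by decide +kernel
theorem cdtn3_0 : (Nat.ble cdtl5.K 10 && Nat.beq (ltAll 100 [cdtl4.Pt 0, cdtl3.Pt 0, cdtl2.Pt 0, cdtl1.Pt 0, cdtl0.Pt 0]) 0 && kChk cdtr3k_P cdtn1y86_P cdtn3.Kn 3 H16.J2.B [cdtl4.Pt 0, cdtl3.Pt 0, cdtl2.Pt 0, cdtl1.Pt 0, cdtl0.Pt 0] && H16.allL (ltAll 3) cdtn3.pre && planOK cdth_P d_P 3 (cdtl5.Pt 0) cdtn3.plan [cdtl5]) = true := by decide +kernel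
theorem cdtn3_1_0 : allZ (cdtn3.ent H16.J2.P cdth_P d_P cdtn1y86_P cdtr3k_P (nat_lit 5) (nat_lit 3) H16.J2.B cdtl5 [] (fun _ => nat_lit 1)) (nat_lit 0) (nat_lit 2) = true := by decide +kernel
theorem cdtn1y60_lt : H16.allL (ltAll 5) cdtn1y60_W = true := by decide +kernel
theorem cdtr4k_lt : H16.allL (ltAll 5) cdtr4k_W = true := by decide +kernel
theorem cdtn4_0 : (Nat.ble cdtl5.K 10 && Nat.beq (ltAll 100 [cdtl4.Pt 0, cdtl3.Pt 0, cdtl2.Pt 0, cdtl1.Pt 0, cdtl0.Pt 0]) 0 && kChk cdtr4k_P cdtn1y60_P cdtn4.Kn 3 H16.J2.B [cdtl4.Pt 0, cdtl3.Pt 0, cdtl2.Pt 0, cdtl1.Pt 0, cdtl0.Pt 0] && H16.allL (ltAll 3) cdtn4.pre && planOK cdth_P d_P 3 (cdtl5.Pt 0) cdtn4.plan [cdtl5]) = true := by decide +kernel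
theorem cdtn4_1_0 : allZ (cdtn4.ent H16.J2.P cdth_P d_P cdtn1y60_P cdtr4k_P (nat_lit 5) (nat_lit 3) H16.J2.B cdtl5 [] (fun _ => nat_lit 1)) (nat_lit 0) (nat_lit 2) = true := by decide +kernel
theorem cdtn1_0 : (Nat.ble cdtl0.K 10 && Nat.beq (ltAll 100 []) 0 && kChk cde_P d_P cdtn1.Kn 3 H16.J2.B [] && H16.allL (ltAll 3) cdtn1.pre && planOK cdth_P d_P 3 (cdtl0.Pt 0) cdtn1.plan [cdtl0, cdtl1, cdtl2, cdtl3, cdtl4, cdtl5]) = true := by decide +kernel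
theorem cdtn1_1_0 : allZ (cdtn1.ent H16.J2.P cdth_P d_P d_P cde_P (nat_lit 5) (nat_lit 3) H16.J2.B cdtl0 [cdtl1, cdtl2, cdtl3, cdtl4, cdtl5] (memO cdc0)) (nat_lit 0) (nat_lit 100) = true := by decide +kernel
theorem cd_f0 : (Nat.ble cdc0.K 2 && Nat.ble (topK [cdc5]) cdc0.K && Nat.beq (cdc0.Pt 0) (cdtl0.Pt 0) && Nat.beq (ltAll 100 []) 0 && kChk cde_P d_P cdc0.K 3 H16.J2.B []) = true := by decide +kernel
theorem cd_c : chainCard [cdc0, cdc5] = 4 ∧ topK [cdc0, cdc5] = 2 := by decide +kernel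
theorem wd0_k_0 : allZ (cmEnt H15.IC.J2.p2t_P cde_P (nat_lit 4) H16.J2.B (nat_lit 0)) (nat_lit 0) (nat_lit 4) = true := by decide +kernel
theorem wd1_k_0 : allZ (cmEnt H15.IC.J2.p2t_P cde_P (nat_lit 4) H16.J2.B (nat_lit 1)) (nat_lit 0) (nat_lit 4) = true := by decide +kernel
theorem wU_k : allZ (fun a => Nat.add (ltAll 7 (nth [] [[nat_lit 1],
  [nat_lit 0, nat_lit 1]] a)) (sumL (fun β => Nat.xor (cde_P a β) (apW H15.IC.J2.p2t_P (nth [] [[nat_lit 1],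
  [nat_lit 0, nat_lit 1]] a) β)) H16.J2.B)) 0 2 = true := by decide +kernel
theorem zW_k : Nat.add (ltAll 2 [nat_lit 0, nat_lit 1]) (sumL (fun β => Nat.xor (H15.IC.J2.c0ax_P 0 β) (apW cde_P [nat_lit 0, nat_lit 1] β)) H16.J2.B) = 0 := by decide +kernel
theorem f_lt : H16.allL (ltAll 5) f_W = true := by decide +kernel
theorem f1_k : allZ (fun j => cjL cde_P f_P 2 H16.J2.B 1 [j] (nth [] [[nat_lit 0, nat_lit 1],
  [nat_lit 0]] j)) 0 2 = true := by decide +kernel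
theorem f2_k : eqL f_P 4 H16.J2.B [nat_lit 0, nat_lit 2] [nat_lit 2, nat_lit 0] = 0 := by decide +kernel
theorem f3_k : eqL f_P 4 H16.J2.B [nat_lit 0, nat_lit 1, nat_lit 2, nat_lit 1] [nat_lit 1, nat_lit 2, nat_lit 1, nat_lit 3] = 0 := by decide +kernel
theorem f4_k : 0 < 100 ∧ ltAll 4 [nat_lit 3, nat_lit 0] = 0 ∧ ltAll 4 [nat_lit 0, nat_lit 3] = 0 ∧ apW f_P [nat_lit 3, nat_lit 0] 0 ≠ apW f_P [nat_lit 0, nat_lit 3] 0 := by decide +kernel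

theorem cz {G Ω : Type*} [Group G] [MulAction G Ω] {g : ℕ → G} {pt : ℕ → Ω}
    (M : Md g pt H16.J2.P 100 5 H16.J2.B 604800) : Subgroup.centralizer {(wds g H15.IC.J2.c0ax_W) 0} = (gen (wds g H15.IC.J2.c0ace_W) 6) :=
  H15.IC.J2.c0ac_c.2 ▸ (H15.IC.J2.c0ac M).cent1
theorem zU {G Ω : Type*} [Group G] [MulAction G Ω] {g : ℕ → G} {pt : ℕ → Ω}
    (M : Md g pt H16.J2.P 100 5 H16.J2.B 604800) : (wds g H15.IC.J2.c0ax_W) 0 = evA (wds g H15.IC.J2.p2t_W) [0] ∧ (wds g H15.IC.J2.c0ax_W) 0 ∈ gen (wds g H15.IC.J2.p2t_W) 7 :=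
  M.eqw (H15.IC.J2.p2t_act M) (H15.IC.J2.c0ax_act M) (by decide) zU_k
theorem Uz_k : ∀ i < 7, (cmEnt H15.IC.J2.p2t_P H15.IC.J2.c0ax_P (nat_lit 7) H16.J2.B (nat_lit 0)) i = 0 := allZ_sound0 Uz_k_0
theorem Uz {G Ω : Type*} [Group G] [MulAction G Ω] {g : ℕ → G} {pt : ℕ → Ω}
    (M : Md g pt H16.J2.P 100 5 H16.J2.B 604800) : (wds g H15.IC.J2.c0ax_W) 0 ∈ Subgroup.centralizer ((gen (wds g H15.IC.J2.p2t_W) 7) : Set G) :=
  cms M (H15.IC.J2.p2t_act M) (H15.IC.J2.c0ax_act M) (by decide) Uz_k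
theorem z1 {G Ω : Type*} [Group G] [MulAction G Ω] {g : ℕ → G} {pt : ℕ → Ω}
    (M : Md g pt H16.J2.P 100 5 H16.J2.B 604800) : (wds g H15.IC.J2.c0ax_W) 0 ^ 1 ≠ 1 :=
  M.npw (H15.IC.J2.c0ax_act M) _ z1_k
theorem cuth_act {G Ω : Type*} [Group G] [MulAction G Ω] {g : ℕ → G} {pt : ℕ → Ω}
    (M : Md g pt H16.J2.P 100 5 H16.J2.B 604800) : Act (wds g cuth_W) pt cuth_P 100 10 :=
  M.wact cuth_lt
theorem cutl0_e : ∀ i < 99, (dent cutl0 cuth_P (nat_lit 100)) i = 0 := allZ_sound0 cutl0_e_0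
theorem cutl0_ok : DOK cutl0 cuth_P 100 := ⟨cutl0_h, cutl0_e⟩
theorem cutl1_e : ∀ i < 35, (dent cutl1 cuth_P (nat_lit 100)) i = 0 := allZ_sound0 cutl1_e_0
theorem cutl1_ok : DOK cutl1 cuth_P 100 := ⟨cutl1_h, cutl1_e⟩
theorem cutl2_e : ∀ i < 6, (dent cutl2 cuth_P (nat_lit 100)) i = 0 := allZ_sound0 cutl2_e_0
theorem cutl2_ok : DOK cutl2 cuth_P 100 := ⟨cutl2_h, cutl2_e⟩
theorem cutl3_e : ∀ i < 2, (dent cutl3 cuth_P (nat_lit 100)) i = 0 := allZ_sound0 cutl3_e_0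
theorem cutl3_ok : DOK cutl3 cuth_P 100 := ⟨cutl3_h, cutl3_e⟩
theorem cutl4_e : ∀ i < 7, (dent cutl4 cuth_P (nat_lit 100)) i = 0 := allZ_sound0 cutl4_e_0
theorem cutl4_ok : DOK cutl4 cuth_P 100 := ⟨cutl4_h, cutl4_e⟩
theorem cut_low {G Ω : Type*} [Group G] [MulAction G Ω] {g : ℕ → G} {pt : ℕ → Ω}
    (M : Md g pt H16.J2.P 100 5 H16.J2.B 604800) : SLow (gi (wds g cuth_W)) pt 100 [cutl0, cutl1, cutl2, cutl3, cutl4] :=
  (((((SLow.nil).cons cutl4_ok (cuth_act M) cut_f4).cons cutl3_ok (cuth_act M) cut_f3).cons cutl2_ok (cuth_act M) cut_f2).cons cutl1_ok (cuth_act M) cut_f1).cons cutl0_ok (cuth_act M) cut_f0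
theorem cut_S0 {G Ω : Type*} [Group G] [MulAction G Ω] {g : ℕ → G} {pt : ℕ → Ω}
    (M : Md g pt H16.J2.P 100 5 H16.J2.B 604800) : Stage ⊤ (wds g cuth_W) pt 100 [cutl0, cutl1, cutl2, cutl3, cutl4] [] :=
  M.stage (cut_low M) cut_c
theorem cut_S1 {G Ω : Type*} [Group G] [MulAction G Ω] {g : ℕ → G} {pt : ℕ → Ω}
    (M : Md g pt H16.J2.P 100 5 H16.J2.B 604800) : Stage ⊤ (wds g cuth_W) pt 100 [cutl1, cutl2, cutl3, cutl4] [cutl0.Pt 0] :=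
  (cut_S0 M).next
theorem cut_S2 {G Ω : Type*} [Group G] [MulAction G Ω] {g : ℕ → G} {pt : ℕ → Ω}
    (M : Md g pt H16.J2.P 100 5 H16.J2.B 604800) : Stage ⊤ (wds g cuth_W) pt 100 [cutl2, cutl3, cutl4] [cutl1.Pt 0, cutl0.Pt 0] :=
  (cut_S1 M).next
theorem cut_S3 {G Ω : Type*} [Group G] [MulAction G Ω] {g : ℕ → G} {pt : ℕ → Ω}
    (M : Md g pt H16.J2.P 100 5 H16.J2.B 604800) : Stage ⊤ (wds g cuth_W) pt 100 [cutl3, cutl4] [cutl2.Pt 0, cutl1.Pt 0, cutl0.Pt 0] :=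
  (cut_S2 M).next
theorem cut_S4 {G Ω : Type*} [Group G] [MulAction G Ω] {g : ℕ → G} {pt : ℕ → Ω}
    (M : Md g pt H16.J2.P 100 5 H16.J2.B 604800) : Stage ⊤ (wds g cuth_W) pt 100 [cutl4] [cutl3.Pt 0, cutl2.Pt 0, cutl1.Pt 0, cutl0.Pt 0] :=
  (cut_S3 M).next
theorem cut_S5 {G Ω : Type*} [Group G] [MulAction G Ω] {g : ℕ → G} {pt : ℕ → Ω}
    (M : Md g pt H16.J2.P 100 5 H16.J2.B 604800) : Stage ⊤ (wds g cuth_W) pt 100 [] [cutl4.Pt 0, cutl3.Pt 0, cutl2.Pt 0, cutl1.Pt 0, cutl0.Pt 0] :=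
  (cut_S4 M).next
theorem cue_act {G Ω : Type*} [Group G] [MulAction G Ω] {g : ℕ → G} {pt : ℕ → Ω}
    (M : Md g pt H16.J2.P 100 5 H16.J2.B 604800) : Act (wds g cue_W) pt cue_P 100 1 :=
  M.wact cue_lt
theorem cuc0_e : ∀ i < 1, (dent cuc0 cue_P (nat_lit 100)) i = 0 := allZ_sound0 cuc0_e_0
theorem cuc0_ok : DOK cuc0 cue_P 100 := ⟨cuc0_h, cuc0_e⟩
theorem cutn0_1 : ∀ i < 100, (cutn0.ent H16.J2.P cuth_P H15.IC.J2.p2t_P H15.IC.J2.p2t_P cue_P (nat_lit 5) (nat_lit 7) H16.J2.B cutl0 [cutl1, cutl2, cutl3, cutl4] (memO cuc0)) i = 0 := allZ_sound0 cutn0_1_0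
theorem cutn0_t {G Ω : Type*} [Group G] [MulAction G Ω] {g : ℕ → G} {pt : ℕ → Ω}
    (M : Md g pt H16.J2.P 100 5 H16.J2.B 604800) : TrO (gen (wds g cuth_W) cutl0.K) (wds g H15.IC.J2.p2t_W) (wds g H15.IC.J2.p2t_W) 7 pt 100 (cutl0.Pt 0) (memO cuc0) :=
  node M (cut_S0 M) (cuth_act M) (H15.IC.J2.p2t_act M) (H15.IC.J2.p2t_act M) cutn0 ((cue_act M).mono (by decide)) (fun _ _ => trivial) cutn0_0 cutn0_1 (List.forall_mem_nil _)
theorem cu {G Ω : Type*} [Group G] [MulAction G Ω] {g : ℕ → G} {pt : ℕ → Ω}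
    (M : Md g pt H16.J2.P 100 5 H16.J2.B 604800) : Cen ⊤ (wds g H15.IC.J2.p2t_W) 7 (wds g cue_W) pt 100 [cuc0] :=
  (cut_S0 M).top ▸ Cen.lev M (cut_S0 M) (Cen.triv (cut_S1 M) (Cen.triv (cut_S2 M) (Cen.triv (cut_S3 M) (Cen.triv (cut_S4 M) (Cen.bot) (forced (cut_S4 M) (cuth_act M) (H15.IC.J2.p2t_act M) _ _ cu_f4)) (forced (cut_S3 M) (cuth_act M) (H15.IC.J2.p2t_act M) _ _ cu_f3)) (forced (cut_S2 M) (cuth_act M) (H15.IC.J2.p2t_act M) _ _ cu_f2)) (forced (cut_S1 M) (cuth_act M) (H15.IC.J2.p2t_act M) _ _ cu_f1)) (cutn0_t M) (H15.IC.J2.p2t_act M) (cue_act M) (fun _ _ => trivial) cuc0_ok cu_f0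
theorem cu_eq {G Ω : Type*} [Group G] [MulAction G Ω] {g : ℕ → G} {pt : ℕ → Ω}
    (M : Md g pt H16.J2.P 100 5 H16.J2.B 604800) : Subgroup.centralizer (gen (wds g H15.IC.J2.p2t_W) 7) = gen (wds g cue_W) 1 ∧ Nat.card (gen (wds g cue_W) 1) = 2 :=
  cu_c.1 ▸ cu_c.2 ▸ ⟨(cu M).cent, (cu M).card M.inj⟩
theorem v_act {G Ω : Type*} [Group G] [MulAction G Ω] {g : ℕ → G} {pt : ℕ → Ω}
    (M : Md g pt H16.J2.P 100 5 H16.J2.B 604800) : Act (wds g v_W) pt v_P 100 4 :=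
  M.wact v_lt
theorem cvth_act {G Ω : Type*} [Group G] [MulAction G Ω] {g : ℕ → G} {pt : ℕ → Ω}
    (M : Md g pt H16.J2.P 100 5 H16.J2.B 604800) : Act (wds g cvth_W) pt cvth_P 100 10 :=
  M.wact cvth_lt
theorem cvtl0_e : ∀ i < 99, (dent cvtl0 cvth_P (nat_lit 100)) i = 0 := allZ_sound0 cvtl0_e_0
theorem cvtl0_ok : DOK cvtl0 cvth_P 100 := ⟨cvtl0_h, cvtl0_e⟩
theorem cvtl1_e : ∀ i < 62, (dent cvtl1 cvth_P (nat_lit 100)) i = 0 := allZ_sound0 cvtl1_e_0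
theorem cvtl1_ok : DOK cvtl1 cvth_P 100 := ⟨cvtl1_h, cvtl1_e⟩
theorem cvtl2_e : ∀ i < 23, (dent cvtl2 cvth_P (nat_lit 100)) i = 0 := allZ_sound0 cvtl2_e_0
theorem cvtl2_ok : DOK cvtl2 cvth_P 100 := ⟨cvtl2_h, cvtl2_e⟩
theorem cvtl3_e : ∀ i < 3, (dent cvtl3 cvth_P (nat_lit 100)) i = 0 := allZ_sound0 cvtl3_e_0
theorem cvtl3_ok : DOK cvtl3 cvth_P 100 := ⟨cvtl3_h, cvtl3_e⟩
theorem cvt_low {G Ω : Type*} [Group G] [MulAction G Ω] {g : ℕ → G} {pt : ℕ → Ω}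
    (M : Md g pt H16.J2.P 100 5 H16.J2.B 604800) : SLow (gi (wds g cvth_W)) pt 100 [cvtl0, cvtl1, cvtl2, cvtl3] :=
  ((((SLow.nil).cons cvtl3_ok (cvth_act M) cvt_f3).cons cvtl2_ok (cvth_act M) cvt_f2).cons cvtl1_ok (cvth_act M) cvt_f1).cons cvtl0_ok (cvth_act M) cvt_f0
theorem cvt_S0 {G Ω : Type*} [Group G] [MulAction G Ω] {g : ℕ → G} {pt : ℕ → Ω}
    (M : Md g pt H16.J2.P 100 5 H16.J2.B 604800) : Stage ⊤ (wds g cvth_W) pt 100 [cvtl0, cvtl1, cvtl2, cvtl3] [] :=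
  M.stage (cvt_low M) cvt_c
theorem cvt_S1 {G Ω : Type*} [Group G] [MulAction G Ω] {g : ℕ → G} {pt : ℕ → Ω}
    (M : Md g pt H16.J2.P 100 5 H16.J2.B 604800) : Stage ⊤ (wds g cvth_W) pt 100 [cvtl1, cvtl2, cvtl3] [cvtl0.Pt 0] :=
  (cvt_S0 M).next
theorem cvt_S2 {G Ω : Type*} [Group G] [MulAction G Ω] {g : ℕ → G} {pt : ℕ → Ω}
    (M : Md g pt H16.J2.P 100 5 H16.J2.B 604800) : Stage ⊤ (wds g cvth_W) pt 100 [cvtl2, cvtl3] [cvtl1.Pt 0, cvtl0.Pt 0] :=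
  (cvt_S1 M).next
theorem cvt_S3 {G Ω : Type*} [Group G] [MulAction G Ω] {g : ℕ → G} {pt : ℕ → Ω}
    (M : Md g pt H16.J2.P 100 5 H16.J2.B 604800) : Stage ⊤ (wds g cvth_W) pt 100 [cvtl3] [cvtl2.Pt 0, cvtl1.Pt 0, cvtl0.Pt 0] :=
  (cvt_S2 M).next
theorem cvt_S4 {G Ω : Type*} [Group G] [MulAction G Ω] {g : ℕ → G} {pt : ℕ → Ω}
    (M : Md g pt H16.J2.P 100 5 H16.J2.B 604800) : Stage ⊤ (wds g cvth_W) pt 100 [] [cvtl3.Pt 0, cvtl2.Pt 0, cvtl1.Pt 0, cvtl0.Pt 0] :=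
  (cvt_S3 M).next
theorem cve_act {G Ω : Type*} [Group G] [MulAction G Ω] {g : ℕ → G} {pt : ℕ → Ω}
    (M : Md g pt H16.J2.P 100 5 H16.J2.B 604800) : Act (wds g cve_W) pt cve_P 100 1 :=
  M.wact cve_lt
theorem cvc0_e : ∀ i < 1, (dent cvc0 cve_P (nat_lit 100)) i = 0 := allZ_sound0 cvc0_e_0
theorem cvc0_ok : DOK cvc0 cve_P 100 := ⟨cvc0_h, cvc0_e⟩
theorem cvtn0_1 : ∀ i < 100, (cvtn0.ent H16.J2.P cvth_P v_P v_P cve_P (nat_lit 5) (nat_lit 4) H16.J2.B cvtl0 [cvtl1, cvtl2, cvtl3] (memO cvc0)) i = 0 := allZ_sound0 cvtn0_1_0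
theorem cvtn0_t {G Ω : Type*} [Group G] [MulAction G Ω] {g : ℕ → G} {pt : ℕ → Ω}
    (M : Md g pt H16.J2.P 100 5 H16.J2.B 604800) : TrO (gen (wds g cvth_W) cvtl0.K) (wds g v_W) (wds g v_W) 4 pt 100 (cvtl0.Pt 0) (memO cvc0) :=
  node M (cvt_S0 M) (cvth_act M) (v_act M) (v_act M) cvtn0 ((cve_act M).mono (by decide)) (fun _ _ => trivial) cvtn0_0 cvtn0_1 (List.forall_mem_nil _)
theorem cv {G Ω : Type*} [Group G] [MulAction G Ω] {g : ℕ → G} {pt : ℕ → Ω}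
    (M : Md g pt H16.J2.P 100 5 H16.J2.B 604800) : Cen ⊤ (wds g v_W) 4 (wds g cve_W) pt 100 [cvc0] :=
  (cvt_S0 M).top ▸ Cen.lev M (cvt_S0 M) (Cen.triv (cvt_S1 M) (Cen.triv (cvt_S2 M) (Cen.triv (cvt_S3 M) (Cen.bot) (forced (cvt_S3 M) (cvth_act M) (v_act M) _ _ cv_f3)) (forced (cvt_S2 M) (cvth_act M) (v_act M) _ _ cv_f2)) (forced (cvt_S1 M) (cvth_act M) (v_act M) _ _ cv_f1)) (cvtn0_t M) (v_act M) (cve_act M) (fun _ _ => trivial) cvc0_ok cv_f0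
theorem cv_eq {G Ω : Type*} [Group G] [MulAction G Ω] {g : ℕ → G} {pt : ℕ → Ω}
    (M : Md g pt H16.J2.P 100 5 H16.J2.B 604800) : Subgroup.centralizer (gen (wds g v_W) 4) = gen (wds g cve_W) 1 ∧ Nat.card (gen (wds g cve_W) 1) = 2 :=
  cv_c.1 ▸ cv_c.2 ▸ ⟨(cv M).cent, (cv M).card M.inj⟩
theorem nv_k : ∀ k < 6, ∀ i < 4, (nrmEnt v_P H15.IC.J2.c0ace_P (nat_lit 4) H16.J2.B nvW) k i = 0 := allZ2_sound nv_k_a
theorem nv {G Ω : Type*} [Group G] [MulAction G Ω] {g : ℕ → G} {pt : ℕ → Ω}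
    (M : Md g pt H16.J2.P 100 5 H16.J2.B 604800) : (gen (wds g H15.IC.J2.c0ace_W) 6) ≤ Subgroup.normalizer ((gen (wds g v_W) 4) : Set G) :=
  norms M (v_act M) (H15.IC.J2.c0ace_act M) nv_k
theorem vz_k : ∀ i < 4, (cmEnt v_P H15.IC.J2.c0ax_P (nat_lit 4) H16.J2.B (nat_lit 0)) i = 0 := allZ_sound0 vz_k_0
theorem vz {G Ω : Type*} [Group G] [MulAction G Ω] {g : ℕ → G} {pt : ℕ → Ω}
    (M : Md g pt H16.J2.P 100 5 H16.J2.B 604800) : (wds g H15.IC.J2.c0ax_W) 0 ∈ Subgroup.centralizer ((gen (wds g v_W) 4) : Set G) :=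
  cms M (v_act M) (H15.IC.J2.c0ax_act M) (by decide) vz_k
theorem vU {G Ω : Type*} [Group G] [MulAction G Ω] {g : ℕ → G} {pt : ℕ → Ω}
    (M : Md g pt H16.J2.P 100 5 H16.J2.B 604800) : gen (wds g v_W) 4 ≤ gen (wds g H15.IC.J2.p2t_W) 7 :=
  M.gen_le (H15.IC.J2.p2t_act M) (v_act M) vU_k
theorem z0 {G Ω : Type*} [Group G] [MulAction G Ω] {g : ℕ → G} {pt : ℕ → Ω}
    (M : Md g pt H16.J2.P 100 5 H16.J2.B 604800) : Z0 (gen (wds g H15.IC.J2.p2t_W) 7) ((wds g H15.IC.J2.c0ax_W) 0) :=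
  have := M.fin
  have s := pc_syl (H15.IC.J2.p2_pc M)
  ⟨s, (zU M).2, Uz M, z1 M, ((congrArg (fun H : Subgroup G => Nat.card H) (cu_eq M).1).trans (cu_eq M).2), cp_sub (k := 1) (H19.le_cent1_iff.2 (vz M)) ((cz M).le.trans (nv M)) (s.pi.of_le (vU M)) ((congrArg (fun H : Subgroup G => Nat.card H) (cv_eq M).1).trans (cv_eq M).2)⟩
theorem d_act {G Ω : Type*} [Group G] [MulAction G Ω] {g : ℕ → G} {pt : ℕ → Ω}
    (M : Md g pt H16.J2.P 100 5 H16.J2.B 604800) : Act (wds g d_W) pt d_P 100 3 :=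
  M.wact d_lt
theorem dr0 {G Ω : Type*} [Group G] [MulAction G Ω] {g : ℕ → G} {pt : ℕ → Ω}
    (M : Md g pt H16.J2.P 100 5 H16.J2.B 604800) : evA (wds g H15.IC.J2.p2t_W) [4, 6] = evA (wds g H15.IC.J2.p2t_W) [6, 4, 1, 3] :=
  M.eq_of (H15.IC.J2.p2t_act M) dr0_k
theorem de0 {G Ω : Type*} [Group G] [MulAction G Ω] {g : ℕ → G} {pt : ℕ → Ω}
    (M : Md g pt H16.J2.P 100 5 H16.J2.B 604800) : (wds g d_W) 0 = evA (wds g H15.IC.J2.p2t_W) [1, 3] ∧ (wds g d_W) 0 ∈ gen (wds g H15.IC.J2.p2t_W) 7 :=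
  M.eqw (H15.IC.J2.p2t_act M) (d_act M) (by decide) de0_k
theorem dr1 {G Ω : Type*} [Group G] [MulAction G Ω] {g : ℕ → G} {pt : ℕ → Ω}
    (M : Md g pt H16.J2.P 100 5 H16.J2.B 604800) : evA (wds g H15.IC.J2.p2t_W) [2, 6] = evA (wds g H15.IC.J2.p2t_W) [6, 2, 1] :=
  M.eq_of (H15.IC.J2.p2t_act M) dr1_k
theorem de1 {G Ω : Type*} [Group G] [MulAction G Ω] {g : ℕ → G} {pt : ℕ → Ω}
    (M : Md g pt H16.J2.P 100 5 H16.J2.B 604800) : (wds g d_W) 1 = evA (wds g H15.IC.J2.p2t_W) [1] ∧ (wds g d_W) 1 ∈ gen (wds g H15.IC.J2.p2t_W) 7 :=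
  M.eqw (H15.IC.J2.p2t_act M) (d_act M) (by decide) de1_k
theorem dr2 {G Ω : Type*} [Group G] [MulAction G Ω] {g : ℕ → G} {pt : ℕ → Ω}
    (M : Md g pt H16.J2.P 100 5 H16.J2.B 604800) : evA (wds g H15.IC.J2.p2t_W) [4, 5] = evA (wds g H15.IC.J2.p2t_W) [5, 4, 0, 2] :=
  M.eq_of (H15.IC.J2.p2t_act M) dr2_k
theorem de2 {G Ω : Type*} [Group G] [MulAction G Ω] {g : ℕ → G} {pt : ℕ → Ω}
    (M : Md g pt H16.J2.P 100 5 H16.J2.B 604800) : (wds g d_W) 2 = evA (wds g H15.IC.J2.p2t_W) [0, 2] ∧ (wds g d_W) 2 ∈ gen (wds g H15.IC.J2.p2t_W) 7 :=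
  M.eqw (H15.IC.J2.p2t_act M) (d_act M) (by decide) de2_k
theorem cdth_act {G Ω : Type*} [Group G] [MulAction G Ω] {g : ℕ → G} {pt : ℕ → Ω}
    (M : Md g pt H16.J2.P 100 5 H16.J2.B 604800) : Act (wds g cdth_W) pt cdth_P 100 10 :=
  M.wact cdth_lt
theorem cdtl0_e : ∀ i < 99, (dent cdtl0 cdth_P (nat_lit 100)) i = 0 := allZ_sound0 cdtl0_e_0
theorem cdtl0_ok : DOK cdtl0 cdth_P 100 := ⟨cdtl0_h, cdtl0_e⟩
theorem cdtl1_e : ∀ i < 35, (dent cdtl1 cdth_P (nat_lit 100)) i = 0 := allZ_sound0 cdtl1_e_0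
theorem cdtl1_ok : DOK cdtl1 cdth_P 100 := ⟨cdtl1_h, cdtl1_e⟩
theorem cdtl2_e : ∀ i < 6, (dent cdtl2 cdth_P (nat_lit 100)) i = 0 := allZ_sound0 cdtl2_e_0
theorem cdtl2_ok : DOK cdtl2 cdth_P 100 := ⟨cdtl2_h, cdtl2_e⟩
theorem cdtl3_e : ∀ i < 3, (dent cdtl3 cdth_P (nat_lit 100)) i = 0 := allZ_sound0 cdtl3_e_0
theorem cdtl3_ok : DOK cdtl3 cdth_P 100 := ⟨cdtl3_h, cdtl3_e⟩
theorem cdtl4_e : ∀ i < 2, (dent cdtl4 cdth_P (nat_lit 100)) i = 0 := allZ_sound0 cdtl4_e_0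
theorem cdtl4_ok : DOK cdtl4 cdth_P 100 := ⟨cdtl4_h, cdtl4_e⟩
theorem cdtl5_e : ∀ i < 1, (dent cdtl5 cdth_P (nat_lit 100)) i = 0 := allZ_sound0 cdtl5_e_0
theorem cdtl5_ok : DOK cdtl5 cdth_P 100 := ⟨cdtl5_h, cdtl5_e⟩
theorem cdt_low {G Ω : Type*} [Group G] [MulAction G Ω] {g : ℕ → G} {pt : ℕ → Ω}
    (M : Md g pt H16.J2.P 100 5 H16.J2.B 604800) : SLow (gi (wds g cdth_W)) pt 100 [cdtl0, cdtl1, cdtl2, cdtl3, cdtl4, cdtl5] :=
  ((((((SLow.nil).cons cdtl5_ok (cdth_act M) cdt_f5).cons cdtl4_ok (cdth_act M) cdt_f4).cons cdtl3_ok (cdth_act M) cdt_f3).cons cdtl2_ok (cdth_act M) cdt_f2).cons cdtl1_ok (cdth_act M) cdt_f1).cons cdtl0_ok (cdth_act M) cdt_f0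
theorem cdt_S0 {G Ω : Type*} [Group G] [MulAction G Ω] {g : ℕ → G} {pt : ℕ → Ω}
    (M : Md g pt H16.J2.P 100 5 H16.J2.B 604800) : Stage ⊤ (wds g cdth_W) pt 100 [cdtl0, cdtl1, cdtl2, cdtl3, cdtl4, cdtl5] [] :=
  M.stage (cdt_low M) cdt_c
theorem cdt_S1 {G Ω : Type*} [Group G] [MulAction G Ω] {g : ℕ → G} {pt : ℕ → Ω}
    (M : Md g pt H16.J2.P 100 5 H16.J2.B 604800) : Stage ⊤ (wds g cdth_W) pt 100 [cdtl1, cdtl2, cdtl3, cdtl4, cdtl5] [cdtl0.Pt 0] :=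
  (cdt_S0 M).next
theorem cdt_S2 {G Ω : Type*} [Group G] [MulAction G Ω] {g : ℕ → G} {pt : ℕ → Ω}
    (M : Md g pt H16.J2.P 100 5 H16.J2.B 604800) : Stage ⊤ (wds g cdth_W) pt 100 [cdtl2, cdtl3, cdtl4, cdtl5] [cdtl1.Pt 0, cdtl0.Pt 0] :=
  (cdt_S1 M).next
theorem cdt_S3 {G Ω : Type*} [Group G] [MulAction G Ω] {g : ℕ → G} {pt : ℕ → Ω}
    (M : Md g pt H16.J2.P 100 5 H16.J2.B 604800) : Stage ⊤ (wds g cdth_W) pt 100 [cdtl3, cdtl4, cdtl5] [cdtl2.Pt 0, cdtl1.Pt 0, cdtl0.Pt 0] :=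
  (cdt_S2 M).next
theorem cdt_S4 {G Ω : Type*} [Group G] [MulAction G Ω] {g : ℕ → G} {pt : ℕ → Ω}
    (M : Md g pt H16.J2.P 100 5 H16.J2.B 604800) : Stage ⊤ (wds g cdth_W) pt 100 [cdtl4, cdtl5] [cdtl3.Pt 0, cdtl2.Pt 0, cdtl1.Pt 0, cdtl0.Pt 0] :=
  (cdt_S3 M).next
theorem cdt_S5 {G Ω : Type*} [Group G] [MulAction G Ω] {g : ℕ → G} {pt : ℕ → Ω}
    (M : Md g pt H16.J2.P 100 5 H16.J2.B 604800) : Stage ⊤ (wds g cdth_W) pt 100 [cdtl5] [cdtl4.Pt 0, cdtl3.Pt 0, cdtl2.Pt 0, cdtl1.Pt 0, cdtl0.Pt 0] :=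
  (cdt_S4 M).next
theorem cdt_S6 {G Ω : Type*} [Group G] [MulAction G Ω] {g : ℕ → G} {pt : ℕ → Ω}
    (M : Md g pt H16.J2.P 100 5 H16.J2.B 604800) : Stage ⊤ (wds g cdth_W) pt 100 [] [cdtl5.Pt 0, cdtl4.Pt 0, cdtl3.Pt 0, cdtl2.Pt 0, cdtl1.Pt 0, cdtl0.Pt 0] :=
  (cdt_S5 M).next
theorem cde_act {G Ω : Type*} [Group G] [MulAction G Ω] {g : ℕ → G} {pt : ℕ → Ω}
    (M : Md g pt H16.J2.P 100 5 H16.J2.B 604800) : Act (wds g cde_W) pt cde_P 100 2 :=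
  M.wact cde_lt
theorem cdc5_e : ∀ i < 1, (dent cdc5 cde_P (nat_lit 100)) i = 0 := allZ_sound0 cdc5_e_0
theorem cdc5_ok : DOK cdc5 cde_P 100 := ⟨cdc5_h, cdc5_e⟩
theorem cdtn0_1 : ∀ i < 2, (cdtn0.ent H16.J2.P cdth_P d_P d_P cde_P (nat_lit 5) (nat_lit 3) H16.J2.B cdtl5 [] (memO cdc5)) i = 0 := allZ_sound0 cdtn0_1_0
theorem cdtn0_t {G Ω : Type*} [Group G] [MulAction G Ω] {g : ℕ → G} {pt : ℕ → Ω}
    (M : Md g pt H16.J2.P 100 5 H16.J2.B 604800) : TrO (gen (wds g cdth_W) cdtl5.K) (wds g d_W) (wds g d_W) 3 pt 100 (cdtl5.Pt 0) (memO cdc5) :=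
  node M (cdt_S5 M) (cdth_act M) (d_act M) (d_act M) cdtn0 ((cde_act M).mono (by decide)) (fun _ _ => trivial) cdtn0_0 cdtn0_1 (List.forall_mem_nil _)
theorem cdc0_e : ∀ i < 1, (dent cdc0 cde_P (nat_lit 100)) i = 0 := allZ_sound0 cdc0_e_0
theorem cdc0_ok : DOK cdc0 cde_P 100 := ⟨cdc0_h, cdc0_e⟩
theorem cdtn1y17_act {G Ω : Type*} [Group G] [MulAction G Ω] {g : ℕ → G} {pt : ℕ → Ω}
    (M : Md g pt H16.J2.P 100 5 H16.J2.B 604800) : Act (wds g cdtn1y17_W) pt cdtn1y17_P 100 3 :=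
  M.wact cdtn1y17_lt
theorem cdtr2k_act {G Ω : Type*} [Group G] [MulAction G Ω] {g : ℕ → G} {pt : ℕ → Ω}
    (M : Md g pt H16.J2.P 100 5 H16.J2.B 604800) : Act (wds g cdtr2k_W) pt cdtr2k_P 100 2 :=
  M.wact cdtr2k_lt
theorem cdtn2_1 : ∀ i < 2, (cdtn2.ent H16.J2.P cdth_P d_P cdtn1y17_P cdtr2k_P (nat_lit 5) (nat_lit 3) H16.J2.B cdtl5 [] (fun _ => nat_lit 1)) i = 0 := allZ_sound0 cdtn2_1_0
theorem cdtn2_t {G Ω : Type*} [Group G] [MulAction G Ω] {g : ℕ → G} {pt : ℕ → Ω}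
    (M : Md g pt H16.J2.P 100 5 H16.J2.B 604800) : TrO (gen (wds g cdth_W) cdtl5.K) (wds g d_W) (wds g cdtn1y17_W) 3 pt 100 (cdtl5.Pt 0) (fun _ => nat_lit 1) :=
  node M (cdt_S5 M) (cdth_act M) (d_act M) (cdtn1y17_act M) cdtn2 ((cdtr2k_act M).mono (by decide)) (fun _ _ => trivial) cdtn2_0 cdtn2_1 (List.forall_mem_nil _)
theorem cdtr2 {G Ω : Type*} [Group G] [MulAction G Ω] {g : ℕ → G} {pt : ℕ → Ω}
    (M : Md g pt H16.J2.P 100 5 H16.J2.B 604800) : Ref (gen (wds g cdth_W) (topK [cdtl5])) (wds g d_W) (wds g cdtn1y17_W) 3 :=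
  (cdtn2_t M).ref
theorem cdtn1y86_act {G Ω : Type*} [Group G] [MulAction G Ω] {g : ℕ → G} {pt : ℕ → Ω}
    (M : Md g pt H16.J2.P 100 5 H16.J2.B 604800) : Act (wds g cdtn1y86_W) pt cdtn1y86_P 100 3 :=
  M.wact cdtn1y86_lt
theorem cdtr3k_act {G Ω : Type*} [Group G] [MulAction G Ω] {g : ℕ → G} {pt : ℕ → Ω}
    (M : Md g pt H16.J2.P 100 5 H16.J2.B 604800) : Act (wds g cdtr3k_W) pt cdtr3k_P 100 2 :=
  M.wact cdtr3k_lt
theorem cdtn3_1 : ∀ i < 2, (cdtn3.ent H16.J2.P cdth_P d_P cdtn1y86_P cdtr3k_P (nat_lit 5) (nat_lit 3) H16.J2.B cdtl5 [] (fun _ => nat_lit 1)) i = 0 := allZ_sound0 cdtn3_1_0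
theorem cdtn3_t {G Ω : Type*} [Group G] [MulAction G Ω] {g : ℕ → G} {pt : ℕ → Ω}
    (M : Md g pt H16.J2.P 100 5 H16.J2.B 604800) : TrO (gen (wds g cdth_W) cdtl5.K) (wds g d_W) (wds g cdtn1y86_W) 3 pt 100 (cdtl5.Pt 0) (fun _ => nat_lit 1) :=
  node M (cdt_S5 M) (cdth_act M) (d_act M) (cdtn1y86_act M) cdtn3 ((cdtr3k_act M).mono (by decide)) (fun _ _ => trivial) cdtn3_0 cdtn3_1 (List.forall_mem_nil _)
theorem cdtr3 {G Ω : Type*} [Group G] [MulAction G Ω] {g : ℕ → G} {pt : ℕ → Ω}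
    (M : Md g pt H16.J2.P 100 5 H16.J2.B 604800) : Ref (gen (wds g cdth_W) (topK [cdtl5])) (wds g d_W) (wds g cdtn1y86_W) 3 :=
  (cdtn3_t M).ref
theorem cdtn1y60_act {G Ω : Type*} [Group G] [MulAction G Ω] {g : ℕ → G} {pt : ℕ → Ω}
    (M : Md g pt H16.J2.P 100 5 H16.J2.B 604800) : Act (wds g cdtn1y60_W) pt cdtn1y60_P 100 3 :=
  M.wact cdtn1y60_lt
theorem cdtr4k_act {G Ω : Type*} [Group G] [MulAction G Ω] {g : ℕ → G} {pt : ℕ → Ω}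
    (M : Md g pt H16.J2.P 100 5 H16.J2.B 604800) : Act (wds g cdtr4k_W) pt cdtr4k_P 100 2 :=
  M.wact cdtr4k_lt
theorem cdtn4_1 : ∀ i < 2, (cdtn4.ent H16.J2.P cdth_P d_P cdtn1y60_P cdtr4k_P (nat_lit 5) (nat_lit 3) H16.J2.B cdtl5 [] (fun _ => nat_lit 1)) i = 0 := allZ_sound0 cdtn4_1_0
theorem cdtn4_t {G Ω : Type*} [Group G] [MulAction G Ω] {g : ℕ → G} {pt : ℕ → Ω}
    (M : Md g pt H16.J2.P 100 5 H16.J2.B 604800) : TrO (gen (wds g cdth_W) cdtl5.K) (wds g d_W) (wds g cdtn1y60_W) 3 pt 100 (cdtl5.Pt 0) (fun _ => nat_lit 1) :=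
  node M (cdt_S5 M) (cdth_act M) (d_act M) (cdtn1y60_act M) cdtn4 ((cdtr4k_act M).mono (by decide)) (fun _ _ => trivial) cdtn4_0 cdtn4_1 (List.forall_mem_nil _)
theorem cdtr4 {G Ω : Type*} [Group G] [MulAction G Ω] {g : ℕ → G} {pt : ℕ → Ω}
    (M : Md g pt H16.J2.P 100 5 H16.J2.B 604800) : Ref (gen (wds g cdth_W) (topK [cdtl5])) (wds g d_W) (wds g cdtn1y60_W) 3 :=
  (cdtn4_t M).ref
theorem cdtn1_1 : ∀ i < 100, (cdtn1.ent H16.J2.P cdth_P d_P d_P cde_P (nat_lit 5) (nat_lit 3) H16.J2.B cdtl0 [cdtl1, cdtl2, cdtl3, cdtl4, cdtl5] (memO cdc0)) i = 0 := allZ_sound0 cdtn1_1_0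
theorem cdtn1_t {G Ω : Type*} [Group G] [MulAction G Ω] {g : ℕ → G} {pt : ℕ → Ω}
    (M : Md g pt H16.J2.P 100 5 H16.J2.B 604800) : TrO (gen (wds g cdth_W) cdtl0.K) (wds g d_W) (wds g d_W) 3 pt 100 (cdtl0.Pt 0) (memO cdc0) :=
  node M (cdt_S0 M) (cdth_act M) (d_act M) (d_act M) cdtn1 ((cde_act M).mono (by decide)) (fun _ _ => trivial) cdtn1_0 cdtn1_1 (List.forall_mem_cons.2 ⟨cdtr2 M, List.forall_mem_cons.2 ⟨cdtr3 M, List.forall_mem_cons.2 ⟨cdtr4 M, List.forall_mem_nil _⟩⟩⟩)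
theorem cd {G Ω : Type*} [Group G] [MulAction G Ω] {g : ℕ → G} {pt : ℕ → Ω}
    (M : Md g pt H16.J2.P 100 5 H16.J2.B 604800) : Cen ⊤ (wds g d_W) 3 (wds g cde_W) pt 100 [cdc0, cdc5] :=
  (cdt_S0 M).top ▸ Cen.lev M (cdt_S0 M) (Cen.triv (cdt_S1 M) (Cen.triv (cdt_S2 M) (Cen.triv (cdt_S3 M) (Cen.triv (cdt_S4 M) (Cen.lev M (cdt_S5 M) (Cen.bot) (cdtn0_t M) (d_act M) (cde_act M) (fun _ _ => trivial) cdc5_ok cd_f5) (forced (cdt_S4 M) (cdth_act M) (d_act M) _ _ cd_f4)) (forced (cdt_S3 M) (cdth_act M) (d_act M) _ _ cd_f3)) (forced (cdt_S2 M) (cdth_act M) (d_act M) _ _ cd_f2)) (forced (cdt_S1 M) (cdth_act M) (d_act M) _ _ cd_f1)) (cdtn1_t M) (d_act M) (cde_act M) (fun _ _ => trivial) cdc0_ok cd_f0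
theorem cd_eq {G Ω : Type*} [Group G] [MulAction G Ω] {g : ℕ → G} {pt : ℕ → Ω}
    (M : Md g pt H16.J2.P 100 5 H16.J2.B 604800) : Subgroup.centralizer (gen (wds g d_W) 3) = gen (wds g cde_W) 2 ∧ Nat.card (gen (wds g cde_W) 2) = 4 :=
  cd_c.1 ▸ cd_c.2 ▸ ⟨(cd M).cent, (cd M).card M.inj⟩
theorem wd0_k : ∀ i < 4, (cmEnt H15.IC.J2.p2t_P cde_P (nat_lit 4) H16.J2.B (nat_lit 0)) i = 0 := allZ_sound0 wd0_k_0
theorem wd0 {G Ω : Type*} [Group G] [MulAction G Ω] {g : ℕ → G} {pt : ℕ → Ω}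
    (M : Md g pt H16.J2.P 100 5 H16.J2.B 604800) : (wds g cde_W) 0 ∈ Subgroup.centralizer ((gen (wds g H15.IC.J2.p2t_W) 4) : Set G) :=
  cms M ((H15.IC.J2.p2t_act M).mono (by decide)) (cde_act M) (by decide) wd0_k
theorem wd1_k : ∀ i < 4, (cmEnt H15.IC.J2.p2t_P cde_P (nat_lit 4) H16.J2.B (nat_lit 1)) i = 0 := allZ_sound0 wd1_k_0
theorem wd1 {G Ω : Type*} [Group G] [MulAction G Ω] {g : ℕ → G} {pt : ℕ → Ω}
    (M : Md g pt H16.J2.P 100 5 H16.J2.B 604800) : (wds g cde_W) 1 ∈ Subgroup.centralizer ((gen (wds g H15.IC.J2.p2t_W) 4) : Set G) :=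
  cms M ((H15.IC.J2.p2t_act M).mono (by decide)) (cde_act M) (by decide) wd1_k
theorem ivw {G Ω : Type*} [Group G] [MulAction G Ω] {g : ℕ → G} {pt : ℕ → Ω}
    (M : Md g pt H16.J2.P 100 5 H16.J2.B 604800) : Iv (gen (wds g H15.IC.J2.p2t_W) 7) (gen (wds g cde_W) 2) :=
  have := M.fin
  iv_self.com.sw (gen_le.2 fun i hi => match i, hi with | 0, _ => com_mem (W := [6]) (b := 4) (by decide) (evA_mem_gen _ (by decide)) (de0 M) (dr0 M) | 1, _ => com_mem (W := [6]) (b := 2) (by decide) (evA_mem_gen _ (by decide)) (de1 M) (dr1 M) | 2, _ => com_mem (W := [5]) (b := 4) (by decide) (evA_mem_gen _ (by decide)) (de2 M) (dr2 M))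
    (com_le (H15.IC.J2.p2_pc M).toPC0 (by decide) (sm_der (H15.IC.J2.p2_sm M).1 H15.IC.J2.p2_p dk)) (cd_eq M).1
    (gen_le.2 fun i hi => match i, hi with | 0, _ => wd0 M | 1, _ => wd1 M)
theorem wU {G Ω : Type*} [Group G] [MulAction G Ω] {g : ℕ → G} {pt : ℕ → Ω}
    (M : Md g pt H16.J2.P 100 5 H16.J2.B 604800) : gen (wds g cde_W) 2 ≤ gen (wds g H15.IC.J2.p2t_W) 7 :=
  M.gen_le (H15.IC.J2.p2t_act M) (cde_act M) wU_k
theorem zW {G Ω : Type*} [Group G] [MulAction G Ω] {g : ℕ → G} {pt : ℕ → Ω}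
    (M : Md g pt H16.J2.P 100 5 H16.J2.B 604800) : (wds g H15.IC.J2.c0ax_W) 0 = evA (wds g cde_W) [0, 1] ∧ (wds g H15.IC.J2.c0ax_W) 0 ∈ gen (wds g cde_W) 2 :=
  M.eqw (cde_act M) (H15.IC.J2.c0ax_act M) (by decide) zW_k
theorem f_act {G Ω : Type*} [Group G] [MulAction G Ω] {g : ℕ → G} {pt : ℕ → Ω}
    (M : Md g pt H16.J2.P 100 5 H16.J2.B 604800) : Act (wds g f_W) pt f_P 100 4 :=
  M.wact f_lt
theorem f1 {G Ω : Type*} [Group G] [MulAction G Ω] {g : ℕ → G} {pt : ℕ → Ω}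
    (M : Md g pt H16.J2.P 100 5 H16.J2.B 604800) : (wds g f_W) 1 ∈ Subgroup.normalizer (gen (wds g cde_W) 2 : Set G) :=
  M.norm (cde_act M) (f_act M) (by decide) f1_k
theorem f2 {G Ω : Type*} [Group G] [MulAction G Ω] {g : ℕ → G} {pt : ℕ → Ω}
    (M : Md g pt H16.J2.P 100 5 H16.J2.B 604800) : evA (wds g f_W) [0, 2] = evA (wds g f_W) [2, 0] :=
  M.eq_of (f_act M) f2_k
theorem f3 {G Ω : Type*} [Group G] [MulAction G Ω] {g : ℕ → G} {pt : ℕ → Ω}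
    (M : Md g pt H16.J2.P 100 5 H16.J2.B 604800) : evA (wds g f_W) [0, 1, 2, 1] = evA (wds g f_W) [1, 2, 1, 3] :=
  M.eq_of (f_act M) f3_k
theorem f4 {G Ω : Type*} [Group G] [MulAction G Ω] {g : ℕ → G} {pt : ℕ → Ω}
    (M : Md g pt H16.J2.P 100 5 H16.J2.B 604800) : evA (wds g f_W) [3, 0] ≠ evA (wds g f_W) [0, 3] :=
  M.nrel (f_act M) _ f4_k
theorem kg {G Ω : Type*} [Group G] [MulAction G Ω] {g : ℕ → G} {pt : ℕ → Ω}
    (M : Md g pt H16.J2.P 100 5 H16.J2.B 604800) : H18.UB.KG G :=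
  have := M.fin
  kg4 (f := (wds g f_W)) (L := [1, 2, 1]) (z0 M) (ivw M) (wU M) (zW M).2 (f1 M) (f2 M) (by decide) (f3 M) (f4 M)
theorem spor : H18.UB.KG Cfsg.Spor.J2 := by
  obtain ⟨_, g, M, -⟩ := H15.IC.J2.md H15.J2L.equiv.symm
  exact kg M

end H15.UB.J2
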