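import Cfsg.Agent.H15.UB1
import Cfsg.Agent.H15.IC.M23

/-! Generated by tools/h15/ub/gk.py (kit tools/h0/tr). -/

set_option maxRecDepth 100000
set_option maxHeartbeats 0

namespace H15.UB.M23
open H16 H0.TR
open H15.QS H15.UB
open scoped commutatorElement Pointwise

noncomputable def cuth_W : List (List ℕ) := [[nat_lit 0, nat_lit 1, nat_lit 6, nat_lit 1, nat_lit 3, nat_lit 7, nat_lit 6, nat_lit 0, nat_lit 8, nat_lit 9, nat_lit 8, nat_lit 7, nat_lit 6, nat_lit 0, nat_lit 6],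
  [nat_lit 1, nat_lit 2, nat_lit 5, nat_lit 6, nat_lit 1, nat_lit 8, nat_lit 9, nat_lit 8],
  [nat_lit 1, nat_lit 2, nat_lit 4, nat_lit 7, nat_lit 6, nat_lit 0, nat_lit 8, nat_lit 9, nat_lit 8, nat_lit 7],
  [nat_lit 2, nat_lit 4, nat_lit 6, nat_lit 1, nat_lit 3, nat_lit 7, nat_lit 6, nat_lit 1, nat_lit 3, nat_lit 6, nat_lit 8, nat_lit 9, nat_lit 8, nat_lit 7, nat_lit 6, nat_lit 2],
  [nat_lit 9, nat_lit 1, nat_lit 7, nat_lit 6, nat_lit 0, nat_lit 2, nat_lit 6, nat_lit 8, nat_lit 7, nat_lit 6, nat_lit 1, nat_lit 9],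
  [nat_lit 6],
  [nat_lit 4, nat_lit 1, nat_lit 2, nat_lit 7, nat_lit 6, nat_lit 1, nat_lit 7, nat_lit 8, nat_lit 9, nat_lit 8, nat_lit 7, nat_lit 6],
  [nat_lit 0],
  [nat_lit 1],
  [nat_lit 2],
  [nat_lit 3],
  [nat_lit 4],
  [nat_lit 5],
  [nat_lit 7],
  [nat_lit 8],
  [nat_lit 9]]
noncomputable def cuth_P : ℕ → ℕ → ℕ := wdsP H15.MM23.P cuth_W
noncomputable def cutl0Dd : ℕ := nat_lit 0x7ba898975a5775654a494847452620101435121d0f0e00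
noncomputable def cutl0D (u : ℕ) : ℕ := Nat.land (Nat.shiftRight cutl0Dd (Nat.mul u (nat_lit 8))) (nat_lit 255)
noncomputable def cutl0Pd : ℕ := nat_lit 0x3a4f61da9a58c49c2a88954b18041
noncomputable def cutl0P (u : ℕ) : ℕ := Nat.land (Nat.shiftRight cutl0Pd (Nat.mul u (nat_lit 5))) (nat_lit 31)
noncomputable def cutl0Qd : ℕ := nat_lit 0x392f5d4eaa5a3321608934cc18402
noncomputable def cutl0Q (u : ℕ) : ℕ := Nat.land (Nat.shiftRight cutl0Qd (Nat.mul u (nat_lit 5))) (nat_lit 31)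
noncomputable def cutl0 : H16.Lev := ⟨23, 16, cutl0D, cutl0P, cutl0Q⟩
noncomputable def cutl1Dd : ℕ := nat_lit 0x12e52c9f504f3534592625173d2f210d0b0a09080700
noncomputable def cutl1D (u : ℕ) : ℕ := Nat.land (Nat.shiftRight cutl1Dd (Nat.mul u (nat_lit 8))) (nat_lit 255)
noncomputable def cutl1Pd : ℕ := nat_lit 0x513254ad9c724e301bda95a906
noncomputable def cutl1P (u : ℕ) : ℕ := Nat.land (Nat.shiftRight cutl1Pd (Nat.mul u (nat_lit 5))) (nat_lit 31)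
noncomputable def cutl1Qd : ℕ := nat_lit 0x39f054528334b2188816028b3cc15
noncomputable def cutl1Q (u : ℕ) : ℕ := Nat.land (Nat.shiftRight cutl1Qd (Nat.mul u (nat_lit 5))) (nat_lit 31)
noncomputable def cutl1 : H16.Lev := ⟨22, 14, cutl1D, cutl1P, cutl1Q⟩
noncomputable def cutl2Dd : ℕ := nat_lit 0x2a839dc99c05c8a82839092344068b1e30300
noncomputable def cutl2D (u : ℕ) : ℕ := Nat.land (Nat.shiftRight cutl2Dd (Nat.mul u (nat_lit 7))) (nat_lit 127)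
noncomputable def cutl2Pd : ℕ := nat_lit 0xb80ea02298e28a536d1f644527
noncomputable def cutl2P (u : ℕ) : ℕ := Nat.land (Nat.shiftRight cutl2Pd (Nat.mul u (nat_lit 5))) (nat_lit 31)
noncomputable def cutl2Qd : ℕ := nat_lit 0x1226424532b0eda38230016f92810
noncomputable def cutl2Q (u : ℕ) : ℕ := Nat.land (Nat.shiftRight cutl2Qd (Nat.mul u (nat_lit 5))) (nat_lit 31)
noncomputable def cutl2 : H16.Lev := ⟨21, 7, cutl2D, cutl2P, cutl2Q⟩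
noncomputable def cutl3Dd : ℕ := nat_lit 0xe29dbae9b1ce0f4a7c80e125c511101c280
noncomputable def cutl3D (u : ℕ) : ℕ := Nat.land (Nat.shiftRight cutl3Dd (Nat.mul u (nat_lit 7))) (nat_lit 127)
noncomputable def cutl3Pd : ℕ := nat_lit 0x7bab2242cc58a7428c095450d
noncomputable def cutl3P (u : ℕ) : ℕ := Nat.land (Nat.shiftRight cutl3Pd (Nat.mul u (nat_lit 5))) (nat_lit 31)
noncomputable def cutl3Qd : ℕ := nat_lit 0x36284c04e9c80c58c81000ef32805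
noncomputable def cutl3Q (u : ℕ) : ℕ := Nat.land (Nat.shiftRight cutl3Qd (Nat.mul u (nat_lit 5))) (nat_lit 31)
noncomputable def cutl3 : H16.Lev := ⟨20, 6, cutl3D, cutl3P, cutl3Q⟩
noncomputable def cutl4Dd : ℕ := nat_lit 0x940
noncomputable def cutl4D (u : ℕ) : ℕ := Nat.land (Nat.shiftRight cutl4Dd (Nat.mul u (nat_lit 4))) (nat_lit 15)
noncomputable def cutl4Pd : ℕ := nat_lit 0x592f
noncomputable def cutl4P (u : ℕ) : ℕ := Nat.land (Nat.shiftRight cutl4Pd (Nat.mul u (nat_lit 5))) (nat_lit 31)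
noncomputable def cutl4Qd : ℕ := nat_lit 0x200000040000
noncomputable def cutl4Q (u : ℕ) : ℕ := Nat.land (Nat.shiftRight cutl4Qd (Nat.mul u (nat_lit 2))) (nat_lit 3)
noncomputable def cutl4 : H16.Lev := ⟨3, 5, cutl4D, cutl4P, cutl4Q⟩
noncomputable def cutl5Dd : ℕ := nat_lit 0xbdf6d750f2c7204183002040
noncomputable def cutl5D (u : ℕ) : ℕ := Nat.land (Nat.shiftRight cutl5Dd (Nat.mul u (nat_lit 6))) (nat_lit 63)
noncomputable def cutl5Pd : ℕ := nat_lit 0x8a2826280b2d6039924e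
noncomputable def cutl5P (u : ℕ) : ℕ := Nat.land (Nat.shiftRight cutl5Pd (Nat.mul u (nat_lit 5))) (nat_lit 31)
noncomputable def cutl5Qd : ℕ := nat_lit 0x6d31f5000b8a0e00724c09
noncomputable def cutl5Q (u : ℕ) : ℕ := Nat.land (Nat.shiftRight cutl5Qd (Nat.mul u (nat_lit 4))) (nat_lit 15)
noncomputable def cutl5 : H16.Lev := ⟨16, 4, cutl5D, cutl5P, cutl5Q⟩
noncomputable def cue_W : List (List ℕ) := [[nat_lit 3, nat_lit 5, nat_lit 6, nat_lit 7, nat_lit 6, nat_lit 8, nat_lit 7, nat_lit 6, nat_lit 3]]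
noncomputable def cue_P : ℕ → ℕ → ℕ := wdsP H15.MM23.P cue_W
noncomputable def cuc0Dd : ℕ := nat_lit 0
noncomputable def cuc0D (u : ℕ) : ℕ := Nat.land (Nat.shiftRight cuc0Dd (Nat.mul u (nat_lit 1))) (nat_lit 1)
noncomputable def cuc0Pd : ℕ := nat_lit 0x39
noncomputable def cuc0P (u : ℕ) : ℕ := Nat.land (Nat.shiftRight cuc0Pd (Nat.mul u (nat_lit 3))) (nat_lit 7)
noncomputable def cuc0Qd : ℕ := nat_lit 0x80
noncomputable def cuc0Q (u : ℕ) : ℕ := Nat.land (Nat.shiftRight cuc0Qd (Nat.mul u (nat_lit 1))) (nat_lit 1)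
noncomputable def cuc0 : H16.Lev := ⟨2, 1, cuc0D, cuc0P, cuc0Q⟩
noncomputable def cutn0Fd : ℕ := nat_lit 0x2a4659559594
noncomputable def cutn0F (u : ℕ) : ℕ := Nat.land (Nat.shiftRight cutn0Fd (Nat.mul u (nat_lit 2))) (nat_lit 3)
noncomputable def cutn0 : Nd := ⟨cutn0F, (nat_lit 2), (nat_lit 1), [[nat_lit 0],
  [nat_lit 2, nat_lit 3]], [((nat_lit 0), []), ((nat_lit 0), [nat_lit 5]), ((nat_lit 0), [nat_lit 0]), ((nat_lit 0), [nat_lit 3]), ((nat_lit 0), [nat_lit 1])], []⟩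
noncomputable def v_W : List (List ℕ) := [[nat_lit 6, nat_lit 3, nat_lit 5, nat_lit 6, nat_lit 8],
  [nat_lit 3, nat_lit 4, nat_lit 7, nat_lit 6, nat_lit 3, nat_lit 8, nat_lit 7],
  [nat_lit 1, nat_lit 6, nat_lit 0, nat_lit 7, nat_lit 6, nat_lit 1, nat_lit 7, nat_lit 6, nat_lit 8, nat_lit 7, nat_lit 6, nat_lit 0],
  [nat_lit 1, nat_lit 3, nat_lit 6, nat_lit 0, nat_lit 2, nat_lit 7, nat_lit 6, nat_lit 1, nat_lit 3, nat_lit 6, nat_lit 8, nat_lit 7, nat_lit 6, nat_lit 1, nat_lit 3]]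
noncomputable def v_P : ℕ → ℕ → ℕ := wdsP H15.MM23.P v_W
noncomputable def cvth_W : List (List ℕ) := [[nat_lit 1, nat_lit 5, nat_lit 6, nat_lit 7, nat_lit 8, nat_lit 9, nat_lit 8, nat_lit 7, nat_lit 6, nat_lit 1],
  [nat_lit 1, nat_lit 0, nat_lit 6, nat_lit 7, nat_lit 9, nat_lit 8, nat_lit 7, nat_lit 6, nat_lit 1, nat_lit 9],
  [nat_lit 9, nat_lit 2, nat_lit 6, nat_lit 7, nat_lit 8, nat_lit 7, nat_lit 6, nat_lit 2, nat_lit 9],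
  [nat_lit 1, nat_lit 2, nat_lit 6, nat_lit 7, nat_lit 8, nat_lit 9, nat_lit 8, nat_lit 7, nat_lit 6, nat_lit 1, nat_lit 2],
  [nat_lit 0, nat_lit 2, nat_lit 5],
  [nat_lit 0],
  [nat_lit 1],
  [nat_lit 2],
  [nat_lit 3],
  [nat_lit 4],
  [nat_lit 5],
  [nat_lit 6],
  [nat_lit 7],
  [nat_lit 8],
  [nat_lit 9]]
noncomputable def cvth_P : ℕ → ℕ → ℕ := wdsP H15.MM23.P cvth_W
noncomputable def cvtl0Dd : ℕ := nat_lit 0x465063e24920da553114cc2442798084501087c401e0d8381a00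
noncomputable def cvtl0D (u : ℕ) : ℕ := Nat.land (Nat.shiftRight cvtl0Dd (Nat.mul u (nat_lit 9))) (nat_lit 511)
noncomputable def cvtl0Pd : ℕ := nat_lit 0x38b193ec783269ab5545a08618041
noncomputable def cvtl0P (u : ℕ) : ℕ := Nat.land (Nat.shiftRight cvtl0Pd (Nat.mul u (nat_lit 5))) (nat_lit 31)
noncomputable def cvtl0Qd : ℕ := nat_lit 0x45686ce8f9594e3a586812a518402
noncomputable def cvtl0Q (u : ℕ) : ℕ := Nat.land (Nat.shiftRight cvtl0Qd (Nat.mul u (nat_lit 5))) (nat_lit 31)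
noncomputable def cvtl0 : H16.Lev := ⟨23, 15, cvtl0D, cvtl0P, cvtl0Q⟩
noncomputable def cvtl1Dd : ℕ := nat_lit 0xbb4e3634591d4952453c3b2f2b2d221e21201f180c00
noncomputable def cvtl1D (u : ℕ) : ℕ := Nat.land (Nat.shiftRight cvtl1Dd (Nat.mul u (nat_lit 8))) (nat_lit 255)
noncomputable def cvtl1Pd : ℕ := nat_lit 0x2d0880ae63ea95ca683d0866a862
noncomputable def cvtl1P (u : ℕ) : ℕ := Nat.land (Nat.shiftRight cvtl1Pd (Nat.mul u (nat_lit 5))) (nat_lit 31)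
noncomputable def cvtl1Qd : ℕ := nat_lit 0x55a64aa747406f589883922508012
noncomputable def cvtl1Q (u : ℕ) : ℕ := Nat.land (Nat.shiftRight cvtl1Qd (Nat.mul u (nat_lit 5))) (nat_lit 31)
noncomputable def cvtl1 : H16.Lev := ⟨22, 13, cvtl1D, cvtl1P, cvtl1Q⟩
noncomputable def cvtl2Dd : ℕ := nat_lit 0xa13c2624470f3840342c2b201c1e14101312110b00
noncomputable def cvtl2D (u : ℕ) : ℕ := Nat.land (Nat.shiftRight cvtl2Dd (Nat.mul u (nat_lit 8))) (nat_lit 255)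
noncomputable def cvtl2Pd : ℕ := nat_lit 0x1684405731f54ae5341e8433543
noncomputable def cvtl2P (u : ℕ) : ℕ := Nat.land (Nat.shiftRight cvtl2Pd (Nat.mul u (nat_lit 5))) (nat_lit 31)
noncomputable def cvtl2Qd : ℕ := nat_lit 0x5185426536bc4e5056730e0400011
noncomputable def cvtl2Q (u : ℕ) : ℕ := Nat.land (Nat.shiftRight cvtl2Qd (Nat.mul u (nat_lit 5))) (nat_lit 31)
noncomputable def cvtl2 : H16.Lev := ⟨21, 12, cvtl2D, cvtl2P, cvtl2Q⟩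
noncomputable def cvtl3Dd : ℕ := nat_lit 0xe2c897fbd57c79475344a2481c6140
noncomputable def cvtl3D (u : ℕ) : ℕ := Nat.land (Nat.shiftRight cvtl3Dd (Nat.mul u (nat_lit 6))) (nat_lit 63)
noncomputable def cvtl3Pd : ℕ := nat_lit 0x281d16cea452d8893e86b1e09
noncomputable def cvtl3P (u : ℕ) : ℕ := Nat.land (Nat.shiftRight cvtl3Pd (Nat.mul u (nat_lit 5))) (nat_lit 31)
noncomputable def cvtl3Qd : ℕ := nat_lit 0xda571e01345e952c081126c00012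
noncomputable def cvtl3Q (u : ℕ) : ℕ := Nat.land (Nat.shiftRight cvtl3Qd (Nat.mul u (nat_lit 5))) (nat_lit 31)
noncomputable def cvtl3 : H16.Lev := ⟨20, 11, cvtl3D, cvtl3P, cvtl3Q⟩
noncomputable def cvtl4Dd : ℕ := nat_lit 0x940
noncomputable def cvtl4D (u : ℕ) : ℕ := Nat.land (Nat.shiftRight cvtl4Dd (Nat.mul u (nat_lit 4))) (nat_lit 15)
noncomputable def cvtl4Pd : ℕ := nat_lit 0x326d
noncomputable def cvtl4P (u : ℕ) : ℕ := Nat.land (Nat.shiftRight cvtl4Pd (Nat.mul u (nat_lit 5))) (nat_lit 31)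
noncomputable def cvtl4Qd : ℕ := nat_lit 0x4002000000
noncomputable def cvtl4Q (u : ℕ) : ℕ := Nat.land (Nat.shiftRight cvtl4Qd (Nat.mul u (nat_lit 2))) (nat_lit 3)
noncomputable def cvtl4 : H16.Lev := ⟨3, 5, cvtl4D, cvtl4P, cvtl4Q⟩
noncomputable def cvtl5Dd : ℕ := nat_lit 0xbdf6d754f2c7245183042000
noncomputable def cvtl5D (u : ℕ) : ℕ := Nat.land (Nat.shiftRight cvtl5Dd (Nat.mul u (nat_lit 6))) (nat_lit 63)
noncomputable def cvtl5Pd : ℕ := nat_lit 0x3022ab11075c1d5a49e5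
noncomputable def cvtl5P (u : ℕ) : ℕ := Nat.land (Nat.shiftRight cvtl5Pd (Nat.mul u (nat_lit 5))) (nat_lit 31)
noncomputable def cvtl5Qd : ℕ := nat_lit 0xb4302d615007c098f0a000e
noncomputable def cvtl5Q (u : ℕ) : ℕ := Nat.land (Nat.shiftRight cvtl5Qd (Nat.mul u (nat_lit 4))) (nat_lit 15)
noncomputable def cvtl5 : H16.Lev := ⟨16, 4, cvtl5D, cvtl5P, cvtl5Q⟩
noncomputable def cve_W : List (List ℕ) := [[nat_lit 5, nat_lit 6, nat_lit 8, nat_lit 3, nat_lit 6],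
  [nat_lit 3, nat_lit 5, nat_lit 6, nat_lit 7, nat_lit 6, nat_lit 8, nat_lit 7, nat_lit 6, nat_lit 3],
  [nat_lit 1, nat_lit 3, nat_lit 6, nat_lit 0, nat_lit 2, nat_lit 7, nat_lit 6, nat_lit 1, nat_lit 3, nat_lit 6, nat_lit 8, nat_lit 7, nat_lit 6, nat_lit 1, nat_lit 3],
  [nat_lit 1, nat_lit 8, nat_lit 6, nat_lit 0, nat_lit 2, nat_lit 6, nat_lit 7, nat_lit 6, nat_lit 0, nat_lit 3, nat_lit 8, nat_lit 7, nat_lit 6, nat_lit 1]]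
noncomputable def cve_P : ℕ → ℕ → ℕ := wdsP H15.MM23.P cve_W
noncomputable def cvc0Dd : ℕ := nat_lit 0xaa269238f28b187083141000
noncomputable def cvc0D (u : ℕ) : ℕ := Nat.land (Nat.shiftRight cvc0Dd (Nat.mul u (nat_lit 6))) (nat_lit 63)
noncomputable def cvc0Pd : ℕ := nat_lit 0x5ca332c2ad7992e19c41
noncomputable def cvc0P (u : ℕ) : ℕ := Nat.land (Nat.shiftRight cvc0Pd (Nat.mul u (nat_lit 5))) (nat_lit 31)
noncomputable def cvc0Qd : ℕ := nat_lit 0x90ceda7480f05026b03100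
noncomputable def cvc0Q (u : ℕ) : ℕ := Nat.land (Nat.shiftRight cvc0Qd (Nat.mul u (nat_lit 4))) (nat_lit 15)
noncomputable def cvc0 : H16.Lev := ⟨16, 4, cvc0D, cvc0P, cvc0Q⟩
noncomputable def cvtn0Fd : ℕ := nat_lit 0x24364
noncomputable def cvtn0F (u : ℕ) : ℕ := Nat.land (Nat.shiftRight cvtn0Fd (Nat.mul u (nat_lit 1))) (nat_lit 1)
noncomputable def cvtn0 : Nd := ⟨cvtn0F, (nat_lit 4), (nat_lit 4), [[nat_lit 0]], [((nat_lit 0), [])], []⟩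
noncomputable def nvW : List (List (List ℕ)) := [[[nat_lit 0],
  [nat_lit 1],
  [nat_lit 1, nat_lit 2],
  [nat_lit 0, nat_lit 3]], [[nat_lit 0],
  [nat_lit 1],
  [nat_lit 0, nat_lit 2],
  [nat_lit 0, nat_lit 1, nat_lit 3]], [[nat_lit 0],
  [nat_lit 1],
  [nat_lit 0, nat_lit 2, nat_lit 3],
  [nat_lit 0, nat_lit 2]], [[nat_lit 2, nat_lit 3],
  [nat_lit 0, nat_lit 1, nat_lit 2, nat_lit 3],
  [nat_lit 0, nat_lit 1, nat_lit 2],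
  [nat_lit 0]], [[nat_lit 1],
  [nat_lit 0],
  [nat_lit 3],
  [nat_lit 2]]]
noncomputable def d_W : List (List ℕ) := [[nat_lit 0, nat_lit 2, nat_lit 3, nat_lit 4, nat_lit 6, nat_lit 2, nat_lit 7, nat_lit 6, nat_lit 0, nat_lit 6, nat_lit 3, nat_lit 4],
  [nat_lit 4, nat_lit 7, nat_lit 0, nat_lit 6, nat_lit 0, nat_lit 7, nat_lit 6, nat_lit 0, nat_lit 2, nat_lit 6, nat_lit 8, nat_lit 7, nat_lit 6, nat_lit 1, nat_lit 7],
  [nat_lit 1, nat_lit 6, nat_lit 0, nat_lit 7, nat_lit 6, nat_lit 1, nat_lit 7, nat_lit 6, nat_lit 8, nat_lit 7, nat_lit 6, nat_lit 0]]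
noncomputable def d_P : ℕ → ℕ → ℕ := wdsP H15.MM23.P d_W
noncomputable def cdth_W : List (List ℕ) := [[nat_lit 1, nat_lit 4, nat_lit 6, nat_lit 1, nat_lit 7, nat_lit 6, nat_lit 1, nat_lit 8, nat_lit 9, nat_lit 8, nat_lit 7, nat_lit 6, nat_lit 0, nat_lit 1, nat_lit 3],
  [nat_lit 3, nat_lit 5, nat_lit 6, nat_lit 2, nat_lit 3, nat_lit 8, nat_lit 9, nat_lit 8],
  [nat_lit 6, nat_lit 9, nat_lit 0, nat_lit 4, nat_lit 7, nat_lit 6, nat_lit 1, nat_lit 7, nat_lit 6, nat_lit 8, nat_lit 7, nat_lit 6, nat_lit 0, nat_lit 9, nat_lit 6],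
  [nat_lit 1, nat_lit 4, nat_lit 6, nat_lit 3, nat_lit 7, nat_lit 6, nat_lit 1, nat_lit 2, nat_lit 8, nat_lit 9, nat_lit 8, nat_lit 6],
  [nat_lit 7, nat_lit 6, nat_lit 9, nat_lit 8, nat_lit 7, nat_lit 6, nat_lit 0, nat_lit 1, nat_lit 3, nat_lit 6, nat_lit 3, nat_lit 9],
  [nat_lit 3, nat_lit 5, nat_lit 7, nat_lit 6, nat_lit 1, nat_lit 2, nat_lit 8, nat_lit 9, nat_lit 8, nat_lit 7],
  [nat_lit 0],
  [nat_lit 1],
  [nat_lit 2],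
  [nat_lit 3],
  [nat_lit 4],
  [nat_lit 5],
  [nat_lit 6],
  [nat_lit 7],
  [nat_lit 8],
  [nat_lit 9]]
noncomputable def cdth_P : ℕ → ℕ → ℕ := wdsP H15.MM23.P cdth_W
noncomputable def cdtl0Dd : ℕ := nat_lit 0x549c8b6d6133887978684a56484712102314151d0f0e00
noncomputable def cdtl0D (u : ℕ) : ℕ := Nat.land (Nat.shiftRight cdtl0Dd (Nat.mul u (nat_lit 8))) (nat_lit 255)
noncomputable def cdtl0Pd : ℕ := nat_lit 0x3a367969584d646b1324194718041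
noncomputable def cdtl0P (u : ℕ) : ℕ := Nat.land (Nat.shiftRight cdtl0Pd (Nat.mul u (nat_lit 5))) (nat_lit 31)
noncomputable def cdtl0Qd : ℕ := nat_lit 0x5211722af9d96a6952721a4c18402
noncomputable def cdtl0Q (u : ℕ) : ℕ := Nat.land (Nat.shiftRight cdtl0Qd (Nat.mul u (nat_lit 5))) (nat_lit 31)
noncomputable def cdtl0 : H16.Lev := ⟨23, 16, cdtl0D, cdtl0P, cdtl0Q⟩
noncomputable def cdtl1Dd : ℕ := nat_lit 0x249e3e4aec36d39ab434cd2a42e58589101c300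
noncomputable def cdtl1D (u : ℕ) : ℕ := Nat.land (Nat.shiftRight cdtl1Dd (Nat.mul u (nat_lit 7))) (nat_lit 127)
noncomputable def cdtl1Pd : ℕ := nat_lit 0x408b9962ad2f1d613390d2a214d
noncomputable def cdtl1P (u : ℕ) : ℕ := Nat.land (Nat.shiftRight cdtl1Pd (Nat.mul u (nat_lit 5))) (nat_lit 31)
noncomputable def cdtl1Qd : ℕ := nat_lit 0x41434126964811705a2395e65d414
noncomputable def cdtl1Q (u : ℕ) : ℕ := Nat.land (Nat.shiftRight cdtl1Qd (Nat.mul u (nat_lit 5))) (nat_lit 31)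
noncomputable def cdtl1 : H16.Lev := ⟨22, 14, cdtl1D, cdtl1P, cdtl1Q⟩
noncomputable def cdtl2Dd : ℕ := nat_lit 0x39b64a18a5c8525955cf44818a2c7140
noncomputable def cdtl2D (u : ℕ) : ℕ := Nat.land (Nat.shiftRight cdtl2Dd (Nat.mul u (nat_lit 6))) (nat_lit 63)
noncomputable def cdtl2Pd : ℕ := nat_lit 0x4a5a0c9ba254d5661c90a3804f
noncomputable def cdtl2P (u : ℕ) : ℕ := Nat.land (Nat.shiftRight cdtl2Pd (Nat.mul u (nat_lit 5))) (nat_lit 31)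
noncomputable def cdtl2Qd : ℕ := nat_lit 0x4953799b103810491651a19438402
noncomputable def cdtl2Q (u : ℕ) : ℕ := Nat.land (Nat.shiftRight cdtl2Qd (Nat.mul u (nat_lit 5))) (nat_lit 31)
noncomputable def cdtl2 : H16.Lev := ⟨21, 6, cdtl2D, cdtl2P, cdtl2Q⟩
noncomputable def cdtl3Dd : ℕ := nat_lit 0xb3da5e89490f4df69228d2482c40c0
noncomputable def cdtl3D (u : ℕ) : ℕ := Nat.land (Nat.shiftRight cdtl3Dd (Nat.mul u (nat_lit 6))) (nat_lit 63)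
noncomputable def cdtl3Pd : ℕ := nat_lit 0x30e092b007a3a5614d0a8d48b
noncomputable def cdtl3P (u : ℕ) : ℕ := Nat.land (Nat.shiftRight cdtl3Pd (Nat.mul u (nat_lit 5))) (nat_lit 31)
noncomputable def cdtl3Qd : ℕ := nat_lit 0x204b324710280e0120564de191c0d
noncomputable def cdtl3Q (u : ℕ) : ℕ := Nat.land (Nat.shiftRight cdtl3Qd (Nat.mul u (nat_lit 5))) (nat_lit 31)
noncomputable def cdtl3 : H16.Lev := ⟨20, 5, cdtl3D, cdtl3P, cdtl3Q⟩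
noncomputable def cdtl4Dd : ℕ := nat_lit 0xfef19a3e0c5a8c518820
noncomputable def cdtl4D (u : ℕ) : ℕ := Nat.land (Nat.shiftRight cdtl4Dd (Nat.mul u (nat_lit 5))) (nat_lit 31)
noncomputable def cdtl4Pd : ℕ := nat_lit 0x34900b1462850f54c66e
noncomputable def cdtl4P (u : ℕ) : ℕ := Nat.land (Nat.shiftRight cdtl4Pd (Nat.mul u (nat_lit 5))) (nat_lit 31)
noncomputable def cdtl4Qd : ℕ := nat_lit 0xb461e270000003d5fa0980c
noncomputable def cdtl4Q (u : ℕ) : ℕ := Nat.land (Nat.shiftRight cdtl4Qd (Nat.mul u (nat_lit 4))) (nat_lit 15)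
noncomputable def cdtl4 : H16.Lev := ⟨16, 3, cdtl4D, cdtl4P, cdtl4Q⟩
noncomputable def cdtl5Dd : ℕ := nat_lit 4
noncomputable def cdtl5D (u : ℕ) : ℕ := Nat.land (Nat.shiftRight cdtl5Dd (Nat.mul u (nat_lit 1))) (nat_lit 1)
noncomputable def cdtl5Pd : ℕ := nat_lit 0x44a7
noncomputable def cdtl5P (u : ℕ) : ℕ := Nat.land (Nat.shiftRight cdtl5Pd (Nat.mul u (nat_lit 5))) (nat_lit 31)
noncomputable def cdtl5Qd : ℕ := nat_lit 0x800000400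
noncomputable def cdtl5Q (u : ℕ) : ℕ := Nat.land (Nat.shiftRight cdtl5Qd (Nat.mul u (nat_lit 2))) (nat_lit 3)
noncomputable def cdtl5 : H16.Lev := ⟨3, 1, cdtl5D, cdtl5P, cdtl5Q⟩
noncomputable def cde_W : List (List ℕ) := [[nat_lit 3, nat_lit 5, nat_lit 6, nat_lit 7, nat_lit 6, nat_lit 8, nat_lit 7, nat_lit 6, nat_lit 3],
  [nat_lit 4, nat_lit 0, nat_lit 2, nat_lit 6, nat_lit 0, nat_lit 7, nat_lit 6, nat_lit 0, nat_lit 2, nat_lit 8, nat_lit 7, nat_lit 6, nat_lit 1, nat_lit 7]]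
noncomputable def cde_P : ℕ → ℕ → ℕ := wdsP H15.MM23.P cde_W
noncomputable def cdc0Dd : ℕ := nat_lit 0xd0
noncomputable def cdc0D (u : ℕ) : ℕ := Nat.land (Nat.shiftRight cdc0Dd (Nat.mul u (nat_lit 2))) (nat_lit 3)
noncomputable def cdc0Pd : ℕ := nat_lit 0x5f71
noncomputable def cdc0P (u : ℕ) : ℕ := Nat.land (Nat.shiftRight cdc0Pd (Nat.mul u (nat_lit 4))) (nat_lit 15)
noncomputable def cdc0Qd : ℕ := nat_lit 0x80004c00
noncomputable def cdc0Q (u : ℕ) : ℕ := Nat.land (Nat.shiftRight cdc0Qd (Nat.mul u (nat_lit 2))) (nat_lit 3)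
noncomputable def cdc0 : H16.Lev := ⟨4, 2, cdc0D, cdc0P, cdc0Q⟩
noncomputable def cdtn0Fd : ℕ := nat_lit 0xa900d4d925d248448
noncomputable def cdtn0F (u : ℕ) : ℕ := Nat.land (Nat.shiftRight cdtn0Fd (Nat.mul u (nat_lit 3))) (nat_lit 7)
noncomputable def cdtn0 : Nd := ⟨cdtn0F, (nat_lit 2), (nat_lit 2), [[nat_lit 0],
  [nat_lit 2]], [((nat_lit 0), [])], []⟩
noncomputable def b_W : List (List ℕ) := [[nat_lit 5, nat_lit 3, nat_lit 7],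
  [nat_lit 3, nat_lit 6, nat_lit 7, nat_lit 8, nat_lit 7, nat_lit 6, nat_lit 3],
  [nat_lit 1, nat_lit 3, nat_lit 5, nat_lit 6, nat_lit 0, nat_lit 3, nat_lit 4, nat_lit 7, nat_lit 6, nat_lit 1, nat_lit 3],
  [nat_lit 7, nat_lit 1, nat_lit 5, nat_lit 6, nat_lit 7, nat_lit 6, nat_lit 8, nat_lit 7, nat_lit 6, nat_lit 1, nat_lit 7]]
noncomputable def b_P : ℕ → ℕ → ℕ := wdsP H15.MM23.P b_W
noncomputable def cbth_W : List (List ℕ) := [[nat_lit 2, nat_lit 4, nat_lit 6, nat_lit 0, nat_lit 3, nat_lit 7, nat_lit 8, nat_lit 9, nat_lit 8, nat_lit 7, nat_lit 6, nat_lit 0, nat_lit 1],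
  [nat_lit 0, nat_lit 5, nat_lit 6, nat_lit 0, nat_lit 3, nat_lit 4, nat_lit 7, nat_lit 6, nat_lit 0],
  [nat_lit 1, nat_lit 3, nat_lit 5, nat_lit 6, nat_lit 0, nat_lit 3, nat_lit 7, nat_lit 6, nat_lit 1, nat_lit 7, nat_lit 1],
  [nat_lit 1, nat_lit 2, nat_lit 5, nat_lit 8, nat_lit 9, nat_lit 8, nat_lit 7, nat_lit 6, nat_lit 0],
  [nat_lit 6],
  [nat_lit 0],
  [nat_lit 1],
  [nat_lit 2],
  [nat_lit 3],
  [nat_lit 4],
  [nat_lit 5],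
  [nat_lit 7],
  [nat_lit 8],
  [nat_lit 9]]
noncomputable def cbth_P : ℕ → ℕ → ℕ := wdsP H15.MM23.P cbth_W
noncomputable def cbtl0Dd : ℕ := nat_lit 0x65ba2c82774f5c442b4c424b403f3c1c2e100f190d0c00
noncomputable def cbtl0D (u : ℕ) : ℕ := Nat.land (Nat.shiftRight cbtl0Dd (Nat.mul u (nat_lit 8))) (nat_lit 255)
noncomputable def cbtl0Pd : ℕ := nat_lit 0x45c92ce07b2de664a8822aad18041
noncomputable def cbtl0P (u : ℕ) : ℕ := Nat.land (Nat.shiftRight cbtl0Pd (Nat.mul u (nat_lit 5))) (nat_lit 31)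
noncomputable def cbtl0Qd : ℕ := nat_lit 0x3ca992ad16d48b71a888326718402
noncomputable def cbtl0Q (u : ℕ) : ℕ := Nat.land (Nat.shiftRight cbtl0Qd (Nat.mul u (nat_lit 5))) (nat_lit 31)
noncomputable def cbtl0 : H16.Lev := ⟨23, 14, cbtl0D, cbtl0P, cbtl0Q⟩
noncomputable def cbtl1Dd : ℕ := nat_lit 0x87835dac232242412015143413121c10090807060500
noncomputable def cbtl1D (u : ℕ) : ℕ := Nat.land (Nat.shiftRight cbtl1Dd (Nat.mul u (nat_lit 8))) (nat_lit 255)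
noncomputable def cbtl1Pd : ℕ := nat_lit 0x27150f5d0d368eb08d88a62647
noncomputable def cbtl1P (u : ℕ) : ℕ := Nat.land (Nat.shiftRight cbtl1Pd (Nat.mul u (nat_lit 5))) (nat_lit 31)
noncomputable def cbtl1Qd : ℕ := nat_lit 0x192e604e884d63790510364555015
noncomputable def cbtl1Q (u : ℕ) : ℕ := Nat.land (Nat.shiftRight cbtl1Qd (Nat.mul u (nat_lit 5))) (nat_lit 31)
noncomputable def cbtl1 : H16.Lev := ⟨22, 12, cbtl1D, cbtl1P, cbtl1Q⟩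
noncomputable def cbtl2Dd : ℕ := nat_lit 0x599f290b12c3d397245450c1a609850e18200
noncomputable def cbtl2D (u : ℕ) : ℕ := Nat.land (Nat.shiftRight cbtl2Dd (Nat.mul u (nat_lit 7))) (nat_lit 127)
noncomputable def cbtl2Pd : ℕ := nat_lit 0xb20e1162a4604d22b15146d5cf
noncomputable def cbtl2P (u : ℕ) : ℕ := Nat.land (Nat.shiftRight cbtl2Pd (Nat.mul u (nat_lit 5))) (nat_lit 31)
noncomputable def cbtl2Qd : ℕ := nat_lit 0x1c44536110046fa3925030d39200b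
noncomputable def cbtl2Q (u : ℕ) : ℕ := Nat.land (Nat.shiftRight cbtl2Qd (Nat.mul u (nat_lit 5))) (nat_lit 31)
noncomputable def cbtl2 : H16.Lev := ⟨21, 5, cbtl2D, cbtl2P, cbtl2Q⟩
noncomputable def cbtl3Dd : ℕ := nat_lit 0x8e997ab4e68a161838a8814342060e14180
noncomputable def cbtl3D (u : ℕ) : ℕ := Nat.land (Nat.shiftRight cbtl3Dd (Nat.mul u (nat_lit 7))) (nat_lit 127)
noncomputable def cbtl3Pd : ℕ := nat_lit 0x40cc02098ba35335563275a05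
noncomputable def cbtl3P (u : ℕ) : ℕ := Nat.land (Nat.shiftRight cbtl3Pd (Nat.mul u (nat_lit 5))) (nat_lit 31)
noncomputable def cbtl3Qd : ℕ := nat_lit 0x8cb410a100d4d61d330440f93810
noncomputable def cbtl3Q (u : ℕ) : ℕ := Nat.land (Nat.shiftRight cbtl3Qd (Nat.mul u (nat_lit 5))) (nat_lit 31)
noncomputable def cbtl3 : H16.Lev := ⟨20, 4, cbtl3D, cbtl3P, cbtl3Q⟩
noncomputable def cbtl4Dd : ℕ := nat_lit 0xaf6f6a460e4b4c328820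
noncomputable def cbtl4D (u : ℕ) : ℕ := Nat.land (Nat.shiftRight cbtl4Dd (Nat.mul u (nat_lit 5))) (nat_lit 31)
noncomputable def cbtl4Pd : ℕ := nat_lit 0x32d9380e36a492a755a2
noncomputable def cbtl4P (u : ℕ) : ℕ := Nat.land (Nat.shiftRight cbtl4Pd (Nat.mul u (nat_lit 5))) (nat_lit 31)
noncomputable def cbtl4Qd : ℕ := nat_lit 0x827c69b031de4500f00a000
noncomputable def cbtl4Q (u : ℕ) : ℕ := Nat.land (Nat.shiftRight cbtl4Qd (Nat.mul u (nat_lit 4))) (nat_lit 15)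
noncomputable def cbtl4 : H16.Lev := ⟨16, 3, cbtl4D, cbtl4P, cbtl4Q⟩
noncomputable def cbtl5Dd : ℕ := nat_lit 4
noncomputable def cbtl5D (u : ℕ) : ℕ := Nat.land (Nat.shiftRight cbtl5Dd (Nat.mul u (nat_lit 1))) (nat_lit 1)
noncomputable def cbtl5Pd : ℕ := nat_lit 0x26a3
noncomputable def cbtl5P (u : ℕ) : ℕ := Nat.land (Nat.shiftRight cbtl5Pd (Nat.mul u (nat_lit 5))) (nat_lit 31)
noncomputable def cbtl5Qd : ℕ := nat_lit 0x40000080000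
noncomputable def cbtl5Q (u : ℕ) : ℕ := Nat.land (Nat.shiftRight cbtl5Qd (Nat.mul u (nat_lit 2))) (nat_lit 3)
noncomputable def cbtl5 : H16.Lev := ⟨3, 1, cbtl5D, cbtl5P, cbtl5Q⟩
noncomputable def cbe_W : List (List ℕ) := [[nat_lit 2, nat_lit 0, nat_lit 3, nat_lit 6, nat_lit 0, nat_lit 7, nat_lit 6, nat_lit 1, nat_lit 2, nat_lit 5, nat_lit 6],
  [nat_lit 7, nat_lit 3, nat_lit 4],
  [nat_lit 3, nat_lit 6, nat_lit 7, nat_lit 8, nat_lit 7, nat_lit 6, nat_lit 3],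
  [nat_lit 8, nat_lit 7, nat_lit 1, nat_lit 4, nat_lit 6, nat_lit 1, nat_lit 7, nat_lit 8]]
noncomputable def cbe_P : ℕ → ℕ → ℕ := wdsP H15.MM23.P cbe_W
noncomputable def cbc4Dd : ℕ := nat_lit 0x84
noncomputable def cbc4D (u : ℕ) : ℕ := Nat.land (Nat.shiftRight cbc4Dd (Nat.mul u (nat_lit 2))) (nat_lit 3)
noncomputable def cbc4Pd : ℕ := nat_lit 0x4d462
noncomputable def cbc4P (u : ℕ) : ℕ := Nat.land (Nat.shiftRight cbc4Pd (Nat.mul u (nat_lit 5))) (nat_lit 31)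
noncomputable def cbc4Qd : ℕ := nat_lit 0x800000c0040
noncomputable def cbc4Q (u : ℕ) : ℕ := Nat.land (Nat.shiftRight cbc4Qd (Nat.mul u (nat_lit 2))) (nat_lit 3)
noncomputable def cbc4 : H16.Lev := ⟨4, 2, cbc4D, cbc4P, cbc4Q⟩
noncomputable def cbtn0Fd : ℕ := nat_lit 0x6dc422841408
noncomputable def cbtn0F (u : ℕ) : ℕ := Nat.land (Nat.shiftRight cbtn0Fd (Nat.mul u (nat_lit 3))) (nat_lit 7)
noncomputable def cbtn0 : Nd := ⟨cbtn0F, (nat_lit 2), (nat_lit 2), [[nat_lit 1]], [((nat_lit 0), [])], []⟩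
noncomputable def cbc0Dd : ℕ := nat_lit 0xed0
noncomputable def cbc0D (u : ℕ) : ℕ := Nat.land (Nat.shiftRight cbc0Dd (Nat.mul u (nat_lit 3))) (nat_lit 7)
noncomputable def cbc0Pd : ℕ := nat_lit 0x5f71
noncomputable def cbc0P (u : ℕ) : ℕ := Nat.land (Nat.shiftRight cbc0Pd (Nat.mul u (nat_lit 4))) (nat_lit 15)
noncomputable def cbc0Qd : ℕ := nat_lit 0x80004c00
noncomputable def cbc0Q (u : ℕ) : ℕ := Nat.land (Nat.shiftRight cbc0Qd (Nat.mul u (nat_lit 2))) (nat_lit 3)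
noncomputable def cbc0 : H16.Lev := ⟨4, 4, cbc0D, cbc0P, cbc0Q⟩
noncomputable def cbtn1Fd : ℕ := nat_lit 0x6780a604505517111415110
noncomputable def cbtn1F (u : ℕ) : ℕ := Nat.land (Nat.shiftRight cbtn1Fd (Nat.mul u (nat_lit 4))) (nat_lit 15)
noncomputable def cbtn1 : Nd := ⟨cbtn1F, (nat_lit 4), (nat_lit 4), [[nat_lit 0],
  [nat_lit 1]], [((nat_lit 0), [])], []⟩
noncomputable def gwL : List (List ℕ) := [[nat_lit 0],
  [nat_lit 1]]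
noncomputable def gaL : List (List ℕ) := [[nat_lit 1, nat_lit 2, nat_lit 4],
  [nat_lit 0, nat_lit 1, nat_lit 2, nat_lit 4],
  [nat_lit 0, nat_lit 2],
  [nat_lit 2, nat_lit 4]]
noncomputable def gbL : List (List ℕ) := [[nat_lit 1, nat_lit 2, nat_lit 5, nat_lit 6],
  [nat_lit 0, nat_lit 1, nat_lit 2, nat_lit 5, nat_lit 6],
  [nat_lit 0, nat_lit 1, nat_lit 3, nat_lit 5, nat_lit 6],
  [nat_lit 1, nat_lit 2, nat_lit 3]]
noncomputable def s_W : List (List ℕ) := [[nat_lit 3, nat_lit 5, nat_lit 6, nat_lit 7, nat_lit 6, nat_lit 8, nat_lit 7, nat_lit 6, nat_lit 3],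
  [nat_lit 7, nat_lit 0, nat_lit 4, nat_lit 6, nat_lit 0, nat_lit 7, nat_lit 6, nat_lit 0, nat_lit 8, nat_lit 9, nat_lit 8, nat_lit 7, nat_lit 6, nat_lit 3, nat_lit 8],
  [nat_lit 5, nat_lit 3, nat_lit 7],
  [nat_lit 5, nat_lit 3, nat_lit 7],
  [nat_lit 6, nat_lit 3, nat_lit 7, nat_lit 6, nat_lit 8, nat_lit 7, nat_lit 6, nat_lit 2, nat_lit 3, nat_lit 9, nat_lit 8, nat_lit 7, nat_lit 6]]
noncomputable def s_P : ℕ → ℕ → ℕ := wdsP H15.MM23.P s_W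
noncomputable def f_W : List (List ℕ) := [[nat_lit 3, nat_lit 5, nat_lit 6, nat_lit 7, nat_lit 6, nat_lit 8, nat_lit 7, nat_lit 6, nat_lit 3],
  [nat_lit 7, nat_lit 1, nat_lit 6, nat_lit 0, nat_lit 1, nat_lit 8, nat_lit 3],
  [nat_lit 6, nat_lit 0, nat_lit 2, nat_lit 7, nat_lit 6, nat_lit 0, nat_lit 2, nat_lit 3, nat_lit 8, nat_lit 7, nat_lit 6, nat_lit 9, nat_lit 8, nat_lit 7, nat_lit 6, nat_lit 0, nat_lit 1],
  [nat_lit 0, nat_lit 8, nat_lit 5, nat_lit 1, nat_lit 6, nat_lit 0, nat_lit 1, nat_lit 3, nat_lit 7, nat_lit 6, nat_lit 2, nat_lit 8, nat_lit 7, nat_lit 6, nat_lit 1, nat_lit 9, nat_lit 8, nat_lit 7, nat_lit 6, nat_lit 1, nat_lit 2]]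
noncomputable def f_P : ℕ → ℕ → ℕ := wdsP H15.MM23.P f_W

theorem zU_k : Nat.add (ltAll 7 [nat_lit 0]) (sumL (fun β => Nat.xor (H15.IC.M23.c0ax_P 0 β) (apW H15.IC.M23.p2t_P [nat_lit 0] β)) H15.MM23.B) = 0 := by decide +kernel
theorem Uz_k_0 : allZ (cmEnt H15.IC.M23.p2t_P H15.IC.M23.c0ax_P (nat_lit 7) H15.MM23.B (nat_lit 0)) (nat_lit 0) (nat_lit 7) = true := by decide +kernel
theorem z1_k : 1 < 24 ∧ ltAll 1 (List.replicate 1 0) = 0 ∧ ltAll 1 [] = 0 ∧ apW H15.IC.M23.c0ax_P (List.replicate 1 0) 1 ≠ apW H15.IC.M23.c0ax_P [] 1 := by decide +kernel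
theorem cuth_lt : H16.allL (ltAll 10) cuth_W = true := by decide +kernel
theorem cutl0_e_0 : allZ (dent cutl0 cuth_P (nat_lit 24)) (nat_lit 0) (nat_lit 22) = true := by decide +kernel
theorem cutl0_h : 0 < cutl0.n ∧ 0 < cutl0.K ∧ cutl0.Pt 0 < 24 ∧ cutl0.Q (cutl0.Pt 0) = 0 := by decide +kernel
theorem cutl1_e_0 : allZ (dent cutl1 cuth_P (nat_lit 24)) (nat_lit 0) (nat_lit 21) = true := by decide +kernel
theorem cutl1_h : 0 < cutl1.n ∧ 0 < cutl1.K ∧ cutl1.Pt 0 < 24 ∧ cutl1.Q (cutl1.Pt 0) = 0 := by decide +kernel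
theorem cutl2_e_0 : allZ (dent cutl2 cuth_P (nat_lit 24)) (nat_lit 0) (nat_lit 20) = true := by decide +kernel
theorem cutl2_h : 0 < cutl2.n ∧ 0 < cutl2.K ∧ cutl2.Pt 0 < 24 ∧ cutl2.Q (cutl2.Pt 0) = 0 := by decide +kernel
theorem cutl3_e_0 : allZ (dent cutl3 cuth_P (nat_lit 24)) (nat_lit 0) (nat_lit 19) = true := by decide +kernel
theorem cutl3_h : 0 < cutl3.n ∧ 0 < cutl3.K ∧ cutl3.Pt 0 < 24 ∧ cutl3.Q (cutl3.Pt 0) = 0 := by decide +kernel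
theorem cutl4_e_0 : allZ (dent cutl4 cuth_P (nat_lit 24)) (nat_lit 0) (nat_lit 2) = true := by decide +kernel
theorem cutl4_h : 0 < cutl4.n ∧ 0 < cutl4.K ∧ cutl4.Pt 0 < 24 ∧ cutl4.Q (cutl4.Pt 0) = 0 := by decide +kernel
theorem cutl5_e_0 : allZ (dent cutl5 cuth_P (nat_lit 24)) (nat_lit 0) (nat_lit 15) = true := by decide +kernel
theorem cutl5_h : 0 < cutl5.n ∧ 0 < cutl5.K ∧ cutl5.Pt 0 < 24 ∧ cutl5.Q (cutl5.Pt 0) = 0 := by decide +kernel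
theorem cut_f5 : (Nat.ble cutl5.K 16 && Nat.ble (topK []) cutl5.K && fixLetters cuth_P (topK []) (cutl5.Pt 0)) = true := by decide +kernel
theorem cut_f4 : (Nat.ble cutl4.K 16 && Nat.ble (topK [cutl5]) cutl4.K && fixLetters cuth_P (topK [cutl5]) (cutl4.Pt 0)) = true := by decide +kernel
theorem cut_f3 : (Nat.ble cutl3.K 16 && Nat.ble (topK [cutl4, cutl5]) cutl3.K && fixLetters cuth_P (topK [cutl4, cutl5]) (cutl3.Pt 0)) = true := by decide +kernel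
theorem cut_f2 : (Nat.ble cutl2.K 16 && Nat.ble (topK [cutl3, cutl4, cutl5]) cutl2.K && fixLetters cuth_P (topK [cutl3, cutl4, cutl5]) (cutl2.Pt 0)) = true := by decide +kernel
theorem cut_f1 : (Nat.ble cutl1.K 16 && Nat.ble (topK [cutl2, cutl3, cutl4, cutl5]) cutl1.K && fixLetters cuth_P (topK [cutl2, cutl3, cutl4, cutl5]) (cutl1.Pt 0)) = true := by decide +kernel
theorem cut_f0 : (Nat.ble cutl0.K 16 && Nat.ble (topK [cutl1, cutl2, cutl3, cutl4, cutl5]) cutl0.K && fixLetters cuth_P (topK [cutl1, cutl2, cutl3, cutl4, cutl5]) (cutl0.Pt 0)) = true := by decide +kernel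
theorem cut_c : chainCard [cutl0, cutl1, cutl2, cutl3, cutl4, cutl5] = 10200960 := by decide +kernel
theorem cue_lt : H16.allL (ltAll 10) cue_W = true := by decide +kernel
theorem cu_f5 : (Nat.ble cutl5.K 16 && Nat.blt (nat_lit 1) 24 && fixLetters cuth_P cutl5.K (nat_lit 1) && Nat.beq (ltAll 7 [nat_lit 2]) 0 && Nat.beq (apW H15.IC.M23.p2t_P [nat_lit 2] (nat_lit 1)) (cutl5.Pt 0)) = true := by decide +kernel
theorem cu_f4 : (Nat.ble cutl4.K 16 && Nat.blt (nat_lit 1) 24 && fixLetters cuth_P cutl4.K (nat_lit 1) && Nat.beq (ltAll 7 [nat_lit 1]) 0 && Nat.beq (apW H15.IC.M23.p2t_P [nat_lit 1] (nat_lit 1)) (cutl4.Pt 0)) = true := by decide +kernel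
theorem cu_f3 : (Nat.ble cutl3.K 16 && Nat.blt (nat_lit 1) 24 && fixLetters cuth_P cutl3.K (nat_lit 1) && Nat.beq (ltAll 7 [nat_lit 3]) 0 && Nat.beq (apW H15.IC.M23.p2t_P [nat_lit 3] (nat_lit 1)) (cutl3.Pt 0)) = true := by decide +kernel
theorem cu_f2 : (Nat.ble cutl2.K 16 && Nat.blt (nat_lit 1) 24 && fixLetters cuth_P cutl2.K (nat_lit 1) && Nat.beq (ltAll 7 [nat_lit 0]) 0 && Nat.beq (apW H15.IC.M23.p2t_P [nat_lit 0] (nat_lit 1)) (cutl2.Pt 0)) = true := by decide +kernel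
theorem cu_f1 : (Nat.ble cutl1.K 16 && Nat.blt (nat_lit 1) 24 && fixLetters cuth_P cutl1.K (nat_lit 1) && Nat.beq (ltAll 7 [nat_lit 5]) 0 && Nat.beq (apW H15.IC.M23.p2t_P [nat_lit 5] (nat_lit 1)) (cutl1.Pt 0)) = true := by decide +kernel
theorem cuc0_e_0 : allZ (dent cuc0 cue_P (nat_lit 24)) (nat_lit 0) (nat_lit 1) = true := by decide +kernel
theorem cuc0_h : 0 < cuc0.n ∧ 0 < cuc0.K ∧ cuc0.Pt 0 < 24 ∧ cuc0.Q (cuc0.Pt 0) = 0 := by decide +kernel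
theorem cutn0_0 : (Nat.ble cutl0.K 16 && Nat.beq (ltAll 24 []) 0 && kChk cue_P H15.IC.M23.p2t_P cutn0.Kn 7 H15.MM23.B [] && H16.allL (ltAll 7) cutn0.pre && planOK cuth_P H15.IC.M23.p2t_P 7 (cutl0.Pt 0) cutn0.plan [cutl0, cutl1, cutl2, cutl3, cutl4, cutl5]) = true := by decide +kernel
theorem cutn0_1_0 : allZ (cutn0.ent H15.MM23.P cuth_P H15.IC.M23.p2t_P H15.IC.M23.p2t_P cue_P (nat_lit 10) (nat_lit 7) H15.MM23.B cutl0 [cutl1, cutl2, cutl3, cutl4, cutl5] (memO cuc0)) (nat_lit 0) (nat_lit 23) = true := by decide +kernel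
theorem cu_f0 : (Nat.ble cuc0.K 1 && Nat.ble (topK []) cuc0.K && Nat.beq (cuc0.Pt 0) (cutl0.Pt 0) && Nat.beq (ltAll 24 []) 0 && kChk cue_P H15.IC.M23.p2t_P cuc0.K 7 H15.MM23.B []) = true := by decide +kernel
theorem cu_c : chainCard [cuc0] = 2 ∧ topK [cuc0] = 1 := by decide +kernel
theorem v_lt : H16.allL (ltAll 10) v_W = true := by decide +kernel
theorem cvth_lt : H16.allL (ltAll 10) cvth_W = true := by decide +kernel
theorem cvtl0_e_0 : allZ (dent cvtl0 cvth_P (nat_lit 24)) (nat_lit 0) (nat_lit 22) = true := by decide +kernel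
theorem cvtl0_h : 0 < cvtl0.n ∧ 0 < cvtl0.K ∧ cvtl0.Pt 0 < 24 ∧ cvtl0.Q (cvtl0.Pt 0) = 0 := by decide +kernel
theorem cvtl1_e_0 : allZ (dent cvtl1 cvth_P (nat_lit 24)) (nat_lit 0) (nat_lit 21) = true := by decide +kernel
theorem cvtl1_h : 0 < cvtl1.n ∧ 0 < cvtl1.K ∧ cvtl1.Pt 0 < 24 ∧ cvtl1.Q (cvtl1.Pt 0) = 0 := by decide +kernel
theorem cvtl2_e_0 : allZ (dent cvtl2 cvth_P (nat_lit 24)) (nat_lit 0) (nat_lit 20) = true := by decide +kernel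
theorem cvtl2_h : 0 < cvtl2.n ∧ 0 < cvtl2.K ∧ cvtl2.Pt 0 < 24 ∧ cvtl2.Q (cvtl2.Pt 0) = 0 := by decide +kernel
theorem cvtl3_e_0 : allZ (dent cvtl3 cvth_P (nat_lit 24)) (nat_lit 0) (nat_lit 19) = true := by decide +kernel
theorem cvtl3_h : 0 < cvtl3.n ∧ 0 < cvtl3.K ∧ cvtl3.Pt 0 < 24 ∧ cvtl3.Q (cvtl3.Pt 0) = 0 := by decide +kernel
theorem cvtl4_e_0 : allZ (dent cvtl4 cvth_P (nat_lit 24)) (nat_lit 0) (nat_lit 2) = true := by decide +kernel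
theorem cvtl4_h : 0 < cvtl4.n ∧ 0 < cvtl4.K ∧ cvtl4.Pt 0 < 24 ∧ cvtl4.Q (cvtl4.Pt 0) = 0 := by decide +kernel
theorem cvtl5_e_0 : allZ (dent cvtl5 cvth_P (nat_lit 24)) (nat_lit 0) (nat_lit 15) = true := by decide +kernel
theorem cvtl5_h : 0 < cvtl5.n ∧ 0 < cvtl5.K ∧ cvtl5.Pt 0 < 24 ∧ cvtl5.Q (cvtl5.Pt 0) = 0 := by decide +kernel
theorem cvt_f5 : (Nat.ble cvtl5.K 15 && Nat.ble (topK []) cvtl5.K && fixLetters cvth_P (topK []) (cvtl5.Pt 0)) = true := by decide +kernel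
theorem cvt_f4 : (Nat.ble cvtl4.K 15 && Nat.ble (topK [cvtl5]) cvtl4.K && fixLetters cvth_P (topK [cvtl5]) (cvtl4.Pt 0)) = true := by decide +kernel
theorem cvt_f3 : (Nat.ble cvtl3.K 15 && Nat.ble (topK [cvtl4, cvtl5]) cvtl3.K && fixLetters cvth_P (topK [cvtl4, cvtl5]) (cvtl3.Pt 0)) = true := by decide +kernel
theorem cvt_f2 : (Nat.ble cvtl2.K 15 && Nat.ble (topK [cvtl3, cvtl4, cvtl5]) cvtl2.K && fixLetters cvth_P (topK [cvtl3, cvtl4, cvtl5]) (cvtl2.Pt 0)) = true := by decide +kernel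
theorem cvt_f1 : (Nat.ble cvtl1.K 15 && Nat.ble (topK [cvtl2, cvtl3, cvtl4, cvtl5]) cvtl1.K && fixLetters cvth_P (topK [cvtl2, cvtl3, cvtl4, cvtl5]) (cvtl1.Pt 0)) = true := by decide +kernel
theorem cvt_f0 : (Nat.ble cvtl0.K 15 && Nat.ble (topK [cvtl1, cvtl2, cvtl3, cvtl4, cvtl5]) cvtl0.K && fixLetters cvth_P (topK [cvtl1, cvtl2, cvtl3, cvtl4, cvtl5]) (cvtl0.Pt 0)) = true := by decide +kernel
theorem cvt_c : chainCard [cvtl0, cvtl1, cvtl2, cvtl3, cvtl4, cvtl5] = 10200960 := by decide +kernel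
theorem cve_lt : H16.allL (ltAll 10) cve_W = true := by decide +kernel
theorem cv_f5 : (Nat.ble cvtl5.K 15 && Nat.blt (nat_lit 1) 24 && fixLetters cvth_P cvtl5.K (nat_lit 1) && Nat.beq (ltAll 4 [nat_lit 1, nat_lit 3]) 0 && Nat.beq (apW v_P [nat_lit 1, nat_lit 3] (nat_lit 1)) (cvtl5.Pt 0)) = true := by decide +kernel
theorem cv_f4 : (Nat.ble cvtl4.K 15 && Nat.blt (nat_lit 1) 24 && fixLetters cvth_P cvtl4.K (nat_lit 1) && Nat.beq (ltAll 4 [nat_lit 2]) 0 && Nat.beq (apW v_P [nat_lit 2] (nat_lit 1)) (cvtl4.Pt 0)) = true := by decide +kernel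
theorem cv_f3 : (Nat.ble cvtl3.K 15 && Nat.blt (nat_lit 1) 24 && fixLetters cvth_P cvtl3.K (nat_lit 1) && Nat.beq (ltAll 4 [nat_lit 3]) 0 && Nat.beq (apW v_P [nat_lit 3] (nat_lit 1)) (cvtl3.Pt 0)) = true := by decide +kernel
theorem cv_f2 : (Nat.ble cvtl2.K 15 && Nat.blt (nat_lit 1) 24 && fixLetters cvth_P cvtl2.K (nat_lit 1) && Nat.beq (ltAll 4 [nat_lit 1]) 0 && Nat.beq (apW v_P [nat_lit 1] (nat_lit 1)) (cvtl2.Pt 0)) = true := by decide +kernel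
theorem cv_f1 : (Nat.ble cvtl1.K 15 && Nat.blt (nat_lit 1) 24 && fixLetters cvth_P cvtl1.K (nat_lit 1) && Nat.beq (ltAll 4 [nat_lit 0]) 0 && Nat.beq (apW v_P [nat_lit 0] (nat_lit 1)) (cvtl1.Pt 0)) = true := by decide +kernel
theorem cvc0_e_0 : allZ (dent cvc0 cve_P (nat_lit 24)) (nat_lit 0) (nat_lit 15) = true := by decide +kernel
theorem cvc0_h : 0 < cvc0.n ∧ 0 < cvc0.K ∧ cvc0.Pt 0 < 24 ∧ cvc0.Q (cvc0.Pt 0) = 0 := by decide +kernel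
theorem cvtn0_0 : (Nat.ble cvtl0.K 15 && Nat.beq (ltAll 24 []) 0 && kChk cve_P v_P cvtn0.Kn 4 H15.MM23.B [] && H16.allL (ltAll 4) cvtn0.pre && planOK cvth_P v_P 4 (cvtl0.Pt 0) cvtn0.plan [cvtl0, cvtl1, cvtl2, cvtl3, cvtl4, cvtl5]) = true := by decide +kernel
theorem cvtn0_1_0 : allZ (cvtn0.ent H15.MM23.P cvth_P v_P v_P cve_P (nat_lit 10) (nat_lit 4) H15.MM23.B cvtl0 [cvtl1, cvtl2, cvtl3, cvtl4, cvtl5] (memO cvc0)) (nat_lit 0) (nat_lit 23) = true := by decide +kernel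
theorem cv_f0 : (Nat.ble cvc0.K 4 && Nat.ble (topK []) cvc0.K && Nat.beq (cvc0.Pt 0) (cvtl0.Pt 0) && Nat.beq (ltAll 24 []) 0 && kChk cve_P v_P cvc0.K 4 H15.MM23.B []) = true := by decide +kernel
theorem cv_c : chainCard [cvc0] = 16 ∧ topK [cvc0] = 4 := by decide +kernel
theorem nv_k_a : allZ2 (nrmEnt v_P H15.IC.M23.c0ace_P (nat_lit 4) H15.MM23.B nvW) (nat_lit 5) (nat_lit 4) = true := by decide +kernel
theorem vz_k_0 : allZ (cmEnt v_P H15.IC.M23.c0ax_P (nat_lit 4) H15.MM23.B (nat_lit 0)) (nat_lit 0) (nat_lit 4) = true := by decide +kernel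
theorem vU_k : allZ (fun a => Nat.add (ltAll 7 (nth [] [[nat_lit 1, nat_lit 2, nat_lit 4],
  [nat_lit 0, nat_lit 1, nat_lit 2, nat_lit 4],
  [nat_lit 0, nat_lit 2],
  [nat_lit 2, nat_lit 4]] a)) (sumL (fun β => Nat.xor (v_P a β) (apW H15.IC.M23.p2t_P (nth [] [[nat_lit 1, nat_lit 2, nat_lit 4],
  [nat_lit 0, nat_lit 1, nat_lit 2, nat_lit 4],
  [nat_lit 0, nat_lit 2],
  [nat_lit 2, nat_lit 4]] a) β)) H15.MM23.B)) 0 4 = true := by decide +kernel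
theorem dk : ∀ b < 7, ∀ a < 7, 4 ≤ b → b < a → ltAll 4 (nth [] (nth [] H15.IC.M23.p2C b) a) = 0 := by decide +kernel
theorem d_lt : H16.allL (ltAll 10) d_W = true := by decide +kernel
theorem dr0_k : eqL H15.IC.M23.p2t_P 7 H15.MM23.B [nat_lit 5, nat_lit 6] [nat_lit 6, nat_lit 5, nat_lit 2, nat_lit 3] = 0 := by decide +kernel
theorem de0_k : Nat.add (ltAll 7 [nat_lit 2, nat_lit 3]) (sumL (fun β => Nat.xor (d_P 0 β) (apW H15.IC.M23.p2t_P [nat_lit 2, nat_lit 3] β)) H15.MM23.B) = 0 := by decide +kernel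
theorem dr1_k : eqL H15.IC.M23.p2t_P 7 H15.MM23.B [nat_lit 3, nat_lit 5] [nat_lit 5, nat_lit 3, nat_lit 1] = 0 := by decide +kernel
theorem de1_k : Nat.add (ltAll 7 [nat_lit 1]) (sumL (fun β => Nat.xor (d_P 1 β) (apW H15.IC.M23.p2t_P [nat_lit 1] β)) H15.MM23.B) = 0 := by decide +kernel
theorem dr2_k : eqL H15.IC.M23.p2t_P 7 H15.MM23.B [nat_lit 4, nat_lit 5] [nat_lit 5, nat_lit 4, nat_lit 0, nat_lit 2] = 0 := by decide +kernel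
theorem de2_k : Nat.add (ltAll 7 [nat_lit 0, nat_lit 2]) (sumL (fun β => Nat.xor (d_P 2 β) (apW H15.IC.M23.p2t_P [nat_lit 0, nat_lit 2] β)) H15.MM23.B) = 0 := by decide +kernel
theorem cdth_lt : H16.allL (ltAll 10) cdth_W = true := by decide +kernel
theorem cdtl0_e_0 : allZ (dent cdtl0 cdth_P (nat_lit 24)) (nat_lit 0) (nat_lit 22) = true := by decide +kernel
theorem cdtl0_h : 0 < cdtl0.n ∧ 0 < cdtl0.K ∧ cdtl0.Pt 0 < 24 ∧ cdtl0.Q (cdtl0.Pt 0) = 0 := by decide +kernel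
theorem cdtl1_e_0 : allZ (dent cdtl1 cdth_P (nat_lit 24)) (nat_lit 0) (nat_lit 21) = true := by decide +kernel
theorem cdtl1_h : 0 < cdtl1.n ∧ 0 < cdtl1.K ∧ cdtl1.Pt 0 < 24 ∧ cdtl1.Q (cdtl1.Pt 0) = 0 := by decide +kernel
theorem cdtl2_e_0 : allZ (dent cdtl2 cdth_P (nat_lit 24)) (nat_lit 0) (nat_lit 20) = true := by decide +kernel
theorem cdtl2_h : 0 < cdtl2.n ∧ 0 < cdtl2.K ∧ cdtl2.Pt 0 < 24 ∧ cdtl2.Q (cdtl2.Pt 0) = 0 := by decide +kernel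
theorem cdtl3_e_0 : allZ (dent cdtl3 cdth_P (nat_lit 24)) (nat_lit 0) (nat_lit 19) = true := by decide +kernel
theorem cdtl3_h : 0 < cdtl3.n ∧ 0 < cdtl3.K ∧ cdtl3.Pt 0 < 24 ∧ cdtl3.Q (cdtl3.Pt 0) = 0 := by decide +kernel
theorem cdtl4_e_0 : allZ (dent cdtl4 cdth_P (nat_lit 24)) (nat_lit 0) (nat_lit 15) = true := by decide +kernel
theorem cdtl4_h : 0 < cdtl4.n ∧ 0 < cdtl4.K ∧ cdtl4.Pt 0 < 24 ∧ cdtl4.Q (cdtl4.Pt 0) = 0 := by decide +kernel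
theorem cdtl5_e_0 : allZ (dent cdtl5 cdth_P (nat_lit 24)) (nat_lit 0) (nat_lit 2) = true := by decide +kernel
theorem cdtl5_h : 0 < cdtl5.n ∧ 0 < cdtl5.K ∧ cdtl5.Pt 0 < 24 ∧ cdtl5.Q (cdtl5.Pt 0) = 0 := by decide +kernel
theorem cdt_f5 : (Nat.ble cdtl5.K 16 && Nat.ble (topK []) cdtl5.K && fixLetters cdth_P (topK []) (cdtl5.Pt 0)) = true := by decide +kernel
theorem cdt_f4 : (Nat.ble cdtl4.K 16 && Nat.ble (topK [cdtl5]) cdtl4.K && fixLetters cdth_P (topK [cdtl5]) (cdtl4.Pt 0)) = true := by decide +kernel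
theorem cdt_f3 : (Nat.ble cdtl3.K 16 && Nat.ble (topK [cdtl4, cdtl5]) cdtl3.K && fixLetters cdth_P (topK [cdtl4, cdtl5]) (cdtl3.Pt 0)) = true := by decide +kernel
theorem cdt_f2 : (Nat.ble cdtl2.K 16 && Nat.ble (topK [cdtl3, cdtl4, cdtl5]) cdtl2.K && fixLetters cdth_P (topK [cdtl3, cdtl4, cdtl5]) (cdtl2.Pt 0)) = true := by decide +kernel
theorem cdt_f1 : (Nat.ble cdtl1.K 16 && Nat.ble (topK [cdtl2, cdtl3, cdtl4, cdtl5]) cdtl1.K && fixLetters cdth_P (topK [cdtl2, cdtl3, cdtl4, cdtl5]) (cdtl1.Pt 0)) = true := by decide +kernel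
theorem cdt_f0 : (Nat.ble cdtl0.K 16 && Nat.ble (topK [cdtl1, cdtl2, cdtl3, cdtl4, cdtl5]) cdtl0.K && fixLetters cdth_P (topK [cdtl1, cdtl2, cdtl3, cdtl4, cdtl5]) (cdtl0.Pt 0)) = true := by decide +kernel
theorem cdt_c : chainCard [cdtl0, cdtl1, cdtl2, cdtl3, cdtl4, cdtl5] = 10200960 := by decide +kernel
theorem cde_lt : H16.allL (ltAll 10) cde_W = true := by decide +kernel
theorem cd_f5 : (Nat.ble cdtl5.K 16 && Nat.blt (nat_lit 1) 24 && fixLetters cdth_P cdtl5.K (nat_lit 1) && Nat.beq (ltAll 3 [nat_lit 2, nat_lit 0, nat_lit 2]) 0 && Nat.beq (apW d_P [nat_lit 2, nat_lit 0, nat_lit 2] (nat_lit 1)) (cdtl5.Pt 0)) = true := by decide +kernel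
theorem cd_f4 : (Nat.ble cdtl4.K 16 && Nat.blt (nat_lit 1) 24 && fixLetters cdth_P cdtl4.K (nat_lit 1) && Nat.beq (ltAll 3 [nat_lit 2, nat_lit 0]) 0 && Nat.beq (apW d_P [nat_lit 2, nat_lit 0] (nat_lit 1)) (cdtl4.Pt 0)) = true := by decide +kernel
theorem cd_f3 : (Nat.ble cdtl3.K 16 && Nat.blt (nat_lit 1) 24 && fixLetters cdth_P cdtl3.K (nat_lit 1) && Nat.beq (ltAll 3 [nat_lit 1, nat_lit 2]) 0 && Nat.beq (apW d_P [nat_lit 1, nat_lit 2] (nat_lit 1)) (cdtl3.Pt 0)) = true := by decide +kernel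
theorem cd_f2 : (Nat.ble cdtl2.K 16 && Nat.blt (nat_lit 1) 24 && fixLetters cdth_P cdtl2.K (nat_lit 1) && Nat.beq (ltAll 3 [nat_lit 1]) 0 && Nat.beq (apW d_P [nat_lit 1] (nat_lit 1)) (cdtl2.Pt 0)) = true := by decide +kernel
theorem cd_f1 : (Nat.ble cdtl1.K 16 && Nat.blt (nat_lit 1) 24 && fixLetters cdth_P cdtl1.K (nat_lit 1) && Nat.beq (ltAll 3 [nat_lit 2]) 0 && Nat.beq (apW d_P [nat_lit 2] (nat_lit 1)) (cdtl1.Pt 0)) = true := by decide +kernel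
theorem cdc0_e_0 : allZ (dent cdc0 cde_P (nat_lit 24)) (nat_lit 0) (nat_lit 3) = true := by decide +kernel
theorem cdc0_h : 0 < cdc0.n ∧ 0 < cdc0.K ∧ cdc0.Pt 0 < 24 ∧ cdc0.Q (cdc0.Pt 0) = 0 := by decide +kernel
theorem cdtn0_0 : (Nat.ble cdtl0.K 16 && Nat.beq (ltAll 24 []) 0 && kChk cde_P d_P cdtn0.Kn 3 H15.MM23.B [] && H16.allL (ltAll 3) cdtn0.pre && planOK cdth_P d_P 3 (cdtl0.Pt 0) cdtn0.plan [cdtl0, cdtl1, cdtl2, cdtl3, cdtl4, cdtl5]) = true := by decide +kernel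
theorem cdtn0_1_0 : allZ (cdtn0.ent H15.MM23.P cdth_P d_P d_P cde_P (nat_lit 10) (nat_lit 3) H15.MM23.B cdtl0 [cdtl1, cdtl2, cdtl3, cdtl4, cdtl5] (memO cdc0)) (nat_lit 0) (nat_lit 23) = true := by decide +kernel
theorem cd_f0 : (Nat.ble cdc0.K 2 && Nat.ble (topK []) cdc0.K && Nat.beq (cdc0.Pt 0) (cdtl0.Pt 0) && Nat.beq (ltAll 24 []) 0 && kChk cde_P d_P cdc0.K 3 H15.MM23.B []) = true := by decide +kernel
theorem cd_c : chainCard [cdc0] = 4 ∧ topK [cdc0] = 2 := by decide +kernel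
theorem wd0_k_0 : allZ (cmEnt H15.IC.M23.p2t_P cde_P (nat_lit 4) H15.MM23.B (nat_lit 0)) (nat_lit 0) (nat_lit 4) = true := by decide +kernel
theorem wd1_k_0 : allZ (cmEnt H15.IC.M23.p2t_P cde_P (nat_lit 4) H15.MM23.B (nat_lit 1)) (nat_lit 0) (nat_lit 4) = true := by decide +kernel
theorem b_lt : H16.allL (ltAll 10) b_W = true := by decide +kernel
theorem cbth_lt : H16.allL (ltAll 10) cbth_W = true := by decide +kernel
theorem cbtl0_e_0 : allZ (dent cbtl0 cbth_P (nat_lit 24)) (nat_lit 0) (nat_lit 22) = true := by decide +kernel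
theorem cbtl0_h : 0 < cbtl0.n ∧ 0 < cbtl0.K ∧ cbtl0.Pt 0 < 24 ∧ cbtl0.Q (cbtl0.Pt 0) = 0 := by decide +kernel
theorem cbtl1_e_0 : allZ (dent cbtl1 cbth_P (nat_lit 24)) (nat_lit 0) (nat_lit 21) = true := by decide +kernel
theorem cbtl1_h : 0 < cbtl1.n ∧ 0 < cbtl1.K ∧ cbtl1.Pt 0 < 24 ∧ cbtl1.Q (cbtl1.Pt 0) = 0 := by decide +kernel
theorem cbtl2_e_0 : allZ (dent cbtl2 cbth_P (nat_lit 24)) (nat_lit 0) (nat_lit 20) = true := by decide +kernel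
theorem cbtl2_h : 0 < cbtl2.n ∧ 0 < cbtl2.K ∧ cbtl2.Pt 0 < 24 ∧ cbtl2.Q (cbtl2.Pt 0) = 0 := by decide +kernel
theorem cbtl3_e_0 : allZ (dent cbtl3 cbth_P (nat_lit 24)) (nat_lit 0) (nat_lit 19) = true := by decide +kernel
theorem cbtl3_h : 0 < cbtl3.n ∧ 0 < cbtl3.K ∧ cbtl3.Pt 0 < 24 ∧ cbtl3.Q (cbtl3.Pt 0) = 0 := by decide +kernel
theorem cbtl4_e_0 : allZ (dent cbtl4 cbth_P (nat_lit 24)) (nat_lit 0) (nat_lit 15) = true := by decide +kernel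
theorem cbtl4_h : 0 < cbtl4.n ∧ 0 < cbtl4.K ∧ cbtl4.Pt 0 < 24 ∧ cbtl4.Q (cbtl4.Pt 0) = 0 := by decide +kernel
theorem cbtl5_e_0 : allZ (dent cbtl5 cbth_P (nat_lit 24)) (nat_lit 0) (nat_lit 2) = true := by decide +kernel
theorem cbtl5_h : 0 < cbtl5.n ∧ 0 < cbtl5.K ∧ cbtl5.Pt 0 < 24 ∧ cbtl5.Q (cbtl5.Pt 0) = 0 := by decide +kernel
theorem cbt_f5 : (Nat.ble cbtl5.K 14 && Nat.ble (topK []) cbtl5.K && fixLetters cbth_P (topK []) (cbtl5.Pt 0)) = true := by decide +kernel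
theorem cbt_f4 : (Nat.ble cbtl4.K 14 && Nat.ble (topK [cbtl5]) cbtl4.K && fixLetters cbth_P (topK [cbtl5]) (cbtl4.Pt 0)) = true := by decide +kernel
theorem cbt_f3 : (Nat.ble cbtl3.K 14 && Nat.ble (topK [cbtl4, cbtl5]) cbtl3.K && fixLetters cbth_P (topK [cbtl4, cbtl5]) (cbtl3.Pt 0)) = true := by decide +kernel
theorem cbt_f2 : (Nat.ble cbtl2.K 14 && Nat.ble (topK [cbtl3, cbtl4, cbtl5]) cbtl2.K && fixLetters cbth_P (topK [cbtl3, cbtl4, cbtl5]) (cbtl2.Pt 0)) = true := by decide +kernel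
theorem cbt_f1 : (Nat.ble cbtl1.K 14 && Nat.ble (topK [cbtl2, cbtl3, cbtl4, cbtl5]) cbtl1.K && fixLetters cbth_P (topK [cbtl2, cbtl3, cbtl4, cbtl5]) (cbtl1.Pt 0)) = true := by decide +kernel
theorem cbt_f0 : (Nat.ble cbtl0.K 14 && Nat.ble (topK [cbtl1, cbtl2, cbtl3, cbtl4, cbtl5]) cbtl0.K && fixLetters cbth_P (topK [cbtl1, cbtl2, cbtl3, cbtl4, cbtl5]) (cbtl0.Pt 0)) = true := by decide +kernel
theorem cbt_c : chainCard [cbtl0, cbtl1, cbtl2, cbtl3, cbtl4, cbtl5] = 10200960 := by decide +kernel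
theorem cbe_lt : H16.allL (ltAll 10) cbe_W = true := by decide +kernel
theorem cb_f5 : (Nat.ble cbtl5.K 14 && Nat.blt (nat_lit 2) 24 && fixLetters cbth_P cbtl5.K (nat_lit 2) && Nat.beq (ltAll 4 [nat_lit 0]) 0 && Nat.beq (apW b_P [nat_lit 0] (nat_lit 2)) (cbtl5.Pt 0)) = true := by decide +kernel
theorem cbc4_e_0 : allZ (dent cbc4 cbe_P (nat_lit 24)) (nat_lit 0) (nat_lit 3) = true := by decide +kernel
theorem cbc4_h : 0 < cbc4.n ∧ 0 < cbc4.K ∧ cbc4.Pt 0 < 24 ∧ cbc4.Q (cbc4.Pt 0) = 0 := by decide +kernel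
theorem cbtn0_0 : (Nat.ble cbtl4.K 14 && Nat.beq (ltAll 24 [cbtl3.Pt 0, cbtl2.Pt 0, cbtl1.Pt 0, cbtl0.Pt 0]) 0 && kChk cbe_P b_P cbtn0.Kn 4 H15.MM23.B [cbtl3.Pt 0, cbtl2.Pt 0, cbtl1.Pt 0, cbtl0.Pt 0] && H16.allL (ltAll 4) cbtn0.pre && planOK cbth_P b_P 4 (cbtl4.Pt 0) cbtn0.plan [cbtl4, cbtl5]) = true := by decide +kernel
theorem cbtn0_1_0 : allZ (cbtn0.ent H15.MM23.P cbth_P b_P b_P cbe_P (nat_lit 10) (nat_lit 4) H15.MM23.B cbtl4 [cbtl5] (memO cbc4)) (nat_lit 0) (nat_lit 16) = true := by decide +kernel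
theorem cb_f4 : (Nat.ble cbc4.K 4 && Nat.ble (topK []) cbc4.K && Nat.beq (cbc4.Pt 0) (cbtl4.Pt 0) && Nat.beq (ltAll 24 [cbtl3.Pt 0, cbtl2.Pt 0, cbtl1.Pt 0, cbtl0.Pt 0]) 0 && kChk cbe_P b_P cbc4.K 4 H15.MM23.B [cbtl3.Pt 0, cbtl2.Pt 0, cbtl1.Pt 0, cbtl0.Pt 0]) = true := by decide +kernel
theorem cb_f3 : (Nat.ble cbtl3.K 14 && Nat.blt (nat_lit 1) 24 && fixLetters cbth_P cbtl3.K (nat_lit 1) && Nat.beq (ltAll 4 [nat_lit 1, nat_lit 3]) 0 && Nat.beq (apW b_P [nat_lit 1, nat_lit 3] (nat_lit 1)) (cbtl3.Pt 0)) = true := by decide +kernel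
theorem cb_f2 : (Nat.ble cbtl2.K 14 && Nat.blt (nat_lit 1) 24 && fixLetters cbth_P cbtl2.K (nat_lit 1) && Nat.beq (ltAll 4 [nat_lit 3]) 0 && Nat.beq (apW b_P [nat_lit 3] (nat_lit 1)) (cbtl2.Pt 0)) = true := by decide +kernel
theorem cb_f1 : (Nat.ble cbtl1.K 14 && Nat.blt (nat_lit 1) 24 && fixLetters cbth_P cbtl1.K (nat_lit 1) && Nat.beq (ltAll 4 [nat_lit 1]) 0 && Nat.beq (apW b_P [nat_lit 1] (nat_lit 1)) (cbtl1.Pt 0)) = true := by decide +kernel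
theorem cbc0_e_0 : allZ (dent cbc0 cbe_P (nat_lit 24)) (nat_lit 0) (nat_lit 3) = true := by decide +kernel
theorem cbc0_h : 0 < cbc0.n ∧ 0 < cbc0.K ∧ cbc0.Pt 0 < 24 ∧ cbc0.Q (cbc0.Pt 0) = 0 := by decide +kernel
theorem cbtn1_0 : (Nat.ble cbtl0.K 14 && Nat.beq (ltAll 24 []) 0 && kChk cbe_P b_P cbtn1.Kn 4 H15.MM23.B [] && H16.allL (ltAll 4) cbtn1.pre && planOK cbth_P b_P 4 (cbtl0.Pt 0) cbtn1.plan [cbtl0, cbtl1, cbtl2, cbtl3, cbtl4, cbtl5]) = true := by decide +kernel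
theorem cbtn1_1_0 : allZ (cbtn1.ent H15.MM23.P cbth_P b_P b_P cbe_P (nat_lit 10) (nat_lit 4) H15.MM23.B cbtl0 [cbtl1, cbtl2, cbtl3, cbtl4, cbtl5] (memO cbc0)) (nat_lit 0) (nat_lit 23) = true := by decide +kernel
theorem cb_f0 : (Nat.ble cbc0.K 4 && Nat.ble (topK [cbc4]) cbc0.K && Nat.beq (cbc0.Pt 0) (cbtl0.Pt 0) && Nat.beq (ltAll 24 []) 0 && kChk cbe_P b_P cbc0.K 4 H15.MM23.B []) = true := by decide +kernel
theorem cb_c : chainCard [cbc0, cbc4] = 16 ∧ topK [cbc0, cbc4] = 4 := by decide +kernel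
theorem bU_k : allZ (fun a => Nat.add (ltAll 7 (nth [] [[nat_lit 1, nat_lit 2, nat_lit 5, nat_lit 6],
  [nat_lit 0, nat_lit 1, nat_lit 2, nat_lit 5, nat_lit 6],
  [nat_lit 0, nat_lit 1, nat_lit 3, nat_lit 5, nat_lit 6],
  [nat_lit 1, nat_lit 2, nat_lit 3]] a)) (sumL (fun β => Nat.xor (b_P a β) (apW H15.IC.M23.p2t_P (nth [] [[nat_lit 1, nat_lit 2, nat_lit 5, nat_lit 6],
  [nat_lit 0, nat_lit 1, nat_lit 2, nat_lit 5, nat_lit 6],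
  [nat_lit 0, nat_lit 1, nat_lit 3, nat_lit 5, nat_lit 6],
  [nat_lit 1, nat_lit 2, nat_lit 3]] a) β)) H15.MM23.B)) 0 4 = true := by decide +kernel
theorem cB_k : allZ (fun a => Nat.add (ltAll 4 (nth [] [[nat_lit 0, nat_lit 2],
  [nat_lit 0],
  [nat_lit 1],
  [nat_lit 0, nat_lit 3]] a)) (sumL (fun β => Nat.xor (cbe_P a β) (apW b_P (nth [] [[nat_lit 0, nat_lit 2],
  [nat_lit 0],
  [nat_lit 1],
  [nat_lit 0, nat_lit 3]] a) β)) H15.MM23.B)) 0 4 = true := by decide +kernel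
theorem cA_k : allZ (fun a => Nat.add (ltAll 4 (nth [] [[nat_lit 0],
  [nat_lit 0, nat_lit 1],
  [nat_lit 3],
  [nat_lit 0, nat_lit 1, nat_lit 2]] a)) (sumL (fun β => Nat.xor (cve_P a β) (apW v_P (nth [] [[nat_lit 0],
  [nat_lit 0, nat_lit 1],
  [nat_lit 3],
  [nat_lit 0, nat_lit 1, nat_lit 2]] a) β)) H15.MM23.B)) 0 4 = true := by decide +kernel
theorem bw0_k_0 : allZ (cmEnt cde_P b_P (nat_lit 2) H15.MM23.B (nat_lit 0)) (nat_lit 0) (nat_lit 2) = true := by decide +kernel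
theorem bw1_k_0 : allZ (cmEnt cde_P b_P (nat_lit 2) H15.MM23.B (nat_lit 1)) (nat_lit 0) (nat_lit 2) = true := by decide +kernel
theorem bw2_k_0 : allZ (cmEnt cde_P b_P (nat_lit 2) H15.MM23.B (nat_lit 2)) (nat_lit 0) (nat_lit 2) = true := by decide +kernel
theorem bw3_k_0 : allZ (cmEnt cde_P b_P (nat_lit 2) H15.MM23.B (nat_lit 3)) (nat_lit 0) (nat_lit 2) = true := by decide +kernel
theorem bb0_k_0 : allZ (cmEnt b_P b_P (nat_lit 4) H15.MM23.B (nat_lit 0)) (nat_lit 0) (nat_lit 4) = true := by decide +kernel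
theorem bb1_k_0 : allZ (cmEnt b_P b_P (nat_lit 4) H15.MM23.B (nat_lit 1)) (nat_lit 0) (nat_lit 4) = true := by decide +kernel
theorem bb2_k_0 : allZ (cmEnt b_P b_P (nat_lit 4) H15.MM23.B (nat_lit 2)) (nat_lit 0) (nat_lit 4) = true := by decide +kernel
theorem bb3_k_0 : allZ (cmEnt b_P b_P (nat_lit 4) H15.MM23.B (nat_lit 3)) (nat_lit 0) (nat_lit 4) = true := by decide +kernel
theorem aa0_k_0 : allZ (cmEnt v_P v_P (nat_lit 4) H15.MM23.B (nat_lit 0)) (nat_lit 0) (nat_lit 4) = true := by decide +kernel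
theorem aa1_k_0 : allZ (cmEnt v_P v_P (nat_lit 4) H15.MM23.B (nat_lit 1)) (nat_lit 0) (nat_lit 4) = true := by decide +kernel
theorem aa2_k_0 : allZ (cmEnt v_P v_P (nat_lit 4) H15.MM23.B (nat_lit 2)) (nat_lit 0) (nat_lit 4) = true := by decide +kernel
theorem aa3_k_0 : allZ (cmEnt v_P v_P (nat_lit 4) H15.MM23.B (nat_lit 3)) (nat_lit 0) (nat_lit 4) = true := by decide +kernel
theorem b20_k : fixL b_P 4 H15.MM23.B (List.replicate 2 0) = 0 := by decide +kernel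
theorem b21_k : fixL b_P 4 H15.MM23.B (List.replicate 2 1) = 0 := by decide +kernel
theorem b22_k : fixL b_P 4 H15.MM23.B (List.replicate 2 2) = 0 := by decide +kernel
theorem b23_k : fixL b_P 4 H15.MM23.B (List.replicate 2 3) = 0 := by decide +kernel
theorem gw0_k : Nat.add (ltAll 7 [nat_lit 0]) (sumL (fun β => Nat.xor (cde_P 0 β) (apW H15.IC.M23.p2t_P [nat_lit 0] β)) H15.MM23.B) = 0 := by decide +kernel
theorem gw1_k : Nat.add (ltAll 7 [nat_lit 1]) (sumL (fun β => Nat.xor (cde_P 1 β) (apW H15.IC.M23.p2t_P [nat_lit 1] β)) H15.MM23.B) = 0 := by decide +kernel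
theorem ga0_k : Nat.add (ltAll 7 [nat_lit 1, nat_lit 2, nat_lit 4]) (sumL (fun β => Nat.xor (v_P 0 β) (apW H15.IC.M23.p2t_P [nat_lit 1, nat_lit 2, nat_lit 4] β)) H15.MM23.B) = 0 := by decide +kernel
theorem ga1_k : Nat.add (ltAll 7 [nat_lit 0, nat_lit 1, nat_lit 2, nat_lit 4]) (sumL (fun β => Nat.xor (v_P 1 β) (apW H15.IC.M23.p2t_P [nat_lit 0, nat_lit 1, nat_lit 2, nat_lit 4] β)) H15.MM23.B) = 0 := by decide +kernel
theorem ga2_k : Nat.add (ltAll 7 [nat_lit 0, nat_lit 2]) (sumL (fun β => Nat.xor (v_P 2 β) (apW H15.IC.M23.p2t_P [nat_lit 0, nat_lit 2] β)) H15.MM23.B) = 0 := by decide +kernel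
theorem ga3_k : Nat.add (ltAll 7 [nat_lit 2, nat_lit 4]) (sumL (fun β => Nat.xor (v_P 3 β) (apW H15.IC.M23.p2t_P [nat_lit 2, nat_lit 4] β)) H15.MM23.B) = 0 := by decide +kernel
theorem gb0_k : Nat.add (ltAll 7 [nat_lit 1, nat_lit 2, nat_lit 5, nat_lit 6]) (sumL (fun β => Nat.xor (b_P 0 β) (apW H15.IC.M23.p2t_P [nat_lit 1, nat_lit 2, nat_lit 5, nat_lit 6] β)) H15.MM23.B) = 0 := by decide +kernel
theorem gb1_k : Nat.add (ltAll 7 [nat_lit 0, nat_lit 1, nat_lit 2, nat_lit 5, nat_lit 6]) (sumL (fun β => Nat.xor (b_P 1 β) (apW H15.IC.M23.p2t_P [nat_lit 0, nat_lit 1, nat_lit 2, nat_lit 5, nat_lit 6] β)) H15.MM23.B) = 0 := by decide +kernel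
theorem gb2_k : Nat.add (ltAll 7 [nat_lit 0, nat_lit 1, nat_lit 3, nat_lit 5, nat_lit 6]) (sumL (fun β => Nat.xor (b_P 2 β) (apW H15.IC.M23.p2t_P [nat_lit 0, nat_lit 1, nat_lit 3, nat_lit 5, nat_lit 6] β)) H15.MM23.B) = 0 := by decide +kernel
theorem gb3_k : Nat.add (ltAll 7 [nat_lit 1, nat_lit 2, nat_lit 3]) (sumL (fun β => Nat.xor (b_P 3 β) (apW H15.IC.M23.p2t_P [nat_lit 1, nat_lit 2, nat_lit 3] β)) H15.MM23.B) = 0 := by decide +kernel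
theorem tl : H16.allL (ltAll 7) gwL = true ∧ H16.allL (ltAll 7) gaL = true ∧ H16.allL (ltAll 7) gbL = true := by decide +kernel
theorem tk_0 : allZ (twoEnt H15.IC.M23.p2t_P (nat_lit 7) H15.MM23.B gwL gaL gbL) (nat_lit 0) (nat_lit 64) = true := by decide +kernel
theorem tk_1 : allZ (twoEnt H15.IC.M23.p2t_P (nat_lit 7) H15.MM23.B gwL gaL gbL) (nat_lit 64) (nat_lit 64) = true := by decide +kernel
theorem s_lt : H16.allL (ltAll 10) s_W = true := by decide +kernel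
theorem s1_k : eqL s_P 5 H15.MM23.B [nat_lit 0, nat_lit 1] [nat_lit 1, nat_lit 0] = 0 := by decide +kernel
theorem s2_k : eqL s_P 5 H15.MM23.B [nat_lit 2, nat_lit 1] [nat_lit 1, nat_lit 4] = 0 := by decide +kernel
theorem s3_k : 0 < 24 ∧ ltAll 5 [nat_lit 4, nat_lit 3] = 0 ∧ ltAll 5 [nat_lit 3, nat_lit 4] = 0 ∧ apW s_P [nat_lit 4, nat_lit 3] 0 ≠ apW s_P [nat_lit 3, nat_lit 4] 0 := by decide +kernel
theorem wU_k : allZ (fun a => Nat.add (ltAll 7 (nth [] [[nat_lit 1, nat_lit 2, nat_lit 5, nat_lit 6],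
  [nat_lit 0, nat_lit 1, nat_lit 2, nat_lit 5, nat_lit 6],
  [nat_lit 0, nat_lit 1, nat_lit 3, nat_lit 5, nat_lit 6],
  [nat_lit 1, nat_lit 2, nat_lit 3]] a)) (sumL (fun β => Nat.xor (b_P a β) (apW H15.IC.M23.p2t_P (nth [] [[nat_lit 1, nat_lit 2, nat_lit 5, nat_lit 6],
  [nat_lit 0, nat_lit 1, nat_lit 2, nat_lit 5, nat_lit 6],
  [nat_lit 0, nat_lit 1, nat_lit 3, nat_lit 5, nat_lit 6],
  [nat_lit 1, nat_lit 2, nat_lit 3]] a) β)) H15.MM23.B)) 0 4 = true := by decide +kernel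
theorem zW_k : Nat.add (ltAll 4 [nat_lit 0, nat_lit 1]) (sumL (fun β => Nat.xor (H15.IC.M23.c0ax_P 0 β) (apW b_P [nat_lit 0, nat_lit 1] β)) H15.MM23.B) = 0 := by decide +kernel
theorem f_lt : H16.allL (ltAll 10) f_W = true := by decide +kernel
theorem f1_k : allZ (fun j => cjL b_P f_P 4 H15.MM23.B 1 [j] (nth [] [[nat_lit 0, nat_lit 3],
  [nat_lit 0, nat_lit 2],
  [nat_lit 0, nat_lit 1, nat_lit 3],
  [nat_lit 3]] j)) 0 4 = true := by decide +kernel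
theorem f2_k : eqL f_P 4 H15.MM23.B [nat_lit 0, nat_lit 2] [nat_lit 2, nat_lit 0] = 0 := by decide +kernel
theorem f3_k : eqL f_P 4 H15.MM23.B [nat_lit 0, nat_lit 1, nat_lit 2, nat_lit 1] [nat_lit 1, nat_lit 2, nat_lit 1, nat_lit 3] = 0 := by decide +kernel
theorem f4_k : 0 < 24 ∧ ltAll 4 [nat_lit 3, nat_lit 0] = 0 ∧ ltAll 4 [nat_lit 0, nat_lit 3] = 0 ∧ apW f_P [nat_lit 3, nat_lit 0] 0 ≠ apW f_P [nat_lit 0, nat_lit 3] 0 := by decide +kernel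

theorem cz {G Ω : Type*} [Group G] [MulAction G Ω] {g : ℕ → G} {pt : ℕ → Ω}
    (M : Md g pt H15.MM23.P 24 10 H15.MM23.B 10200960) : Subgroup.centralizer {(wds g H15.IC.M23.c0ax_W) 0} = (gen (wds g H15.IC.M23.c0ace_W) 5) :=
  H15.IC.M23.c0ac_c.2 ▸ (H15.IC.M23.c0ac M).cent1
theorem zU {G Ω : Type*} [Group G] [MulAction G Ω] {g : ℕ → G} {pt : ℕ → Ω}
    (M : Md g pt H15.MM23.P 24 10 H15.MM23.B 10200960) : (wds g H15.IC.M23.c0ax_W) 0 = evA (wds g H15.IC.M23.p2t_W) [0] ∧ (wds g H15.IC.M23.c0ax_W) 0 ∈ gen (wds g H15.IC.M23.p2t_W) 7 :=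
  M.eqw (H15.IC.M23.p2t_act M) (H15.IC.M23.c0ax_act M) (by decide) zU_k
theorem Uz_k : ∀ i < 7, (cmEnt H15.IC.M23.p2t_P H15.IC.M23.c0ax_P (nat_lit 7) H15.MM23.B (nat_lit 0)) i = 0 := allZ_sound0 Uz_k_0
theorem Uz {G Ω : Type*} [Group G] [MulAction G Ω] {g : ℕ → G} {pt : ℕ → Ω}
    (M : Md g pt H15.MM23.P 24 10 H15.MM23.B 10200960) : (wds g H15.IC.M23.c0ax_W) 0 ∈ Subgroup.centralizer ((gen (wds g H15.IC.M23.p2t_W) 7) : Set G) :=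
  cms M (H15.IC.M23.p2t_act M) (H15.IC.M23.c0ax_act M) (by decide) Uz_k
theorem z1 {G Ω : Type*} [Group G] [MulAction G Ω] {g : ℕ → G} {pt : ℕ → Ω}
    (M : Md g pt H15.MM23.P 24 10 H15.MM23.B 10200960) : (wds g H15.IC.M23.c0ax_W) 0 ^ 1 ≠ 1 :=
  M.npw (H15.IC.M23.c0ax_act M) _ z1_k
theorem cuth_act {G Ω : Type*} [Group G] [MulAction G Ω] {g : ℕ → G} {pt : ℕ → Ω}
    (M : Md g pt H15.MM23.P 24 10 H15.MM23.B 10200960) : Act (wds g cuth_W) pt cuth_P 24 16 :=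
  M.wact cuth_lt
theorem cutl0_e : ∀ i < 22, (dent cutl0 cuth_P (nat_lit 24)) i = 0 := allZ_sound0 cutl0_e_0
theorem cutl0_ok : DOK cutl0 cuth_P 24 := ⟨cutl0_h, cutl0_e⟩
theorem cutl1_e : ∀ i < 21, (dent cutl1 cuth_P (nat_lit 24)) i = 0 := allZ_sound0 cutl1_e_0
theorem cutl1_ok : DOK cutl1 cuth_P 24 := ⟨cutl1_h, cutl1_e⟩
theorem cutl2_e : ∀ i < 20, (dent cutl2 cuth_P (nat_lit 24)) i = 0 := allZ_sound0 cutl2_e_0
theorem cutl2_ok : DOK cutl2 cuth_P 24 := ⟨cutl2_h, cutl2_e⟩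
theorem cutl3_e : ∀ i < 19, (dent cutl3 cuth_P (nat_lit 24)) i = 0 := allZ_sound0 cutl3_e_0
theorem cutl3_ok : DOK cutl3 cuth_P 24 := ⟨cutl3_h, cutl3_e⟩
theorem cutl4_e : ∀ i < 2, (dent cutl4 cuth_P (nat_lit 24)) i = 0 := allZ_sound0 cutl4_e_0
theorem cutl4_ok : DOK cutl4 cuth_P 24 := ⟨cutl4_h, cutl4_e⟩
theorem cutl5_e : ∀ i < 15, (dent cutl5 cuth_P (nat_lit 24)) i = 0 := allZ_sound0 cutl5_e_0
theorem cutl5_ok : DOK cutl5 cuth_P 24 := ⟨cutl5_h, cutl5_e⟩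
theorem cut_low {G Ω : Type*} [Group G] [MulAction G Ω] {g : ℕ → G} {pt : ℕ → Ω}
    (M : Md g pt H15.MM23.P 24 10 H15.MM23.B 10200960) : SLow (gi (wds g cuth_W)) pt 24 [cutl0, cutl1, cutl2, cutl3, cutl4, cutl5] :=
  ((((((SLow.nil).cons cutl5_ok (cuth_act M) cut_f5).cons cutl4_ok (cuth_act M) cut_f4).cons cutl3_ok (cuth_act M) cut_f3).cons cutl2_ok (cuth_act M) cut_f2).cons cutl1_ok (cuth_act M) cut_f1).cons cutl0_ok (cuth_act M) cut_f0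
theorem cut_S0 {G Ω : Type*} [Group G] [MulAction G Ω] {g : ℕ → G} {pt : ℕ → Ω}
    (M : Md g pt H15.MM23.P 24 10 H15.MM23.B 10200960) : Stage ⊤ (wds g cuth_W) pt 24 [cutl0, cutl1, cutl2, cutl3, cutl4, cutl5] [] :=
  M.stage (cut_low M) cut_c
theorem cut_S1 {G Ω : Type*} [Group G] [MulAction G Ω] {g : ℕ → G} {pt : ℕ → Ω}
    (M : Md g pt H15.MM23.P 24 10 H15.MM23.B 10200960) : Stage ⊤ (wds g cuth_W) pt 24 [cutl1, cutl2, cutl3, cutl4, cutl5] [cutl0.Pt 0] :=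
  (cut_S0 M).next
theorem cut_S2 {G Ω : Type*} [Group G] [MulAction G Ω] {g : ℕ → G} {pt : ℕ → Ω}
    (M : Md g pt H15.MM23.P 24 10 H15.MM23.B 10200960) : Stage ⊤ (wds g cuth_W) pt 24 [cutl2, cutl3, cutl4, cutl5] [cutl1.Pt 0, cutl0.Pt 0] :=
  (cut_S1 M).next
theorem cut_S3 {G Ω : Type*} [Group G] [MulAction G Ω] {g : ℕ → G} {pt : ℕ → Ω}
    (M : Md g pt H15.MM23.P 24 10 H15.MM23.B 10200960) : Stage ⊤ (wds g cuth_W) pt 24 [cutl3, cutl4, cutl5] [cutl2.Pt 0, cutl1.Pt 0, cutl0.Pt 0] :=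
  (cut_S2 M).next
theorem cut_S4 {G Ω : Type*} [Group G] [MulAction G Ω] {g : ℕ → G} {pt : ℕ → Ω}
    (M : Md g pt H15.MM23.P 24 10 H15.MM23.B 10200960) : Stage ⊤ (wds g cuth_W) pt 24 [cutl4, cutl5] [cutl3.Pt 0, cutl2.Pt 0, cutl1.Pt 0, cutl0.Pt 0] :=
  (cut_S3 M).next
theorem cut_S5 {G Ω : Type*} [Group G] [MulAction G Ω] {g : ℕ → G} {pt : ℕ → Ω}
    (M : Md g pt H15.MM23.P 24 10 H15.MM23.B 10200960) : Stage ⊤ (wds g cuth_W) pt 24 [cutl5] [cutl4.Pt 0, cutl3.Pt 0, cutl2.Pt 0, cutl1.Pt 0, cutl0.Pt 0] :=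
  (cut_S4 M).next
theorem cut_S6 {G Ω : Type*} [Group G] [MulAction G Ω] {g : ℕ → G} {pt : ℕ → Ω}
    (M : Md g pt H15.MM23.P 24 10 H15.MM23.B 10200960) : Stage ⊤ (wds g cuth_W) pt 24 [] [cutl5.Pt 0, cutl4.Pt 0, cutl3.Pt 0, cutl2.Pt 0, cutl1.Pt 0, cutl0.Pt 0] :=
  (cut_S5 M).next
theorem cue_act {G Ω : Type*} [Group G] [MulAction G Ω] {g : ℕ → G} {pt : ℕ → Ω}
    (M : Md g pt H15.MM23.P 24 10 H15.MM23.B 10200960) : Act (wds g cue_W) pt cue_P 24 1 :=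
  M.wact cue_lt
theorem cuc0_e : ∀ i < 1, (dent cuc0 cue_P (nat_lit 24)) i = 0 := allZ_sound0 cuc0_e_0
theorem cuc0_ok : DOK cuc0 cue_P 24 := ⟨cuc0_h, cuc0_e⟩
theorem cutn0_1 : ∀ i < 23, (cutn0.ent H15.MM23.P cuth_P H15.IC.M23.p2t_P H15.IC.M23.p2t_P cue_P (nat_lit 10) (nat_lit 7) H15.MM23.B cutl0 [cutl1, cutl2, cutl3, cutl4, cutl5] (memO cuc0)) i = 0 := allZ_sound0 cutn0_1_0
theorem cutn0_t {G Ω : Type*} [Group G] [MulAction G Ω] {g : ℕ → G} {pt : ℕ → Ω}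
    (M : Md g pt H15.MM23.P 24 10 H15.MM23.B 10200960) : TrO (gen (wds g cuth_W) cutl0.K) (wds g H15.IC.M23.p2t_W) (wds g H15.IC.M23.p2t_W) 7 pt 24 (cutl0.Pt 0) (memO cuc0) :=
  node M (cut_S0 M) (cuth_act M) (H15.IC.M23.p2t_act M) (H15.IC.M23.p2t_act M) cutn0 ((cue_act M).mono (by decide)) (fun _ _ => trivial) cutn0_0 cutn0_1 (List.forall_mem_nil _)
theorem cu {G Ω : Type*} [Group G] [MulAction G Ω] {g : ℕ → G} {pt : ℕ → Ω}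
    (M : Md g pt H15.MM23.P 24 10 H15.MM23.B 10200960) : Cen ⊤ (wds g H15.IC.M23.p2t_W) 7 (wds g cue_W) pt 24 [cuc0] :=
  (cut_S0 M).top ▸ Cen.lev M (cut_S0 M) (Cen.triv (cut_S1 M) (Cen.triv (cut_S2 M) (Cen.triv (cut_S3 M) (Cen.triv (cut_S4 M) (Cen.triv (cut_S5 M) (Cen.bot) (forced (cut_S5 M) (cuth_act M) (H15.IC.M23.p2t_act M) _ _ cu_f5)) (forced (cut_S4 M) (cuth_act M) (H15.IC.M23.p2t_act M) _ _ cu_f4)) (forced (cut_S3 M) (cuth_act M) (H15.IC.M23.p2t_act M) _ _ cu_f3)) (forced (cut_S2 M) (cuth_act M) (H15.IC.M23.p2t_act M) _ _ cu_f2)) (forced (cut_S1 M) (cuth_act M) (H15.IC.M23.p2t_act M) _ _ cu_f1)) (cutn0_t M) (H15.IC.M23.p2t_act M) (cue_act M) (fun _ _ => trivial) cuc0_ok cu_f0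
theorem cu_eq {G Ω : Type*} [Group G] [MulAction G Ω] {g : ℕ → G} {pt : ℕ → Ω}
    (M : Md g pt H15.MM23.P 24 10 H15.MM23.B 10200960) : Subgroup.centralizer (gen (wds g H15.IC.M23.p2t_W) 7) = gen (wds g cue_W) 1 ∧ Nat.card (gen (wds g cue_W) 1) = 2 :=
  cu_c.1 ▸ cu_c.2 ▸ ⟨(cu M).cent, (cu M).card M.inj⟩
theorem v_act {G Ω : Type*} [Group G] [MulAction G Ω] {g : ℕ → G} {pt : ℕ → Ω}
    (M : Md g pt H15.MM23.P 24 10 H15.MM23.B 10200960) : Act (wds g v_W) pt v_P 24 4 :=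
  M.wact v_lt
theorem cvth_act {G Ω : Type*} [Group G] [MulAction G Ω] {g : ℕ → G} {pt : ℕ → Ω}
    (M : Md g pt H15.MM23.P 24 10 H15.MM23.B 10200960) : Act (wds g cvth_W) pt cvth_P 24 15 :=
  M.wact cvth_lt
theorem cvtl0_e : ∀ i < 22, (dent cvtl0 cvth_P (nat_lit 24)) i = 0 := allZ_sound0 cvtl0_e_0
theorem cvtl0_ok : DOK cvtl0 cvth_P 24 := ⟨cvtl0_h, cvtl0_e⟩
theorem cvtl1_e : ∀ i < 21, (dent cvtl1 cvth_P (nat_lit 24)) i = 0 := allZ_sound0 cvtl1_e_0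
theorem cvtl1_ok : DOK cvtl1 cvth_P 24 := ⟨cvtl1_h, cvtl1_e⟩
theorem cvtl2_e : ∀ i < 20, (dent cvtl2 cvth_P (nat_lit 24)) i = 0 := allZ_sound0 cvtl2_e_0
theorem cvtl2_ok : DOK cvtl2 cvth_P 24 := ⟨cvtl2_h, cvtl2_e⟩
theorem cvtl3_e : ∀ i < 19, (dent cvtl3 cvth_P (nat_lit 24)) i = 0 := allZ_sound0 cvtl3_e_0
theorem cvtl3_ok : DOK cvtl3 cvth_P 24 := ⟨cvtl3_h, cvtl3_e⟩
theorem cvtl4_e : ∀ i < 2, (dent cvtl4 cvth_P (nat_lit 24)) i = 0 := allZ_sound0 cvtl4_e_0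
theorem cvtl4_ok : DOK cvtl4 cvth_P 24 := ⟨cvtl4_h, cvtl4_e⟩
theorem cvtl5_e : ∀ i < 15, (dent cvtl5 cvth_P (nat_lit 24)) i = 0 := allZ_sound0 cvtl5_e_0
theorem cvtl5_ok : DOK cvtl5 cvth_P 24 := ⟨cvtl5_h, cvtl5_e⟩
theorem cvt_low {G Ω : Type*} [Group G] [MulAction G Ω] {g : ℕ → G} {pt : ℕ → Ω}
    (M : Md g pt H15.MM23.P 24 10 H15.MM23.B 10200960) : SLow (gi (wds g cvth_W)) pt 24 [cvtl0, cvtl1, cvtl2, cvtl3, cvtl4, cvtl5] :=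
  ((((((SLow.nil).cons cvtl5_ok (cvth_act M) cvt_f5).cons cvtl4_ok (cvth_act M) cvt_f4).cons cvtl3_ok (cvth_act M) cvt_f3).cons cvtl2_ok (cvth_act M) cvt_f2).cons cvtl1_ok (cvth_act M) cvt_f1).cons cvtl0_ok (cvth_act M) cvt_f0
theorem cvt_S0 {G Ω : Type*} [Group G] [MulAction G Ω] {g : ℕ → G} {pt : ℕ → Ω}
    (M : Md g pt H15.MM23.P 24 10 H15.MM23.B 10200960) : Stage ⊤ (wds g cvth_W) pt 24 [cvtl0, cvtl1, cvtl2, cvtl3, cvtl4, cvtl5] [] :=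
  M.stage (cvt_low M) cvt_c
theorem cvt_S1 {G Ω : Type*} [Group G] [MulAction G Ω] {g : ℕ → G} {pt : ℕ → Ω}
    (M : Md g pt H15.MM23.P 24 10 H15.MM23.B 10200960) : Stage ⊤ (wds g cvth_W) pt 24 [cvtl1, cvtl2, cvtl3, cvtl4, cvtl5] [cvtl0.Pt 0] :=
  (cvt_S0 M).next
theorem cvt_S2 {G Ω : Type*} [Group G] [MulAction G Ω] {g : ℕ → G} {pt : ℕ → Ω}
    (M : Md g pt H15.MM23.P 24 10 H15.MM23.B 10200960) : Stage ⊤ (wds g cvth_W) pt 24 [cvtl2, cvtl3, cvtl4, cvtl5] [cvtl1.Pt 0, cvtl0.Pt 0] :=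
  (cvt_S1 M).next
theorem cvt_S3 {G Ω : Type*} [Group G] [MulAction G Ω] {g : ℕ → G} {pt : ℕ → Ω}
    (M : Md g pt H15.MM23.P 24 10 H15.MM23.B 10200960) : Stage ⊤ (wds g cvth_W) pt 24 [cvtl3, cvtl4, cvtl5] [cvtl2.Pt 0, cvtl1.Pt 0, cvtl0.Pt 0] :=
  (cvt_S2 M).next
theorem cvt_S4 {G Ω : Type*} [Group G] [MulAction G Ω] {g : ℕ → G} {pt : ℕ → Ω}
    (M : Md g pt H15.MM23.P 24 10 H15.MM23.B 10200960) : Stage ⊤ (wds g cvth_W) pt 24 [cvtl4, cvtl5] [cvtl3.Pt 0, cvtl2.Pt 0, cvtl1.Pt 0, cvtl0.Pt 0] :=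
  (cvt_S3 M).next
theorem cvt_S5 {G Ω : Type*} [Group G] [MulAction G Ω] {g : ℕ → G} {pt : ℕ → Ω}
    (M : Md g pt H15.MM23.P 24 10 H15.MM23.B 10200960) : Stage ⊤ (wds g cvth_W) pt 24 [cvtl5] [cvtl4.Pt 0, cvtl3.Pt 0, cvtl2.Pt 0, cvtl1.Pt 0, cvtl0.Pt 0] :=
  (cvt_S4 M).next
theorem cvt_S6 {G Ω : Type*} [Group G] [MulAction G Ω] {g : ℕ → G} {pt : ℕ → Ω}
    (M : Md g pt H15.MM23.P 24 10 H15.MM23.B 10200960) : Stage ⊤ (wds g cvth_W) pt 24 [] [cvtl5.Pt 0, cvtl4.Pt 0, cvtl3.Pt 0, cvtl2.Pt 0, cvtl1.Pt 0, cvtl0.Pt 0] :=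
  (cvt_S5 M).next
theorem cve_act {G Ω : Type*} [Group G] [MulAction G Ω] {g : ℕ → G} {pt : ℕ → Ω}
    (M : Md g pt H15.MM23.P 24 10 H15.MM23.B 10200960) : Act (wds g cve_W) pt cve_P 24 4 :=
  M.wact cve_lt
theorem cvc0_e : ∀ i < 15, (dent cvc0 cve_P (nat_lit 24)) i = 0 := allZ_sound0 cvc0_e_0
theorem cvc0_ok : DOK cvc0 cve_P 24 := ⟨cvc0_h, cvc0_e⟩
theorem cvtn0_1 : ∀ i < 23, (cvtn0.ent H15.MM23.P cvth_P v_P v_P cve_P (nat_lit 10) (nat_lit 4) H15.MM23.B cvtl0 [cvtl1, cvtl2, cvtl3, cvtl4, cvtl5] (memO cvc0)) i = 0 := allZ_sound0 cvtn0_1_0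
theorem cvtn0_t {G Ω : Type*} [Group G] [MulAction G Ω] {g : ℕ → G} {pt : ℕ → Ω}
    (M : Md g pt H15.MM23.P 24 10 H15.MM23.B 10200960) : TrO (gen (wds g cvth_W) cvtl0.K) (wds g v_W) (wds g v_W) 4 pt 24 (cvtl0.Pt 0) (memO cvc0) :=
  node M (cvt_S0 M) (cvth_act M) (v_act M) (v_act M) cvtn0 ((cve_act M).mono (by decide)) (fun _ _ => trivial) cvtn0_0 cvtn0_1 (List.forall_mem_nil _)
theorem cv {G Ω : Type*} [Group G] [MulAction G Ω] {g : ℕ → G} {pt : ℕ → Ω}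
    (M : Md g pt H15.MM23.P 24 10 H15.MM23.B 10200960) : Cen ⊤ (wds g v_W) 4 (wds g cve_W) pt 24 [cvc0] :=
  (cvt_S0 M).top ▸ Cen.lev M (cvt_S0 M) (Cen.triv (cvt_S1 M) (Cen.triv (cvt_S2 M) (Cen.triv (cvt_S3 M) (Cen.triv (cvt_S4 M) (Cen.triv (cvt_S5 M) (Cen.bot) (forced (cvt_S5 M) (cvth_act M) (v_act M) _ _ cv_f5)) (forced (cvt_S4 M) (cvth_act M) (v_act M) _ _ cv_f4)) (forced (cvt_S3 M) (cvth_act M) (v_act M) _ _ cv_f3)) (forced (cvt_S2 M) (cvth_act M) (v_act M) _ _ cv_f2)) (forced (cvt_S1 M) (cvth_act M) (v_act M) _ _ cv_f1)) (cvtn0_t M) (v_act M) (cve_act M) (fun _ _ => trivial) cvc0_ok cv_f0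
theorem cv_eq {G Ω : Type*} [Group G] [MulAction G Ω] {g : ℕ → G} {pt : ℕ → Ω}
    (M : Md g pt H15.MM23.P 24 10 H15.MM23.B 10200960) : Subgroup.centralizer (gen (wds g v_W) 4) = gen (wds g cve_W) 4 ∧ Nat.card (gen (wds g cve_W) 4) = 16 :=
  cv_c.1 ▸ cv_c.2 ▸ ⟨(cv M).cent, (cv M).card M.inj⟩
theorem nv_k : ∀ k < 5, ∀ i < 4, (nrmEnt v_P H15.IC.M23.c0ace_P (nat_lit 4) H15.MM23.B nvW) k i = 0 := allZ2_sound nv_k_a
theorem nv {G Ω : Type*} [Group G] [MulAction G Ω] {g : ℕ → G} {pt : ℕ → Ω}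
    (M : Md g pt H15.MM23.P 24 10 H15.MM23.B 10200960) : (gen (wds g H15.IC.M23.c0ace_W) 5) ≤ Subgroup.normalizer ((gen (wds g v_W) 4) : Set G) :=
  norms M (v_act M) (H15.IC.M23.c0ace_act M) nv_k
theorem vz_k : ∀ i < 4, (cmEnt v_P H15.IC.M23.c0ax_P (nat_lit 4) H15.MM23.B (nat_lit 0)) i = 0 := allZ_sound0 vz_k_0
theorem vz {G Ω : Type*} [Group G] [MulAction G Ω] {g : ℕ → G} {pt : ℕ → Ω}
    (M : Md g pt H15.MM23.P 24 10 H15.MM23.B 10200960) : (wds g H15.IC.M23.c0ax_W) 0 ∈ Subgroup.centralizer ((gen (wds g v_W) 4) : Set G) :=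
  cms M (v_act M) (H15.IC.M23.c0ax_act M) (by decide) vz_k
theorem vU {G Ω : Type*} [Group G] [MulAction G Ω] {g : ℕ → G} {pt : ℕ → Ω}
    (M : Md g pt H15.MM23.P 24 10 H15.MM23.B 10200960) : gen (wds g v_W) 4 ≤ gen (wds g H15.IC.M23.p2t_W) 7 :=
  M.gen_le (H15.IC.M23.p2t_act M) (v_act M) vU_k
theorem z0 {G Ω : Type*} [Group G] [MulAction G Ω] {g : ℕ → G} {pt : ℕ → Ω}
    (M : Md g pt H15.MM23.P 24 10 H15.MM23.B 10200960) : Z0 (gen (wds g H15.IC.M23.p2t_W) 7) ((wds g H15.IC.M23.c0ax_W) 0) :=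
  have := M.fin
  have s := pc_syl (H15.IC.M23.p2_pc M)
  ⟨s, (zU M).2, Uz M, z1 M, ((congrArg (fun H : Subgroup G => Nat.card H) (cu_eq M).1).trans (cu_eq M).2), cp_sub (k := 4) (H19.le_cent1_iff.2 (vz M)) ((cz M).le.trans (nv M)) (s.pi.of_le (vU M)) ((congrArg (fun H : Subgroup G => Nat.card H) (cv_eq M).1).trans (cv_eq M).2)⟩
theorem d_act {G Ω : Type*} [Group G] [MulAction G Ω] {g : ℕ → G} {pt : ℕ → Ω}
    (M : Md g pt H15.MM23.P 24 10 H15.MM23.B 10200960) : Act (wds g d_W) pt d_P 24 3 :=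
  M.wact d_lt
theorem dr0 {G Ω : Type*} [Group G] [MulAction G Ω] {g : ℕ → G} {pt : ℕ → Ω}
    (M : Md g pt H15.MM23.P 24 10 H15.MM23.B 10200960) : evA (wds g H15.IC.M23.p2t_W) [5, 6] = evA (wds g H15.IC.M23.p2t_W) [6, 5, 2, 3] :=
  M.eq_of (H15.IC.M23.p2t_act M) dr0_k
theorem de0 {G Ω : Type*} [Group G] [MulAction G Ω] {g : ℕ → G} {pt : ℕ → Ω}
    (M : Md g pt H15.MM23.P 24 10 H15.MM23.B 10200960) : (wds g d_W) 0 = evA (wds g H15.IC.M23.p2t_W) [2, 3] ∧ (wds g d_W) 0 ∈ gen (wds g H15.IC.M23.p2t_W) 7 :=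
  M.eqw (H15.IC.M23.p2t_act M) (d_act M) (by decide) de0_k
theorem dr1 {G Ω : Type*} [Group G] [MulAction G Ω] {g : ℕ → G} {pt : ℕ → Ω}
    (M : Md g pt H15.MM23.P 24 10 H15.MM23.B 10200960) : evA (wds g H15.IC.M23.p2t_W) [3, 5] = evA (wds g H15.IC.M23.p2t_W) [5, 3, 1] :=
  M.eq_of (H15.IC.M23.p2t_act M) dr1_k
theorem de1 {G Ω : Type*} [Group G] [MulAction G Ω] {g : ℕ → G} {pt : ℕ → Ω}
    (M : Md g pt H15.MM23.P 24 10 H15.MM23.B 10200960) : (wds g d_W) 1 = evA (wds g H15.IC.M23.p2t_W) [1] ∧ (wds g d_W) 1 ∈ gen (wds g H15.IC.M23.p2t_W) 7 :=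
  M.eqw (H15.IC.M23.p2t_act M) (d_act M) (by decide) de1_k
theorem dr2 {G Ω : Type*} [Group G] [MulAction G Ω] {g : ℕ → G} {pt : ℕ → Ω}
    (M : Md g pt H15.MM23.P 24 10 H15.MM23.B 10200960) : evA (wds g H15.IC.M23.p2t_W) [4, 5] = evA (wds g H15.IC.M23.p2t_W) [5, 4, 0, 2] :=
  M.eq_of (H15.IC.M23.p2t_act M) dr2_k
theorem de2 {G Ω : Type*} [Group G] [MulAction G Ω] {g : ℕ → G} {pt : ℕ → Ω}
    (M : Md g pt H15.MM23.P 24 10 H15.MM23.B 10200960) : (wds g d_W) 2 = evA (wds g H15.IC.M23.p2t_W) [0, 2] ∧ (wds g d_W) 2 ∈ gen (wds g H15.IC.M23.p2t_W) 7 :=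
  M.eqw (H15.IC.M23.p2t_act M) (d_act M) (by decide) de2_k
theorem cdth_act {G Ω : Type*} [Group G] [MulAction G Ω] {g : ℕ → G} {pt : ℕ → Ω}
    (M : Md g pt H15.MM23.P 24 10 H15.MM23.B 10200960) : Act (wds g cdth_W) pt cdth_P 24 16 :=
  M.wact cdth_lt
theorem cdtl0_e : ∀ i < 22, (dent cdtl0 cdth_P (nat_lit 24)) i = 0 := allZ_sound0 cdtl0_e_0
theorem cdtl0_ok : DOK cdtl0 cdth_P 24 := ⟨cdtl0_h, cdtl0_e⟩
theorem cdtl1_e : ∀ i < 21, (dent cdtl1 cdth_P (nat_lit 24)) i = 0 := allZ_sound0 cdtl1_e_0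
theorem cdtl1_ok : DOK cdtl1 cdth_P 24 := ⟨cdtl1_h, cdtl1_e⟩
theorem cdtl2_e : ∀ i < 20, (dent cdtl2 cdth_P (nat_lit 24)) i = 0 := allZ_sound0 cdtl2_e_0
theorem cdtl2_ok : DOK cdtl2 cdth_P 24 := ⟨cdtl2_h, cdtl2_e⟩
theorem cdtl3_e : ∀ i < 19, (dent cdtl3 cdth_P (nat_lit 24)) i = 0 := allZ_sound0 cdtl3_e_0
theorem cdtl3_ok : DOK cdtl3 cdth_P 24 := ⟨cdtl3_h, cdtl3_e⟩
theorem cdtl4_e : ∀ i < 15, (dent cdtl4 cdth_P (nat_lit 24)) i = 0 := allZ_sound0 cdtl4_e_0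
theorem cdtl4_ok : DOK cdtl4 cdth_P 24 := ⟨cdtl4_h, cdtl4_e⟩
theorem cdtl5_e : ∀ i < 2, (dent cdtl5 cdth_P (nat_lit 24)) i = 0 := allZ_sound0 cdtl5_e_0
theorem cdtl5_ok : DOK cdtl5 cdth_P 24 := ⟨cdtl5_h, cdtl5_e⟩
theorem cdt_low {G Ω : Type*} [Group G] [MulAction G Ω] {g : ℕ → G} {pt : ℕ → Ω}
    (M : Md g pt H15.MM23.P 24 10 H15.MM23.B 10200960) : SLow (gi (wds g cdth_W)) pt 24 [cdtl0, cdtl1, cdtl2, cdtl3, cdtl4, cdtl5] :=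
  ((((((SLow.nil).cons cdtl5_ok (cdth_act M) cdt_f5).cons cdtl4_ok (cdth_act M) cdt_f4).cons cdtl3_ok (cdth_act M) cdt_f3).cons cdtl2_ok (cdth_act M) cdt_f2).cons cdtl1_ok (cdth_act M) cdt_f1).cons cdtl0_ok (cdth_act M) cdt_f0
theorem cdt_S0 {G Ω : Type*} [Group G] [MulAction G Ω] {g : ℕ → G} {pt : ℕ → Ω}
    (M : Md g pt H15.MM23.P 24 10 H15.MM23.B 10200960) : Stage ⊤ (wds g cdth_W) pt 24 [cdtl0, cdtl1, cdtl2, cdtl3, cdtl4, cdtl5] [] :=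
  M.stage (cdt_low M) cdt_c
theorem cdt_S1 {G Ω : Type*} [Group G] [MulAction G Ω] {g : ℕ → G} {pt : ℕ → Ω}
    (M : Md g pt H15.MM23.P 24 10 H15.MM23.B 10200960) : Stage ⊤ (wds g cdth_W) pt 24 [cdtl1, cdtl2, cdtl3, cdtl4, cdtl5] [cdtl0.Pt 0] :=
  (cdt_S0 M).next
theorem cdt_S2 {G Ω : Type*} [Group G] [MulAction G Ω] {g : ℕ → G} {pt : ℕ → Ω}
    (M : Md g pt H15.MM23.P 24 10 H15.MM23.B 10200960) : Stage ⊤ (wds g cdth_W) pt 24 [cdtl2, cdtl3, cdtl4, cdtl5] [cdtl1.Pt 0, cdtl0.Pt 0] :=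
  (cdt_S1 M).next
theorem cdt_S3 {G Ω : Type*} [Group G] [MulAction G Ω] {g : ℕ → G} {pt : ℕ → Ω}
    (M : Md g pt H15.MM23.P 24 10 H15.MM23.B 10200960) : Stage ⊤ (wds g cdth_W) pt 24 [cdtl3, cdtl4, cdtl5] [cdtl2.Pt 0, cdtl1.Pt 0, cdtl0.Pt 0] :=
  (cdt_S2 M).next
theorem cdt_S4 {G Ω : Type*} [Group G] [MulAction G Ω] {g : ℕ → G} {pt : ℕ → Ω}
    (M : Md g pt H15.MM23.P 24 10 H15.MM23.B 10200960) : Stage ⊤ (wds g cdth_W) pt 24 [cdtl4, cdtl5] [cdtl3.Pt 0, cdtl2.Pt 0, cdtl1.Pt 0, cdtl0.Pt 0] :=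
  (cdt_S3 M).next
theorem cdt_S5 {G Ω : Type*} [Group G] [MulAction G Ω] {g : ℕ → G} {pt : ℕ → Ω}
    (M : Md g pt H15.MM23.P 24 10 H15.MM23.B 10200960) : Stage ⊤ (wds g cdth_W) pt 24 [cdtl5] [cdtl4.Pt 0, cdtl3.Pt 0, cdtl2.Pt 0, cdtl1.Pt 0, cdtl0.Pt 0] :=
  (cdt_S4 M).next
theorem cdt_S6 {G Ω : Type*} [Group G] [MulAction G Ω] {g : ℕ → G} {pt : ℕ → Ω}
    (M : Md g pt H15.MM23.P 24 10 H15.MM23.B 10200960) : Stage ⊤ (wds g cdth_W) pt 24 [] [cdtl5.Pt 0, cdtl4.Pt 0, cdtl3.Pt 0, cdtl2.Pt 0, cdtl1.Pt 0, cdtl0.Pt 0] :=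
  (cdt_S5 M).next
theorem cde_act {G Ω : Type*} [Group G] [MulAction G Ω] {g : ℕ → G} {pt : ℕ → Ω}
    (M : Md g pt H15.MM23.P 24 10 H15.MM23.B 10200960) : Act (wds g cde_W) pt cde_P 24 2 :=
  M.wact cde_lt
theorem cdc0_e : ∀ i < 3, (dent cdc0 cde_P (nat_lit 24)) i = 0 := allZ_sound0 cdc0_e_0
theorem cdc0_ok : DOK cdc0 cde_P 24 := ⟨cdc0_h, cdc0_e⟩
theorem cdtn0_1 : ∀ i < 23, (cdtn0.ent H15.MM23.P cdth_P d_P d_P cde_P (nat_lit 10) (nat_lit 3) H15.MM23.B cdtl0 [cdtl1, cdtl2, cdtl3, cdtl4, cdtl5] (memO cdc0)) i = 0 := allZ_sound0 cdtn0_1_0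
theorem cdtn0_t {G Ω : Type*} [Group G] [MulAction G Ω] {g : ℕ → G} {pt : ℕ → Ω}
    (M : Md g pt H15.MM23.P 24 10 H15.MM23.B 10200960) : TrO (gen (wds g cdth_W) cdtl0.K) (wds g d_W) (wds g d_W) 3 pt 24 (cdtl0.Pt 0) (memO cdc0) :=
  node M (cdt_S0 M) (cdth_act M) (d_act M) (d_act M) cdtn0 ((cde_act M).mono (by decide)) (fun _ _ => trivial) cdtn0_0 cdtn0_1 (List.forall_mem_nil _)
theorem cd {G Ω : Type*} [Group G] [MulAction G Ω] {g : ℕ → G} {pt : ℕ → Ω}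
    (M : Md g pt H15.MM23.P 24 10 H15.MM23.B 10200960) : Cen ⊤ (wds g d_W) 3 (wds g cde_W) pt 24 [cdc0] :=
  (cdt_S0 M).top ▸ Cen.lev M (cdt_S0 M) (Cen.triv (cdt_S1 M) (Cen.triv (cdt_S2 M) (Cen.triv (cdt_S3 M) (Cen.triv (cdt_S4 M) (Cen.triv (cdt_S5 M) (Cen.bot) (forced (cdt_S5 M) (cdth_act M) (d_act M) _ _ cd_f5)) (forced (cdt_S4 M) (cdth_act M) (d_act M) _ _ cd_f4)) (forced (cdt_S3 M) (cdth_act M) (d_act M) _ _ cd_f3)) (forced (cdt_S2 M) (cdth_act M) (d_act M) _ _ cd_f2)) (forced (cdt_S1 M) (cdth_act M) (d_act M) _ _ cd_f1)) (cdtn0_t M) (d_act M) (cde_act M) (fun _ _ => trivial) cdc0_ok cd_f0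
theorem cd_eq {G Ω : Type*} [Group G] [MulAction G Ω] {g : ℕ → G} {pt : ℕ → Ω}
    (M : Md g pt H15.MM23.P 24 10 H15.MM23.B 10200960) : Subgroup.centralizer (gen (wds g d_W) 3) = gen (wds g cde_W) 2 ∧ Nat.card (gen (wds g cde_W) 2) = 4 :=
  cd_c.1 ▸ cd_c.2 ▸ ⟨(cd M).cent, (cd M).card M.inj⟩
theorem wd0_k : ∀ i < 4, (cmEnt H15.IC.M23.p2t_P cde_P (nat_lit 4) H15.MM23.B (nat_lit 0)) i = 0 := allZ_sound0 wd0_k_0
theorem wd0 {G Ω : Type*} [Group G] [MulAction G Ω] {g : ℕ → G} {pt : ℕ → Ω}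
    (M : Md g pt H15.MM23.P 24 10 H15.MM23.B 10200960) : (wds g cde_W) 0 ∈ Subgroup.centralizer ((gen (wds g H15.IC.M23.p2t_W) 4) : Set G) :=
  cms M ((H15.IC.M23.p2t_act M).mono (by decide)) (cde_act M) (by decide) wd0_k
theorem wd1_k : ∀ i < 4, (cmEnt H15.IC.M23.p2t_P cde_P (nat_lit 4) H15.MM23.B (nat_lit 1)) i = 0 := allZ_sound0 wd1_k_0
theorem wd1 {G Ω : Type*} [Group G] [MulAction G Ω] {g : ℕ → G} {pt : ℕ → Ω}
    (M : Md g pt H15.MM23.P 24 10 H15.MM23.B 10200960) : (wds g cde_W) 1 ∈ Subgroup.centralizer ((gen (wds g H15.IC.M23.p2t_W) 4) : Set G) :=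
  cms M ((H15.IC.M23.p2t_act M).mono (by decide)) (cde_act M) (by decide) wd1_k
theorem ivw {G Ω : Type*} [Group G] [MulAction G Ω] {g : ℕ → G} {pt : ℕ → Ω}
    (M : Md g pt H15.MM23.P 24 10 H15.MM23.B 10200960) : Iv (gen (wds g H15.IC.M23.p2t_W) 7) (gen (wds g cde_W) 2) :=
  have := M.fin
  iv_self.com.sw (gen_le.2 fun i hi => match i, hi with | 0, _ => com_mem (W := [6]) (b := 5) (by decide) (evA_mem_gen _ (by decide)) (de0 M) (dr0 M) | 1, _ => com_mem (W := [5]) (b := 3) (by decide) (evA_mem_gen _ (by decide)) (de1 M) (dr1 M) | 2, _ => com_mem (W := [5]) (b := 4) (by decide) (evA_mem_gen _ (by decide)) (de2 M) (dr2 M))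
    (com_le (H15.IC.M23.p2_pc M).toPC0 (by decide) (sm_der (H15.IC.M23.p2_sm M).1 H15.IC.M23.p2_p dk)) (cd_eq M).1
    (gen_le.2 fun i hi => match i, hi with | 0, _ => wd0 M | 1, _ => wd1 M)
theorem b_act {G Ω : Type*} [Group G] [MulAction G Ω] {g : ℕ → G} {pt : ℕ → Ω}
    (M : Md g pt H15.MM23.P 24 10 H15.MM23.B 10200960) : Act (wds g b_W) pt b_P 24 4 :=
  M.wact b_lt
theorem cbth_act {G Ω : Type*} [Group G] [MulAction G Ω] {g : ℕ → G} {pt : ℕ → Ω}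
    (M : Md g pt H15.MM23.P 24 10 H15.MM23.B 10200960) : Act (wds g cbth_W) pt cbth_P 24 14 :=
  M.wact cbth_lt
theorem cbtl0_e : ∀ i < 22, (dent cbtl0 cbth_P (nat_lit 24)) i = 0 := allZ_sound0 cbtl0_e_0
theorem cbtl0_ok : DOK cbtl0 cbth_P 24 := ⟨cbtl0_h, cbtl0_e⟩
theorem cbtl1_e : ∀ i < 21, (dent cbtl1 cbth_P (nat_lit 24)) i = 0 := allZ_sound0 cbtl1_e_0
theorem cbtl1_ok : DOK cbtl1 cbth_P 24 := ⟨cbtl1_h, cbtl1_e⟩
theorem cbtl2_e : ∀ i < 20, (dent cbtl2 cbth_P (nat_lit 24)) i = 0 := allZ_sound0 cbtl2_e_0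
theorem cbtl2_ok : DOK cbtl2 cbth_P 24 := ⟨cbtl2_h, cbtl2_e⟩
theorem cbtl3_e : ∀ i < 19, (dent cbtl3 cbth_P (nat_lit 24)) i = 0 := allZ_sound0 cbtl3_e_0
theorem cbtl3_ok : DOK cbtl3 cbth_P 24 := ⟨cbtl3_h, cbtl3_e⟩
theorem cbtl4_e : ∀ i < 15, (dent cbtl4 cbth_P (nat_lit 24)) i = 0 := allZ_sound0 cbtl4_e_0
theorem cbtl4_ok : DOK cbtl4 cbth_P 24 := ⟨cbtl4_h, cbtl4_e⟩
theorem cbtl5_e : ∀ i < 2, (dent cbtl5 cbth_P (nat_lit 24)) i = 0 := allZ_sound0 cbtl5_e_0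
theorem cbtl5_ok : DOK cbtl5 cbth_P 24 := ⟨cbtl5_h, cbtl5_e⟩
theorem cbt_low {G Ω : Type*} [Group G] [MulAction G Ω] {g : ℕ → G} {pt : ℕ → Ω}
    (M : Md g pt H15.MM23.P 24 10 H15.MM23.B 10200960) : SLow (gi (wds g cbth_W)) pt 24 [cbtl0, cbtl1, cbtl2, cbtl3, cbtl4, cbtl5] :=
  ((((((SLow.nil).cons cbtl5_ok (cbth_act M) cbt_f5).cons cbtl4_ok (cbth_act M) cbt_f4).cons cbtl3_ok (cbth_act M) cbt_f3).cons cbtl2_ok (cbth_act M) cbt_f2).cons cbtl1_ok (cbth_act M) cbt_f1).cons cbtl0_ok (cbth_act M) cbt_f0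
theorem cbt_S0 {G Ω : Type*} [Group G] [MulAction G Ω] {g : ℕ → G} {pt : ℕ → Ω}
    (M : Md g pt H15.MM23.P 24 10 H15.MM23.B 10200960) : Stage ⊤ (wds g cbth_W) pt 24 [cbtl0, cbtl1, cbtl2, cbtl3, cbtl4, cbtl5] [] :=
  M.stage (cbt_low M) cbt_c
theorem cbt_S1 {G Ω : Type*} [Group G] [MulAction G Ω] {g : ℕ → G} {pt : ℕ → Ω}
    (M : Md g pt H15.MM23.P 24 10 H15.MM23.B 10200960) : Stage ⊤ (wds g cbth_W) pt 24 [cbtl1, cbtl2, cbtl3, cbtl4, cbtl5] [cbtl0.Pt 0] :=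
  (cbt_S0 M).next
theorem cbt_S2 {G Ω : Type*} [Group G] [MulAction G Ω] {g : ℕ → G} {pt : ℕ → Ω}
    (M : Md g pt H15.MM23.P 24 10 H15.MM23.B 10200960) : Stage ⊤ (wds g cbth_W) pt 24 [cbtl2, cbtl3, cbtl4, cbtl5] [cbtl1.Pt 0, cbtl0.Pt 0] :=
  (cbt_S1 M).next
theorem cbt_S3 {G Ω : Type*} [Group G] [MulAction G Ω] {g : ℕ → G} {pt : ℕ → Ω}
    (M : Md g pt H15.MM23.P 24 10 H15.MM23.B 10200960) : Stage ⊤ (wds g cbth_W) pt 24 [cbtl3, cbtl4, cbtl5] [cbtl2.Pt 0, cbtl1.Pt 0, cbtl0.Pt 0] :=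
  (cbt_S2 M).next
theorem cbt_S4 {G Ω : Type*} [Group G] [MulAction G Ω] {g : ℕ → G} {pt : ℕ → Ω}
    (M : Md g pt H15.MM23.P 24 10 H15.MM23.B 10200960) : Stage ⊤ (wds g cbth_W) pt 24 [cbtl4, cbtl5] [cbtl3.Pt 0, cbtl2.Pt 0, cbtl1.Pt 0, cbtl0.Pt 0] :=
  (cbt_S3 M).next
theorem cbt_S5 {G Ω : Type*} [Group G] [MulAction G Ω] {g : ℕ → G} {pt : ℕ → Ω}
    (M : Md g pt H15.MM23.P 24 10 H15.MM23.B 10200960) : Stage ⊤ (wds g cbth_W) pt 24 [cbtl5] [cbtl4.Pt 0, cbtl3.Pt 0, cbtl2.Pt 0, cbtl1.Pt 0, cbtl0.Pt 0] :=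
  (cbt_S4 M).next
theorem cbt_S6 {G Ω : Type*} [Group G] [MulAction G Ω] {g : ℕ → G} {pt : ℕ → Ω}
    (M : Md g pt H15.MM23.P 24 10 H15.MM23.B 10200960) : Stage ⊤ (wds g cbth_W) pt 24 [] [cbtl5.Pt 0, cbtl4.Pt 0, cbtl3.Pt 0, cbtl2.Pt 0, cbtl1.Pt 0, cbtl0.Pt 0] :=
  (cbt_S5 M).next
theorem cbe_act {G Ω : Type*} [Group G] [MulAction G Ω] {g : ℕ → G} {pt : ℕ → Ω}
    (M : Md g pt H15.MM23.P 24 10 H15.MM23.B 10200960) : Act (wds g cbe_W) pt cbe_P 24 4 :=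
  M.wact cbe_lt
theorem cbc4_e : ∀ i < 3, (dent cbc4 cbe_P (nat_lit 24)) i = 0 := allZ_sound0 cbc4_e_0
theorem cbc4_ok : DOK cbc4 cbe_P 24 := ⟨cbc4_h, cbc4_e⟩
theorem cbtn0_1 : ∀ i < 16, (cbtn0.ent H15.MM23.P cbth_P b_P b_P cbe_P (nat_lit 10) (nat_lit 4) H15.MM23.B cbtl4 [cbtl5] (memO cbc4)) i = 0 := allZ_sound0 cbtn0_1_0
theorem cbtn0_t {G Ω : Type*} [Group G] [MulAction G Ω] {g : ℕ → G} {pt : ℕ → Ω}
    (M : Md g pt H15.MM23.P 24 10 H15.MM23.B 10200960) : TrO (gen (wds g cbth_W) cbtl4.K) (wds g b_W) (wds g b_W) 4 pt 24 (cbtl4.Pt 0) (memO cbc4) :=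
  node M (cbt_S4 M) (cbth_act M) (b_act M) (b_act M) cbtn0 ((cbe_act M).mono (by decide)) (fun _ _ => trivial) cbtn0_0 cbtn0_1 (List.forall_mem_nil _)
theorem cbc0_e : ∀ i < 3, (dent cbc0 cbe_P (nat_lit 24)) i = 0 := allZ_sound0 cbc0_e_0
theorem cbc0_ok : DOK cbc0 cbe_P 24 := ⟨cbc0_h, cbc0_e⟩
theorem cbtn1_1 : ∀ i < 23, (cbtn1.ent H15.MM23.P cbth_P b_P b_P cbe_P (nat_lit 10) (nat_lit 4) H15.MM23.B cbtl0 [cbtl1, cbtl2, cbtl3, cbtl4, cbtl5] (memO cbc0)) i = 0 := allZ_sound0 cbtn1_1_0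
theorem cbtn1_t {G Ω : Type*} [Group G] [MulAction G Ω] {g : ℕ → G} {pt : ℕ → Ω}
    (M : Md g pt H15.MM23.P 24 10 H15.MM23.B 10200960) : TrO (gen (wds g cbth_W) cbtl0.K) (wds g b_W) (wds g b_W) 4 pt 24 (cbtl0.Pt 0) (memO cbc0) :=
  node M (cbt_S0 M) (cbth_act M) (b_act M) (b_act M) cbtn1 ((cbe_act M).mono (by decide)) (fun _ _ => trivial) cbtn1_0 cbtn1_1 (List.forall_mem_nil _)
theorem cb {G Ω : Type*} [Group G] [MulAction G Ω] {g : ℕ → G} {pt : ℕ → Ω}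
    (M : Md g pt H15.MM23.P 24 10 H15.MM23.B 10200960) : Cen ⊤ (wds g b_W) 4 (wds g cbe_W) pt 24 [cbc0, cbc4] :=
  (cbt_S0 M).top ▸ Cen.lev M (cbt_S0 M) (Cen.triv (cbt_S1 M) (Cen.triv (cbt_S2 M) (Cen.triv (cbt_S3 M) (Cen.lev M (cbt_S4 M) (Cen.triv (cbt_S5 M) (Cen.bot) (forced (cbt_S5 M) (cbth_act M) (b_act M) _ _ cb_f5)) (cbtn0_t M) (b_act M) (cbe_act M) (fun _ _ => trivial) cbc4_ok cb_f4) (forced (cbt_S3 M) (cbth_act M) (b_act M) _ _ cb_f3)) (forced (cbt_S2 M) (cbth_act M) (b_act M) _ _ cb_f2)) (forced (cbt_S1 M) (cbth_act M) (b_act M) _ _ cb_f1)) (cbtn1_t M) (b_act M) (cbe_act M) (fun _ _ => trivial) cbc0_ok cb_f0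
theorem cb_eq {G Ω : Type*} [Group G] [MulAction G Ω] {g : ℕ → G} {pt : ℕ → Ω}
    (M : Md g pt H15.MM23.P 24 10 H15.MM23.B 10200960) : Subgroup.centralizer (gen (wds g b_W) 4) = gen (wds g cbe_W) 4 ∧ Nat.card (gen (wds g cbe_W) 4) = 16 :=
  cb_c.1 ▸ cb_c.2 ▸ ⟨(cb M).cent, (cb M).card M.inj⟩
theorem bU {G Ω : Type*} [Group G] [MulAction G Ω] {g : ℕ → G} {pt : ℕ → Ω}
    (M : Md g pt H15.MM23.P 24 10 H15.MM23.B 10200960) : gen (wds g b_W) 4 ≤ gen (wds g H15.IC.M23.p2t_W) 7 :=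
  M.gen_le (H15.IC.M23.p2t_act M) (b_act M) bU_k
theorem cB {G Ω : Type*} [Group G] [MulAction G Ω] {g : ℕ → G} {pt : ℕ → Ω}
    (M : Md g pt H15.MM23.P 24 10 H15.MM23.B 10200960) : gen (wds g cbe_W) 4 ≤ gen (wds g b_W) 4 :=
  M.gen_le (b_act M) (cbe_act M) cB_k
theorem cA {G Ω : Type*} [Group G] [MulAction G Ω] {g : ℕ → G} {pt : ℕ → Ω}
    (M : Md g pt H15.MM23.P 24 10 H15.MM23.B 10200960) : gen (wds g cve_W) 4 ≤ gen (wds g v_W) 4 :=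
  M.gen_le (v_act M) (cve_act M) cA_k
theorem bw0_k : ∀ i < 2, (cmEnt cde_P b_P (nat_lit 2) H15.MM23.B (nat_lit 0)) i = 0 := allZ_sound0 bw0_k_0
theorem bw0 {G Ω : Type*} [Group G] [MulAction G Ω] {g : ℕ → G} {pt : ℕ → Ω}
    (M : Md g pt H15.MM23.P 24 10 H15.MM23.B 10200960) : (wds g b_W) 0 ∈ Subgroup.centralizer ((gen (wds g cde_W) 2) : Set G) :=
  cms M (cde_act M) (b_act M) (by decide) bw0_k
theorem bw1_k : ∀ i < 2, (cmEnt cde_P b_P (nat_lit 2) H15.MM23.B (nat_lit 1)) i = 0 := allZ_sound0 bw1_k_0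
theorem bw1 {G Ω : Type*} [Group G] [MulAction G Ω] {g : ℕ → G} {pt : ℕ → Ω}
    (M : Md g pt H15.MM23.P 24 10 H15.MM23.B 10200960) : (wds g b_W) 1 ∈ Subgroup.centralizer ((gen (wds g cde_W) 2) : Set G) :=
  cms M (cde_act M) (b_act M) (by decide) bw1_k
theorem bw2_k : ∀ i < 2, (cmEnt cde_P b_P (nat_lit 2) H15.MM23.B (nat_lit 2)) i = 0 := allZ_sound0 bw2_k_0
theorem bw2 {G Ω : Type*} [Group G] [MulAction G Ω] {g : ℕ → G} {pt : ℕ → Ω}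
    (M : Md g pt H15.MM23.P 24 10 H15.MM23.B 10200960) : (wds g b_W) 2 ∈ Subgroup.centralizer ((gen (wds g cde_W) 2) : Set G) :=
  cms M (cde_act M) (b_act M) (by decide) bw2_k
theorem bw3_k : ∀ i < 2, (cmEnt cde_P b_P (nat_lit 2) H15.MM23.B (nat_lit 3)) i = 0 := allZ_sound0 bw3_k_0
theorem bw3 {G Ω : Type*} [Group G] [MulAction G Ω] {g : ℕ → G} {pt : ℕ → Ω}
    (M : Md g pt H15.MM23.P 24 10 H15.MM23.B 10200960) : (wds g b_W) 3 ∈ Subgroup.centralizer ((gen (wds g cde_W) 2) : Set G) :=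
  cms M (cde_act M) (b_act M) (by decide) bw3_k
theorem bw {G Ω : Type*} [Group G] [MulAction G Ω] {g : ℕ → G} {pt : ℕ → Ω}
    (M : Md g pt H15.MM23.P 24 10 H15.MM23.B 10200960) : (gen (wds g b_W) 4) ≤ Subgroup.centralizer ((gen (wds g cde_W) 2) : Set G) :=
  gen_le.2 fun i hi => match i, hi with | 0, _ => bw0 M | 1, _ => bw1 M | 2, _ => bw2 M | 3, _ => bw3 M
theorem bb0_k : ∀ i < 4, (cmEnt b_P b_P (nat_lit 4) H15.MM23.B (nat_lit 0)) i = 0 := allZ_sound0 bb0_k_0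
theorem bb0 {G Ω : Type*} [Group G] [MulAction G Ω] {g : ℕ → G} {pt : ℕ → Ω}
    (M : Md g pt H15.MM23.P 24 10 H15.MM23.B 10200960) : (wds g b_W) 0 ∈ Subgroup.centralizer ((gen (wds g b_W) 4) : Set G) :=
  cms M (b_act M) (b_act M) (by decide) bb0_k
theorem bb1_k : ∀ i < 4, (cmEnt b_P b_P (nat_lit 4) H15.MM23.B (nat_lit 1)) i = 0 := allZ_sound0 bb1_k_0
theorem bb1 {G Ω : Type*} [Group G] [MulAction G Ω] {g : ℕ → G} {pt : ℕ → Ω}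
    (M : Md g pt H15.MM23.P 24 10 H15.MM23.B 10200960) : (wds g b_W) 1 ∈ Subgroup.centralizer ((gen (wds g b_W) 4) : Set G) :=
  cms M (b_act M) (b_act M) (by decide) bb1_k
theorem bb2_k : ∀ i < 4, (cmEnt b_P b_P (nat_lit 4) H15.MM23.B (nat_lit 2)) i = 0 := allZ_sound0 bb2_k_0
theorem bb2 {G Ω : Type*} [Group G] [MulAction G Ω] {g : ℕ → G} {pt : ℕ → Ω}
    (M : Md g pt H15.MM23.P 24 10 H15.MM23.B 10200960) : (wds g b_W) 2 ∈ Subgroup.centralizer ((gen (wds g b_W) 4) : Set G) :=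
  cms M (b_act M) (b_act M) (by decide) bb2_k
theorem bb3_k : ∀ i < 4, (cmEnt b_P b_P (nat_lit 4) H15.MM23.B (nat_lit 3)) i = 0 := allZ_sound0 bb3_k_0
theorem bb3 {G Ω : Type*} [Group G] [MulAction G Ω] {g : ℕ → G} {pt : ℕ → Ω}
    (M : Md g pt H15.MM23.P 24 10 H15.MM23.B 10200960) : (wds g b_W) 3 ∈ Subgroup.centralizer ((gen (wds g b_W) 4) : Set G) :=
  cms M (b_act M) (b_act M) (by decide) bb3_k
theorem bb {G Ω : Type*} [Group G] [MulAction G Ω] {g : ℕ → G} {pt : ℕ → Ω}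
    (M : Md g pt H15.MM23.P 24 10 H15.MM23.B 10200960) : (gen (wds g b_W) 4) ≤ Subgroup.centralizer ((gen (wds g b_W) 4) : Set G) :=
  gen_le.2 fun i hi => match i, hi with | 0, _ => bb0 M | 1, _ => bb1 M | 2, _ => bb2 M | 3, _ => bb3 M
theorem aa0_k : ∀ i < 4, (cmEnt v_P v_P (nat_lit 4) H15.MM23.B (nat_lit 0)) i = 0 := allZ_sound0 aa0_k_0
theorem aa0 {G Ω : Type*} [Group G] [MulAction G Ω] {g : ℕ → G} {pt : ℕ → Ω}
    (M : Md g pt H15.MM23.P 24 10 H15.MM23.B 10200960) : (wds g v_W) 0 ∈ Subgroup.centralizer ((gen (wds g v_W) 4) : Set G) :=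
  cms M (v_act M) (v_act M) (by decide) aa0_k
theorem aa1_k : ∀ i < 4, (cmEnt v_P v_P (nat_lit 4) H15.MM23.B (nat_lit 1)) i = 0 := allZ_sound0 aa1_k_0
theorem aa1 {G Ω : Type*} [Group G] [MulAction G Ω] {g : ℕ → G} {pt : ℕ → Ω}
    (M : Md g pt H15.MM23.P 24 10 H15.MM23.B 10200960) : (wds g v_W) 1 ∈ Subgroup.centralizer ((gen (wds g v_W) 4) : Set G) :=
  cms M (v_act M) (v_act M) (by decide) aa1_k
theorem aa2_k : ∀ i < 4, (cmEnt v_P v_P (nat_lit 4) H15.MM23.B (nat_lit 2)) i = 0 := allZ_sound0 aa2_k_0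
theorem aa2 {G Ω : Type*} [Group G] [MulAction G Ω] {g : ℕ → G} {pt : ℕ → Ω}
    (M : Md g pt H15.MM23.P 24 10 H15.MM23.B 10200960) : (wds g v_W) 2 ∈ Subgroup.centralizer ((gen (wds g v_W) 4) : Set G) :=
  cms M (v_act M) (v_act M) (by decide) aa2_k
theorem aa3_k : ∀ i < 4, (cmEnt v_P v_P (nat_lit 4) H15.MM23.B (nat_lit 3)) i = 0 := allZ_sound0 aa3_k_0
theorem aa3 {G Ω : Type*} [Group G] [MulAction G Ω] {g : ℕ → G} {pt : ℕ → Ω}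
    (M : Md g pt H15.MM23.P 24 10 H15.MM23.B 10200960) : (wds g v_W) 3 ∈ Subgroup.centralizer ((gen (wds g v_W) 4) : Set G) :=
  cms M (v_act M) (v_act M) (by decide) aa3_k
theorem aa {G Ω : Type*} [Group G] [MulAction G Ω] {g : ℕ → G} {pt : ℕ → Ω}
    (M : Md g pt H15.MM23.P 24 10 H15.MM23.B 10200960) : (gen (wds g v_W) 4) ≤ Subgroup.centralizer ((gen (wds g v_W) 4) : Set G) :=
  gen_le.2 fun i hi => match i, hi with | 0, _ => aa0 M | 1, _ => aa1 M | 2, _ => aa2 M | 3, _ => aa3 M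
theorem b20 {G Ω : Type*} [Group G] [MulAction G Ω] {g : ℕ → G} {pt : ℕ → Ω}
    (M : Md g pt H15.MM23.P 24 10 H15.MM23.B 10200960) : (wds g b_W) 0 ^ 2 = 1 :=
  M.pw (b_act M) b20_k
theorem b21 {G Ω : Type*} [Group G] [MulAction G Ω] {g : ℕ → G} {pt : ℕ → Ω}
    (M : Md g pt H15.MM23.P 24 10 H15.MM23.B 10200960) : (wds g b_W) 1 ^ 2 = 1 :=
  M.pw (b_act M) b21_k
theorem b22 {G Ω : Type*} [Group G] [MulAction G Ω] {g : ℕ → G} {pt : ℕ → Ω}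
    (M : Md g pt H15.MM23.P 24 10 H15.MM23.B 10200960) : (wds g b_W) 2 ^ 2 = 1 :=
  M.pw (b_act M) b22_k
theorem b23 {G Ω : Type*} [Group G] [MulAction G Ω] {g : ℕ → G} {pt : ℕ → Ω}
    (M : Md g pt H15.MM23.P 24 10 H15.MM23.B 10200960) : (wds g b_W) 3 ^ 2 = 1 :=
  M.pw (b_act M) b23_k
theorem gw0 {G Ω : Type*} [Group G] [MulAction G Ω] {g : ℕ → G} {pt : ℕ → Ω}
    (M : Md g pt H15.MM23.P 24 10 H15.MM23.B 10200960) : (wds g cde_W) 0 = evA (wds g H15.IC.M23.p2t_W) [0] ∧ (wds g cde_W) 0 ∈ gen (wds g H15.IC.M23.p2t_W) 7 :=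
  M.eqw (H15.IC.M23.p2t_act M) (cde_act M) (by decide) gw0_k
theorem gw1 {G Ω : Type*} [Group G] [MulAction G Ω] {g : ℕ → G} {pt : ℕ → Ω}
    (M : Md g pt H15.MM23.P 24 10 H15.MM23.B 10200960) : (wds g cde_W) 1 = evA (wds g H15.IC.M23.p2t_W) [1] ∧ (wds g cde_W) 1 ∈ gen (wds g H15.IC.M23.p2t_W) 7 :=
  M.eqw (H15.IC.M23.p2t_act M) (cde_act M) (by decide) gw1_k
theorem gw {G Ω : Type*} [Group G] [MulAction G Ω] {g : ℕ → G} {pt : ℕ → Ω}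
    (M : Md g pt H15.MM23.P 24 10 H15.MM23.B 10200960) : (gen (wds g cde_W) 2) = gen (wds (wds g H15.IC.M23.p2t_W) gwL) gwL.length :=
  have := M.fin
  gen_eq (L := gwL) fun i (hi : i < 2) => match i, hi with | 0, _ => (gw0 M).1 | 1, _ => (gw1 M).1
theorem ga0 {G Ω : Type*} [Group G] [MulAction G Ω] {g : ℕ → G} {pt : ℕ → Ω}
    (M : Md g pt H15.MM23.P 24 10 H15.MM23.B 10200960) : (wds g v_W) 0 = evA (wds g H15.IC.M23.p2t_W) [1, 2, 4] ∧ (wds g v_W) 0 ∈ gen (wds g H15.IC.M23.p2t_W) 7 :=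
  M.eqw (H15.IC.M23.p2t_act M) (v_act M) (by decide) ga0_k
theorem ga1 {G Ω : Type*} [Group G] [MulAction G Ω] {g : ℕ → G} {pt : ℕ → Ω}
    (M : Md g pt H15.MM23.P 24 10 H15.MM23.B 10200960) : (wds g v_W) 1 = evA (wds g H15.IC.M23.p2t_W) [0, 1, 2, 4] ∧ (wds g v_W) 1 ∈ gen (wds g H15.IC.M23.p2t_W) 7 :=
  M.eqw (H15.IC.M23.p2t_act M) (v_act M) (by decide) ga1_k
theorem ga2 {G Ω : Type*} [Group G] [MulAction G Ω] {g : ℕ → G} {pt : ℕ → Ω}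
    (M : Md g pt H15.MM23.P 24 10 H15.MM23.B 10200960) : (wds g v_W) 2 = evA (wds g H15.IC.M23.p2t_W) [0, 2] ∧ (wds g v_W) 2 ∈ gen (wds g H15.IC.M23.p2t_W) 7 :=
  M.eqw (H15.IC.M23.p2t_act M) (v_act M) (by decide) ga2_k
theorem ga3 {G Ω : Type*} [Group G] [MulAction G Ω] {g : ℕ → G} {pt : ℕ → Ω}
    (M : Md g pt H15.MM23.P 24 10 H15.MM23.B 10200960) : (wds g v_W) 3 = evA (wds g H15.IC.M23.p2t_W) [2, 4] ∧ (wds g v_W) 3 ∈ gen (wds g H15.IC.M23.p2t_W) 7 :=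
  M.eqw (H15.IC.M23.p2t_act M) (v_act M) (by decide) ga3_k
theorem ga {G Ω : Type*} [Group G] [MulAction G Ω] {g : ℕ → G} {pt : ℕ → Ω}
    (M : Md g pt H15.MM23.P 24 10 H15.MM23.B 10200960) : (gen (wds g v_W) 4) = gen (wds (wds g H15.IC.M23.p2t_W) gaL) gaL.length :=
  have := M.fin
  gen_eq (L := gaL) fun i (hi : i < 4) => match i, hi with | 0, _ => (ga0 M).1 | 1, _ => (ga1 M).1 | 2, _ => (ga2 M).1 | 3, _ => (ga3 M).1
theorem gb0 {G Ω : Type*} [Group G] [MulAction G Ω] {g : ℕ → G} {pt : ℕ → Ω}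
    (M : Md g pt H15.MM23.P 24 10 H15.MM23.B 10200960) : (wds g b_W) 0 = evA (wds g H15.IC.M23.p2t_W) [1, 2, 5, 6] ∧ (wds g b_W) 0 ∈ gen (wds g H15.IC.M23.p2t_W) 7 :=
  M.eqw (H15.IC.M23.p2t_act M) (b_act M) (by decide) gb0_k
theorem gb1 {G Ω : Type*} [Group G] [MulAction G Ω] {g : ℕ → G} {pt : ℕ → Ω}
    (M : Md g pt H15.MM23.P 24 10 H15.MM23.B 10200960) : (wds g b_W) 1 = evA (wds g H15.IC.M23.p2t_W) [0, 1, 2, 5, 6] ∧ (wds g b_W) 1 ∈ gen (wds g H15.IC.M23.p2t_W) 7 :=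
  M.eqw (H15.IC.M23.p2t_act M) (b_act M) (by decide) gb1_k
theorem gb2 {G Ω : Type*} [Group G] [MulAction G Ω] {g : ℕ → G} {pt : ℕ → Ω}
    (M : Md g pt H15.MM23.P 24 10 H15.MM23.B 10200960) : (wds g b_W) 2 = evA (wds g H15.IC.M23.p2t_W) [0, 1, 3, 5, 6] ∧ (wds g b_W) 2 ∈ gen (wds g H15.IC.M23.p2t_W) 7 :=
  M.eqw (H15.IC.M23.p2t_act M) (b_act M) (by decide) gb2_k
theorem gb3 {G Ω : Type*} [Group G] [MulAction G Ω] {g : ℕ → G} {pt : ℕ → Ω}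
    (M : Md g pt H15.MM23.P 24 10 H15.MM23.B 10200960) : (wds g b_W) 3 = evA (wds g H15.IC.M23.p2t_W) [1, 2, 3] ∧ (wds g b_W) 3 ∈ gen (wds g H15.IC.M23.p2t_W) 7 :=
  M.eqw (H15.IC.M23.p2t_act M) (b_act M) (by decide) gb3_k
theorem gb {G Ω : Type*} [Group G] [MulAction G Ω] {g : ℕ → G} {pt : ℕ → Ω}
    (M : Md g pt H15.MM23.P 24 10 H15.MM23.B 10200960) : (gen (wds g b_W) 4) = gen (wds (wds g H15.IC.M23.p2t_W) gbL) gbL.length :=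
  have := M.fin
  gen_eq (L := gbL) fun i (hi : i < 4) => match i, hi with | 0, _ => (gb0 M).1 | 1, _ => (gb1 M).1 | 2, _ => (gb2 M).1 | 3, _ => (gb3 M).1
theorem tk : ∀ i < 128, (twoEnt H15.IC.M23.p2t_P (nat_lit 7) H15.MM23.B gwL gaL gbL) i = 0 := range_glue (allZ_sound0 tk_0) tk_1
theorem all {G Ω : Type*} [Group G] [MulAction G Ω] {g : ℕ → G} {pt : ℕ → Ω}
    (M : Md g pt H15.MM23.P 24 10 H15.MM23.B 10200960) : ∀ u ∈ (gen (wds g H15.IC.M23.p2t_W) 7), u * u = 1 → u ∈ Subgroup.centralizer ((gen (wds g cde_W) 2) : Set G) → u ∈ Subgroup.centralizer ((gen (wds g v_W) 4) : Set G) ∨ u ∈ Subgroup.centralizer ((gen (wds g b_W) 4) : Set G) :=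
  by
    rw [gw M, ga M, gb M]; exact two_all M (H15.IC.M23.p2t_act M) (H15.IC.M23.p2_pc M) tl tk
theorem s_act {G Ω : Type*} [Group G] [MulAction G Ω] {g : ℕ → G} {pt : ℕ → Ω}
    (M : Md g pt H15.MM23.P 24 10 H15.MM23.B 10200960) : Act (wds g s_W) pt s_P 24 5 :=
  M.wact s_lt
theorem s1 {G Ω : Type*} [Group G] [MulAction G Ω] {g : ℕ → G} {pt : ℕ → Ω}
    (M : Md g pt H15.MM23.P 24 10 H15.MM23.B 10200960) : evA (wds g s_W) [0, 1] = evA (wds g s_W) [1, 0] :=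
  M.eq_of (s_act M) s1_k
theorem s2 {G Ω : Type*} [Group G] [MulAction G Ω] {g : ℕ → G} {pt : ℕ → Ω}
    (M : Md g pt H15.MM23.P 24 10 H15.MM23.B 10200960) : evA (wds g s_W) [2, 1] = evA (wds g s_W) [1, 4] :=
  M.eq_of (s_act M) s2_k
theorem s3 {G Ω : Type*} [Group G] [MulAction G Ω] {g : ℕ → G} {pt : ℕ → Ω}
    (M : Md g pt H15.MM23.P 24 10 H15.MM23.B 10200960) : evA (wds g s_W) [4, 3] ≠ evA (wds g s_W) [3, 4] :=
  M.nrel (s_act M) _ s3_k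
theorem ivb {G Ω : Type*} [Group G] [MulAction G Ω] {g : ℕ → G} {pt : ℕ → Ω}
    (M : Md g pt H15.MM23.P 24 10 H15.MM23.B 10200960) : Iv (gen (wds g H15.IC.M23.p2t_W) 7) (gen (wds g b_W) 4) :=
  have := M.fin
  (z0 M).two (y := (wds g s_W) 1) (b := (wds g s_W) 2) (c := (wds g s_W) 3) (g := (wds g s_W) 4) (ivw M) (bU M) (bw M)
    (sq_gen (bb M) fun i hi => match i, hi with | 0, _ => b20 M | 1, _ => b21 M | 2, _ => b22 M | 3, _ => b23 M)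
    ((cv_eq M).1.le.trans (cA M)) ((cb_eq M).1.le.trans (cB M)) (aa M) (((congrArg (fun H : Subgroup G => Nat.card H) (cv_eq M).1).trans (cv_eq M).2).trans ((congrArg (fun H : Subgroup G => Nat.card H) (cb_eq M).1).trans (cb_eq M).2).symm) (all M) ((cz M).le.trans (nv M))
    (H19.mem_cent1.2 (show (wds g s_W) 1 * (wds g s_W) 0 = (wds g s_W) 0 * (wds g s_W) 1 by simpa using s1 M)) (mem_gen (wds g b_W) (k := 0) (by decide)) (mem_gen (wds g b_W) (k := 0) (by decide))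
    (by simpa using s2 M) (by simpa using s3 M) (bb M)
theorem wU {G Ω : Type*} [Group G] [MulAction G Ω] {g : ℕ → G} {pt : ℕ → Ω}
    (M : Md g pt H15.MM23.P 24 10 H15.MM23.B 10200960) : gen (wds g b_W) 4 ≤ gen (wds g H15.IC.M23.p2t_W) 7 :=
  M.gen_le (H15.IC.M23.p2t_act M) (b_act M) wU_k
theorem zW {G Ω : Type*} [Group G] [MulAction G Ω] {g : ℕ → G} {pt : ℕ → Ω}
    (M : Md g pt H15.MM23.P 24 10 H15.MM23.B 10200960) : (wds g H15.IC.M23.c0ax_W) 0 = evA (wds g b_W) [0, 1] ∧ (wds g H15.IC.M23.c0ax_W) 0 ∈ gen (wds g b_W) 4 :=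
  M.eqw (b_act M) (H15.IC.M23.c0ax_act M) (by decide) zW_k
theorem f_act {G Ω : Type*} [Group G] [MulAction G Ω] {g : ℕ → G} {pt : ℕ → Ω}
    (M : Md g pt H15.MM23.P 24 10 H15.MM23.B 10200960) : Act (wds g f_W) pt f_P 24 4 :=
  M.wact f_lt
theorem f1 {G Ω : Type*} [Group G] [MulAction G Ω] {g : ℕ → G} {pt : ℕ → Ω}
    (M : Md g pt H15.MM23.P 24 10 H15.MM23.B 10200960) : (wds g f_W) 1 ∈ Subgroup.normalizer (gen (wds g b_W) 4 : Set G) :=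
  M.norm (b_act M) (f_act M) (by decide) f1_k
theorem f2 {G Ω : Type*} [Group G] [MulAction G Ω] {g : ℕ → G} {pt : ℕ → Ω}
    (M : Md g pt H15.MM23.P 24 10 H15.MM23.B 10200960) : evA (wds g f_W) [0, 2] = evA (wds g f_W) [2, 0] :=
  M.eq_of (f_act M) f2_k
theorem f3 {G Ω : Type*} [Group G] [MulAction G Ω] {g : ℕ → G} {pt : ℕ → Ω}
    (M : Md g pt H15.MM23.P 24 10 H15.MM23.B 10200960) : evA (wds g f_W) [0, 1, 2, 1] = evA (wds g f_W) [1, 2, 1, 3] :=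
  M.eq_of (f_act M) f3_k
theorem f4 {G Ω : Type*} [Group G] [MulAction G Ω] {g : ℕ → G} {pt : ℕ → Ω}
    (M : Md g pt H15.MM23.P 24 10 H15.MM23.B 10200960) : evA (wds g f_W) [3, 0] ≠ evA (wds g f_W) [0, 3] :=
  M.nrel (f_act M) _ f4_k
theorem kg {G Ω : Type*} [Group G] [MulAction G Ω] {g : ℕ → G} {pt : ℕ → Ω}
    (M : Md g pt H15.MM23.P 24 10 H15.MM23.B 10200960) : H18.UB.KG G :=
  have := M.fin
  kg4 (f := (wds g f_W)) (L := [1, 2, 1]) (z0 M) (ivb M) (wU M) (zW M).2 (f1 M) (f2 M) (by decide) (f3 M) (f4 M)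
theorem spor : H18.UB.KG Cfsg.Spor.M23 := by
  obtain ⟨_, g, M, -⟩ := H15.IC.M23.md (MulEquiv.subgroupCongr H15.MM23.gen_eq)
  exact kg M

end H15.UB.M23
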