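import Cfsg.Agent.H15.UB.Ru.C0
import Cfsg.Agent.H15.UB.Ru.C1

/-! Generated by tools/h15/ub/gk.py (kit tools/h0/tr). -/

set_option maxRecDepth 100000
set_option maxHeartbeats 0

namespace H15.UB.Ru
open H16 H0.TR
open H15.QS H15.UB
open scoped commutatorElement Pointwise

theorem cz {G Ω : Type*} [Group G] [MulAction G Ω] {g : ℕ → G} {pt : ℕ → Ω}
    (M : Md g pt H15.Ru.P 4060 7 H15.Ru.B 145926144000) : Subgroup.centralizer {(wds g H15.IC.Ru.c0ax_W) 0} = (gen (wds g H15.IC.Ru.c0ace_W) 11) :=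
  H15.IC.Ru.c0ac_c.2 ▸ (H15.IC.Ru.c0ac M).cent1
theorem zU {G Ω : Type*} [Group G] [MulAction G Ω] {g : ℕ → G} {pt : ℕ → Ω}
    (M : Md g pt H15.Ru.P 4060 7 H15.Ru.B 145926144000) : (wds g H15.IC.Ru.c0ax_W) 0 = evA (wds g H8.RU.st_W) [0] ∧ (wds g H15.IC.Ru.c0ax_W) 0 ∈ gen (wds g H8.RU.st_W) 14 :=
  M.eqw (H8.RU.st_act M) (H15.IC.Ru.c0ax_act M) (by decide) zU_k
theorem Uz_k : ∀ i < 14, (cmEnt H8.RU.st_P H15.IC.Ru.c0ax_P (nat_lit 14) H15.Ru.B (nat_lit 0)) i = 0 := allZ_sound0 Uz_k_0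
theorem Uz {G Ω : Type*} [Group G] [MulAction G Ω] {g : ℕ → G} {pt : ℕ → Ω}
    (M : Md g pt H15.Ru.P 4060 7 H15.Ru.B 145926144000) : (wds g H15.IC.Ru.c0ax_W) 0 ∈ Subgroup.centralizer ((gen (wds g H8.RU.st_W) 14) : Set G) :=
  cms M (H8.RU.st_act M) (H15.IC.Ru.c0ax_act M) (by decide) Uz_k
theorem z1 {G Ω : Type*} [Group G] [MulAction G Ω] {g : ℕ → G} {pt : ℕ → Ω}
    (M : Md g pt H15.Ru.P 4060 7 H15.Ru.B 145926144000) : (wds g H15.IC.Ru.c0ax_W) 0 ^ 1 ≠ 1 :=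
  M.npw (H15.IC.Ru.c0ax_act M) _ z1_k
theorem cuth_m_0 : ∀ i < 4060, (matEnt (wdsP H15.Ru.P cuth_W) cuth_P (nat_lit 0)) i = 0 := range_glue (allZ_sound0 cuth_m_0_0) cuth_m_0_1
theorem cuth_m_1 : ∀ i < 4060, (matEnt (wdsP H15.Ru.P cuth_W) cuth_P (nat_lit 1)) i = 0 := allZ_sound0 cuth_m_1_0
theorem cuth_m_2 : ∀ i < 4060, (matEnt (wdsP H15.Ru.P cuth_W) cuth_P (nat_lit 2)) i = 0 := allZ_sound0 cuth_m_2_0
theorem cuth_m_3 : ∀ i < 4060, (matEnt (wdsP H15.Ru.P cuth_W) cuth_P (nat_lit 3)) i = 0 := allZ_sound0 cuth_m_3_0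
theorem cuth_m_4 : ∀ i < 4060, (matEnt (wdsP H15.Ru.P cuth_W) cuth_P (nat_lit 4)) i = 0 := allZ_sound0 cuth_m_4_0
theorem cuth_m_5 : ∀ i < 4060, (matEnt (wdsP H15.Ru.P cuth_W) cuth_P (nat_lit 5)) i = 0 := allZ_sound0 cuth_m_5_0
theorem cuth_m_6 : ∀ i < 4060, (matEnt (wdsP H15.Ru.P cuth_W) cuth_P (nat_lit 6)) i = 0 := allZ_sound0 cuth_m_6_0
theorem cuth_m_7 : ∀ i < 4060, (matEnt (wdsP H15.Ru.P cuth_W) cuth_P (nat_lit 7)) i = 0 := allZ_sound0 cuth_m_7_0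
theorem cuth_m_8 : ∀ i < 4060, (matEnt (wdsP H15.Ru.P cuth_W) cuth_P (nat_lit 8)) i = 0 := allZ_sound0 cuth_m_8_0
theorem cuth_m_9 : ∀ i < 4060, (matEnt (wdsP H15.Ru.P cuth_W) cuth_P (nat_lit 9)) i = 0 := allZ_sound0 cuth_m_9_0
theorem cuth_m_10 : ∀ i < 4060, (matEnt (wdsP H15.Ru.P cuth_W) cuth_P (nat_lit 10)) i = 0 := allZ_sound0 cuth_m_10_0
theorem cuth_m_11 : ∀ i < 4060, (matEnt (wdsP H15.Ru.P cuth_W) cuth_P (nat_lit 11)) i = 0 := allZ_sound0 cuth_m_11_0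
theorem cuth_m_12 : ∀ i < 4060, (matEnt (wdsP H15.Ru.P cuth_W) cuth_P (nat_lit 12)) i = 0 := allZ_sound0 cuth_m_12_0
theorem cuth_m_13 : ∀ i < 4060, (matEnt (wdsP H15.Ru.P cuth_W) cuth_P (nat_lit 13)) i = 0 := allZ_sound0 cuth_m_13_0
theorem cuth_m_14 : ∀ i < 4060, (matEnt (wdsP H15.Ru.P cuth_W) cuth_P (nat_lit 14)) i = 0 := allZ_sound0 cuth_m_14_0
theorem cuth_m_15 : ∀ i < 4060, (matEnt (wdsP H15.Ru.P cuth_W) cuth_P (nat_lit 15)) i = 0 := allZ_sound0 cuth_m_15_0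
theorem cuth_m_16 : ∀ i < 4060, (matEnt (wdsP H15.Ru.P cuth_W) cuth_P (nat_lit 16)) i = 0 := allZ_sound0 cuth_m_16_0
theorem cuth_m_17 : ∀ i < 4060, (matEnt (wdsP H15.Ru.P cuth_W) cuth_P (nat_lit 17)) i = 0 := allZ_sound0 cuth_m_17_0
theorem cuth_m : ∀ k < 18, ∀ i < 4060, (matEnt (wdsP H15.Ru.P cuth_W) cuth_P) k i = 0 :=
  letters_glue (letters_glue (letters_glue (letters_glue (letters_glue (letters_glue (letters_glue (letters_glue (letters_glue (letters_glue (letters_glue (letters_glue (letters_glue (letters_glue (letters_glue (letters_glue (letters_glue (letters_glue (letters_nil) cuth_m_0) cuth_m_1) cuth_m_2) cuth_m_3) cuth_m_4) cuth_m_5) cuth_m_6) cuth_m_7) cuth_m_8) cuth_m_9) cuth_m_10) cuth_m_11) cuth_m_12) cuth_m_13) cuth_m_14) cuth_m_15) cuth_m_16) cuth_m_17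
theorem cuth_act {G Ω : Type*} [Group G] [MulAction G Ω] {g : ℕ → G} {pt : ℕ → Ω}
    (M : Md g pt H15.Ru.P 4060 7 H15.Ru.B 145926144000) : Act (wds g cuth_W) pt cuth_P 4060 18 :=
  act_mat (M.wact cuth_lt) cuth_m
theorem cutl0_e : ∀ i < 4059, (dent cutl0 cuth_P (nat_lit 4060)) i = 0 := allZ_sound0 cutl0_e_0
theorem cutl0_ok : DOK cutl0 cuth_P 4060 := ⟨cutl0_h, cutl0_e⟩
theorem cutl1_e : ∀ i < 1754, (dent cutl1 cuth_P (nat_lit 4060)) i = 0 := allZ_sound0 cutl1_e_0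
theorem cutl1_ok : DOK cutl1 cuth_P 4060 := ⟨cutl1_h, cutl1_e⟩
theorem cutl2_e : ∀ i < 9, (dent cutl2 cuth_P (nat_lit 4060)) i = 0 := allZ_sound0 cutl2_e_0
theorem cutl2_ok : DOK cutl2 cuth_P 4060 := ⟨cutl2_h, cutl2_e⟩
theorem cutl3_e : ∀ i < 7, (dent cutl3 cuth_P (nat_lit 4060)) i = 0 := allZ_sound0 cutl3_e_0
theorem cutl3_ok : DOK cutl3 cuth_P 4060 := ⟨cutl3_h, cutl3_e⟩
theorem cutl4_e : ∀ i < 7, (dent cutl4 cuth_P (nat_lit 4060)) i = 0 := allZ_sound0 cutl4_e_0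
theorem cutl4_ok : DOK cutl4 cuth_P 4060 := ⟨cutl4_h, cutl4_e⟩
theorem cutl5_e : ∀ i < 15, (dent cutl5 cuth_P (nat_lit 4060)) i = 0 := allZ_sound0 cutl5_e_0
theorem cutl5_ok : DOK cutl5 cuth_P 4060 := ⟨cutl5_h, cutl5_e⟩
theorem cutl6_e : ∀ i < 1, (dent cutl6 cuth_P (nat_lit 4060)) i = 0 := allZ_sound0 cutl6_e_0
theorem cutl6_ok : DOK cutl6 cuth_P 4060 := ⟨cutl6_h, cutl6_e⟩
theorem cut_low {G Ω : Type*} [Group G] [MulAction G Ω] {g : ℕ → G} {pt : ℕ → Ω}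
    (M : Md g pt H15.Ru.P 4060 7 H15.Ru.B 145926144000) : SLow (gi (wds g cuth_W)) pt 4060 [cutl0, cutl1, cutl2, cutl3, cutl4, cutl5, cutl6] :=
  (((((((SLow.nil).cons cutl6_ok (cuth_act M) cut_f6).cons cutl5_ok (cuth_act M) cut_f5).cons cutl4_ok (cuth_act M) cut_f4).cons cutl3_ok (cuth_act M) cut_f3).cons cutl2_ok (cuth_act M) cut_f2).cons cutl1_ok (cuth_act M) cut_f1).cons cutl0_ok (cuth_act M) cut_f0
theorem cut_S0 {G Ω : Type*} [Group G] [MulAction G Ω] {g : ℕ → G} {pt : ℕ → Ω}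
    (M : Md g pt H15.Ru.P 4060 7 H15.Ru.B 145926144000) : Stage ⊤ (wds g cuth_W) pt 4060 [cutl0, cutl1, cutl2, cutl3, cutl4, cutl5, cutl6] [] :=
  M.stage (cut_low M) cut_c
theorem cut_S1 {G Ω : Type*} [Group G] [MulAction G Ω] {g : ℕ → G} {pt : ℕ → Ω}
    (M : Md g pt H15.Ru.P 4060 7 H15.Ru.B 145926144000) : Stage ⊤ (wds g cuth_W) pt 4060 [cutl1, cutl2, cutl3, cutl4, cutl5, cutl6] [cutl0.Pt 0] :=
  (cut_S0 M).next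
theorem cut_S2 {G Ω : Type*} [Group G] [MulAction G Ω] {g : ℕ → G} {pt : ℕ → Ω}
    (M : Md g pt H15.Ru.P 4060 7 H15.Ru.B 145926144000) : Stage ⊤ (wds g cuth_W) pt 4060 [cutl2, cutl3, cutl4, cutl5, cutl6] [cutl1.Pt 0, cutl0.Pt 0] :=
  (cut_S1 M).next
theorem cut_S3 {G Ω : Type*} [Group G] [MulAction G Ω] {g : ℕ → G} {pt : ℕ → Ω}
    (M : Md g pt H15.Ru.P 4060 7 H15.Ru.B 145926144000) : Stage ⊤ (wds g cuth_W) pt 4060 [cutl3, cutl4, cutl5, cutl6] [cutl2.Pt 0, cutl1.Pt 0, cutl0.Pt 0] :=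
  (cut_S2 M).next
theorem cut_S4 {G Ω : Type*} [Group G] [MulAction G Ω] {g : ℕ → G} {pt : ℕ → Ω}
    (M : Md g pt H15.Ru.P 4060 7 H15.Ru.B 145926144000) : Stage ⊤ (wds g cuth_W) pt 4060 [cutl4, cutl5, cutl6] [cutl3.Pt 0, cutl2.Pt 0, cutl1.Pt 0, cutl0.Pt 0] :=
  (cut_S3 M).next
theorem cut_S5 {G Ω : Type*} [Group G] [MulAction G Ω] {g : ℕ → G} {pt : ℕ → Ω}
    (M : Md g pt H15.Ru.P 4060 7 H15.Ru.B 145926144000) : Stage ⊤ (wds g cuth_W) pt 4060 [cutl5, cutl6] [cutl4.Pt 0, cutl3.Pt 0, cutl2.Pt 0, cutl1.Pt 0, cutl0.Pt 0] :=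
  (cut_S4 M).next
theorem cut_S6 {G Ω : Type*} [Group G] [MulAction G Ω] {g : ℕ → G} {pt : ℕ → Ω}
    (M : Md g pt H15.Ru.P 4060 7 H15.Ru.B 145926144000) : Stage ⊤ (wds g cuth_W) pt 4060 [cutl6] [cutl5.Pt 0, cutl4.Pt 0, cutl3.Pt 0, cutl2.Pt 0, cutl1.Pt 0, cutl0.Pt 0] :=
  (cut_S5 M).next
theorem cut_S7 {G Ω : Type*} [Group G] [MulAction G Ω] {g : ℕ → G} {pt : ℕ → Ω}
    (M : Md g pt H15.Ru.P 4060 7 H15.Ru.B 145926144000) : Stage ⊤ (wds g cuth_W) pt 4060 [] [cutl6.Pt 0, cutl5.Pt 0, cutl4.Pt 0, cutl3.Pt 0, cutl2.Pt 0, cutl1.Pt 0, cutl0.Pt 0] :=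
  (cut_S6 M).next
theorem cue_m_0 : ∀ i < 4060, (matEnt (wdsP H15.Ru.P cue_W) cue_P (nat_lit 0)) i = 0 := range_glue (allZ_sound0 cue_m_0_0) cue_m_0_1
theorem cue_m : ∀ k < 1, ∀ i < 4060, (matEnt (wdsP H15.Ru.P cue_W) cue_P) k i = 0 :=
  letters_glue (letters_nil) cue_m_0
theorem cue_act {G Ω : Type*} [Group G] [MulAction G Ω] {g : ℕ → G} {pt : ℕ → Ω}
    (M : Md g pt H15.Ru.P 4060 7 H15.Ru.B 145926144000) : Act (wds g cue_W) pt cue_P 4060 1 :=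
  act_mat (M.wact cue_lt) cue_m
theorem cuc0_e : ∀ i < 1, (dent cuc0 cue_P (nat_lit 4060)) i = 0 := allZ_sound0 cuc0_e_0
theorem cuc0_ok : DOK cuc0 cue_P 4060 := ⟨cuc0_h, cuc0_e⟩
theorem cutn0_1 : ∀ i < 4060, (cutn0.ent H15.Ru.P cuth_P H8.RU.st_P H8.RU.st_P cue_P (nat_lit 7) (nat_lit 14) H15.Ru.B cutl0 [cutl1, cutl2, cutl3, cutl4, cutl5, cutl6] (memO cuc0)) i = 0 := allZ_sound0 cutn0_1_0
theorem cutn0_t {G Ω : Type*} [Group G] [MulAction G Ω] {g : ℕ → G} {pt : ℕ → Ω}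
    (M : Md g pt H15.Ru.P 4060 7 H15.Ru.B 145926144000) : TrO (gen (wds g cuth_W) cutl0.K) (wds g H8.RU.st_W) (wds g H8.RU.st_W) 14 pt 4060 (cutl0.Pt 0) (memO cuc0) :=
  node M (cut_S0 M) (cuth_act M) (H8.RU.st_act M) (H8.RU.st_act M) cutn0 ((cue_act M).mono (by decide)) (fun _ _ => trivial) cutn0_0 cutn0_1 (List.forall_mem_nil _)
theorem cu {G Ω : Type*} [Group G] [MulAction G Ω] {g : ℕ → G} {pt : ℕ → Ω}
    (M : Md g pt H15.Ru.P 4060 7 H15.Ru.B 145926144000) : Cen ⊤ (wds g H8.RU.st_W) 14 (wds g cue_W) pt 4060 [cuc0] :=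
  (cut_S0 M).top ▸ Cen.lev M (cut_S0 M) (Cen.triv (cut_S1 M) (Cen.triv (cut_S2 M) (Cen.triv (cut_S3 M) (Cen.triv (cut_S4 M) (Cen.triv (cut_S5 M) (Cen.triv (cut_S6 M) (Cen.bot) (forced (cut_S6 M) (cuth_act M) (H8.RU.st_act M) _ _ cu_f6)) (forced (cut_S5 M) (cuth_act M) (H8.RU.st_act M) _ _ cu_f5)) (forced (cut_S4 M) (cuth_act M) (H8.RU.st_act M) _ _ cu_f4)) (forced (cut_S3 M) (cuth_act M) (H8.RU.st_act M) _ _ cu_f3)) (forced (cut_S2 M) (cuth_act M) (H8.RU.st_act M) _ _ cu_f2)) (forced (cut_S1 M) (cuth_act M) (H8.RU.st_act M) _ _ cu_f1)) (cutn0_t M) (H8.RU.st_act M) (cue_act M) (fun _ _ => trivial) cuc0_ok cu_f0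
theorem cu_eq {G Ω : Type*} [Group G] [MulAction G Ω] {g : ℕ → G} {pt : ℕ → Ω}
    (M : Md g pt H15.Ru.P 4060 7 H15.Ru.B 145926144000) : Subgroup.centralizer (gen (wds g H8.RU.st_W) 14) = gen (wds g cue_W) 1 ∧ Nat.card (gen (wds g cue_W) 1) = 2 :=
  cu_c.1 ▸ cu_c.2 ▸ ⟨(cu M).cent, (cu M).card M.inj⟩
theorem vz_k : ∀ i < 5, (cmEnt H15.QS.YRu.c0v_P H15.IC.Ru.c0ax_P (nat_lit 5) H15.Ru.B (nat_lit 0)) i = 0 := allZ_sound0 vz_k_0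
theorem vz {G Ω : Type*} [Group G] [MulAction G Ω] {g : ℕ → G} {pt : ℕ → Ω}
    (M : Md g pt H15.Ru.P 4060 7 H15.Ru.B 145926144000) : (wds g H15.IC.Ru.c0ax_W) 0 ∈ Subgroup.centralizer ((gen (wds g H15.QS.YRu.c0v_W) 5) : Set G) :=
  cms M (H15.QS.YRu.c0v_act M) (H15.IC.Ru.c0ax_act M) (by decide) vz_k
theorem vU {G Ω : Type*} [Group G] [MulAction G Ω] {g : ℕ → G} {pt : ℕ → Ω}
    (M : Md g pt H15.Ru.P 4060 7 H15.Ru.B 145926144000) : gen (wds g H15.QS.YRu.c0v_W) 5 ≤ gen (wds g H8.RU.st_W) 14 :=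
  M.gen_le (H8.RU.st_act M) (H15.QS.YRu.c0v_act M) vU_k
theorem z0 {G Ω : Type*} [Group G] [MulAction G Ω] {g : ℕ → G} {pt : ℕ → Ω}
    (M : Md g pt H15.Ru.P 4060 7 H15.Ru.B 145926144000) : Z0 (gen (wds g H8.RU.st_W) 14) ((wds g H15.IC.Ru.c0ax_W) 0) :=
  have := M.fin
  have s := pc_syl (H8.RU.s_pc M)
  ⟨s, (zU M).2, Uz M, z1 M, ((congrArg (fun H : Subgroup G => Nat.card H) (cu_eq M).1).trans (cu_eq M).2), cp_sub (k := 7) (H19.le_cent1_iff.2 (vz M)) ((cz M).le.trans (H15.QS.YRu.c0n M)) (s.pi.of_le (vU M)) ((congrArg (fun H : Subgroup G => Nat.card H) (H15.QS.YRu.c0c_eq M).1).trans (H15.QS.YRu.c0c_eq M).2)⟩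
theorem d_m_0 : ∀ i < 4060, (matEnt (wdsP H15.Ru.P d_W) d_P (nat_lit 0)) i = 0 := allZ_sound0 d_m_0_0
theorem d_m_1 : ∀ i < 4060, (matEnt (wdsP H15.Ru.P d_W) d_P (nat_lit 1)) i = 0 := allZ_sound0 d_m_1_0
theorem d_m_2 : ∀ i < 4060, (matEnt (wdsP H15.Ru.P d_W) d_P (nat_lit 2)) i = 0 := range_glue (allZ_sound0 d_m_2_0) d_m_2_1
theorem d_m : ∀ k < 3, ∀ i < 4060, (matEnt (wdsP H15.Ru.P d_W) d_P) k i = 0 :=
  letters_glue (letters_glue (letters_glue (letters_nil) d_m_0) d_m_1) d_m_2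
theorem d_act {G Ω : Type*} [Group G] [MulAction G Ω] {g : ℕ → G} {pt : ℕ → Ω}
    (M : Md g pt H15.Ru.P 4060 7 H15.Ru.B 145926144000) : Act (wds g d_W) pt d_P 4060 3 :=
  act_mat (M.wact d_lt) d_m
theorem dr0 {G Ω : Type*} [Group G] [MulAction G Ω] {g : ℕ → G} {pt : ℕ → Ω}
    (M : Md g pt H15.Ru.P 4060 7 H15.Ru.B 145926144000) : evA (wds g H8.RU.st_W) [11, 13] = evA (wds g H8.RU.st_W) [13, 11, 4, 5, 6, 9] :=
  M.eq_of (H8.RU.st_act M) dr0_k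
theorem de0 {G Ω : Type*} [Group G] [MulAction G Ω] {g : ℕ → G} {pt : ℕ → Ω}
    (M : Md g pt H15.Ru.P 4060 7 H15.Ru.B 145926144000) : (wds g d_W) 0 = evA (wds g H8.RU.st_W) [4, 5, 6, 9] ∧ (wds g d_W) 0 ∈ gen (wds g H8.RU.st_W) 14 :=
  M.eqw (H8.RU.st_act M) (d_act M) (by decide) de0_k
theorem dr1 {G Ω : Type*} [Group G] [MulAction G Ω] {g : ℕ → G} {pt : ℕ → Ω}
    (M : Md g pt H15.Ru.P 4060 7 H15.Ru.B 145926144000) : evA (wds g H8.RU.st_W) [11, 12] = evA (wds g H8.RU.st_W) [12, 11, 0, 2, 5, 10] :=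
  M.eq_of (H8.RU.st_act M) dr1_k
theorem de1 {G Ω : Type*} [Group G] [MulAction G Ω] {g : ℕ → G} {pt : ℕ → Ω}
    (M : Md g pt H15.Ru.P 4060 7 H15.Ru.B 145926144000) : (wds g d_W) 1 = evA (wds g H8.RU.st_W) [0, 2, 5, 10] ∧ (wds g d_W) 1 ∈ gen (wds g H8.RU.st_W) 14 :=
  M.eqw (H8.RU.st_act M) (d_act M) (by decide) de1_k
theorem dr2 {G Ω : Type*} [Group G] [MulAction G Ω] {g : ℕ → G} {pt : ℕ → Ω}
    (M : Md g pt H15.Ru.P 4060 7 H15.Ru.B 145926144000) : evA (wds g H8.RU.st_W) [8, 9] = evA (wds g H8.RU.st_W) [9, 8, 0, 1, 4] :=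
  M.eq_of (H8.RU.st_act M) dr2_k
theorem de2 {G Ω : Type*} [Group G] [MulAction G Ω] {g : ℕ → G} {pt : ℕ → Ω}
    (M : Md g pt H15.Ru.P 4060 7 H15.Ru.B 145926144000) : (wds g d_W) 2 = evA (wds g H8.RU.st_W) [0, 1, 4] ∧ (wds g d_W) 2 ∈ gen (wds g H8.RU.st_W) 14 :=
  M.eqw (H8.RU.st_act M) (d_act M) (by decide) de2_k
theorem cdth_m_0 : ∀ i < 4060, (matEnt (wdsP H15.Ru.P cdth_W) cdth_P (nat_lit 0)) i = 0 := allZ_sound0 cdth_m_0_0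
theorem cdth_m_1 : ∀ i < 4060, (matEnt (wdsP H15.Ru.P cdth_W) cdth_P (nat_lit 1)) i = 0 := allZ_sound0 cdth_m_1_0
theorem cdth_m_2 : ∀ i < 4060, (matEnt (wdsP H15.Ru.P cdth_W) cdth_P (nat_lit 2)) i = 0 := allZ_sound0 cdth_m_2_0
theorem cdth_m_3 : ∀ i < 4060, (matEnt (wdsP H15.Ru.P cdth_W) cdth_P (nat_lit 3)) i = 0 := allZ_sound0 cdth_m_3_0
theorem cdth_m_4 : ∀ i < 4060, (matEnt (wdsP H15.Ru.P cdth_W) cdth_P (nat_lit 4)) i = 0 := allZ_sound0 cdth_m_4_0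
theorem cdth_m_5 : ∀ i < 4060, (matEnt (wdsP H15.Ru.P cdth_W) cdth_P (nat_lit 5)) i = 0 := allZ_sound0 cdth_m_5_0
theorem cdth_m_6 : ∀ i < 4060, (matEnt (wdsP H15.Ru.P cdth_W) cdth_P (nat_lit 6)) i = 0 := allZ_sound0 cdth_m_6_0
theorem cdth_m_7 : ∀ i < 4060, (matEnt (wdsP H15.Ru.P cdth_W) cdth_P (nat_lit 7)) i = 0 := allZ_sound0 cdth_m_7_0
theorem cdth_m_8 : ∀ i < 4060, (matEnt (wdsP H15.Ru.P cdth_W) cdth_P (nat_lit 8)) i = 0 := allZ_sound0 cdth_m_8_0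
theorem cdth_m_9 : ∀ i < 4060, (matEnt (wdsP H15.Ru.P cdth_W) cdth_P (nat_lit 9)) i = 0 := allZ_sound0 cdth_m_9_0
theorem cdth_m_10 : ∀ i < 4060, (matEnt (wdsP H15.Ru.P cdth_W) cdth_P (nat_lit 10)) i = 0 := allZ_sound0 cdth_m_10_0
theorem cdth_m_11 : ∀ i < 4060, (matEnt (wdsP H15.Ru.P cdth_W) cdth_P (nat_lit 11)) i = 0 := allZ_sound0 cdth_m_11_0
theorem cdth_m_12 : ∀ i < 4060, (matEnt (wdsP H15.Ru.P cdth_W) cdth_P (nat_lit 12)) i = 0 := allZ_sound0 cdth_m_12_0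
theorem cdth_m_13 : ∀ i < 4060, (matEnt (wdsP H15.Ru.P cdth_W) cdth_P (nat_lit 13)) i = 0 := allZ_sound0 cdth_m_13_0
theorem cdth_m_14 : ∀ i < 4060, (matEnt (wdsP H15.Ru.P cdth_W) cdth_P (nat_lit 14)) i = 0 := allZ_sound0 cdth_m_14_0
theorem cdth_m_15 : ∀ i < 4060, (matEnt (wdsP H15.Ru.P cdth_W) cdth_P (nat_lit 15)) i = 0 := allZ_sound0 cdth_m_15_0
theorem cdth_m : ∀ k < 16, ∀ i < 4060, (matEnt (wdsP H15.Ru.P cdth_W) cdth_P) k i = 0 :=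
  letters_glue (letters_glue (letters_glue (letters_glue (letters_glue (letters_glue (letters_glue (letters_glue (letters_glue (letters_glue (letters_glue (letters_glue (letters_glue (letters_glue (letters_glue (letters_glue (letters_nil) cdth_m_0) cdth_m_1) cdth_m_2) cdth_m_3) cdth_m_4) cdth_m_5) cdth_m_6) cdth_m_7) cdth_m_8) cdth_m_9) cdth_m_10) cdth_m_11) cdth_m_12) cdth_m_13) cdth_m_14) cdth_m_15
theorem cdth_act {G Ω : Type*} [Group G] [MulAction G Ω] {g : ℕ → G} {pt : ℕ → Ω}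
    (M : Md g pt H15.Ru.P 4060 7 H15.Ru.B 145926144000) : Act (wds g cdth_W) pt cdth_P 4060 16 :=
  act_mat (M.wact cdth_lt) cdth_m
theorem cdtl0_e : ∀ i < 4059, (dent cdtl0 cdth_P (nat_lit 4060)) i = 0 := allZ_sound0 cdtl0_e_0
theorem cdtl0_ok : DOK cdtl0 cdth_P 4060 := ⟨cdtl0_h, cdtl0_e⟩
theorem cdtl1_e : ∀ i < 1754, (dent cdtl1 cdth_P (nat_lit 4060)) i = 0 := allZ_sound0 cdtl1_e_0
theorem cdtl1_ok : DOK cdtl1 cdth_P 4060 := ⟨cdtl1_h, cdtl1_e⟩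
theorem cdtl2_e : ∀ i < 9, (dent cdtl2 cdth_P (nat_lit 4060)) i = 0 := allZ_sound0 cdtl2_e_0
theorem cdtl2_ok : DOK cdtl2 cdth_P 4060 := ⟨cdtl2_h, cdtl2_e⟩
theorem cdtl3_e : ∀ i < 7, (dent cdtl3 cdth_P (nat_lit 4060)) i = 0 := allZ_sound0 cdtl3_e_0
theorem cdtl3_ok : DOK cdtl3 cdth_P 4060 := ⟨cdtl3_h, cdtl3_e⟩
theorem cdtl4_e : ∀ i < 63, (dent cdtl4 cdth_P (nat_lit 4060)) i = 0 := allZ_sound0 cdtl4_e_0
theorem cdtl4_ok : DOK cdtl4 cdth_P 4060 := ⟨cdtl4_h, cdtl4_e⟩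
theorem cdtl5_e : ∀ i < 3, (dent cdtl5 cdth_P (nat_lit 4060)) i = 0 := allZ_sound0 cdtl5_e_0
theorem cdtl5_ok : DOK cdtl5 cdth_P 4060 := ⟨cdtl5_h, cdtl5_e⟩
theorem cdt_low {G Ω : Type*} [Group G] [MulAction G Ω] {g : ℕ → G} {pt : ℕ → Ω}
    (M : Md g pt H15.Ru.P 4060 7 H15.Ru.B 145926144000) : SLow (gi (wds g cdth_W)) pt 4060 [cdtl0, cdtl1, cdtl2, cdtl3, cdtl4, cdtl5] :=
  ((((((SLow.nil).cons cdtl5_ok (cdth_act M) cdt_f5).cons cdtl4_ok (cdth_act M) cdt_f4).cons cdtl3_ok (cdth_act M) cdt_f3).cons cdtl2_ok (cdth_act M) cdt_f2).cons cdtl1_ok (cdth_act M) cdt_f1).cons cdtl0_ok (cdth_act M) cdt_f0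
theorem cdt_S0 {G Ω : Type*} [Group G] [MulAction G Ω] {g : ℕ → G} {pt : ℕ → Ω}
    (M : Md g pt H15.Ru.P 4060 7 H15.Ru.B 145926144000) : Stage ⊤ (wds g cdth_W) pt 4060 [cdtl0, cdtl1, cdtl2, cdtl3, cdtl4, cdtl5] [] :=
  M.stage (cdt_low M) cdt_c
theorem cdt_S1 {G Ω : Type*} [Group G] [MulAction G Ω] {g : ℕ → G} {pt : ℕ → Ω}
    (M : Md g pt H15.Ru.P 4060 7 H15.Ru.B 145926144000) : Stage ⊤ (wds g cdth_W) pt 4060 [cdtl1, cdtl2, cdtl3, cdtl4, cdtl5] [cdtl0.Pt 0] :=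
  (cdt_S0 M).next
theorem cdt_S2 {G Ω : Type*} [Group G] [MulAction G Ω] {g : ℕ → G} {pt : ℕ → Ω}
    (M : Md g pt H15.Ru.P 4060 7 H15.Ru.B 145926144000) : Stage ⊤ (wds g cdth_W) pt 4060 [cdtl2, cdtl3, cdtl4, cdtl5] [cdtl1.Pt 0, cdtl0.Pt 0] :=
  (cdt_S1 M).next
theorem cdt_S3 {G Ω : Type*} [Group G] [MulAction G Ω] {g : ℕ → G} {pt : ℕ → Ω}
    (M : Md g pt H15.Ru.P 4060 7 H15.Ru.B 145926144000) : Stage ⊤ (wds g cdth_W) pt 4060 [cdtl3, cdtl4, cdtl5] [cdtl2.Pt 0, cdtl1.Pt 0, cdtl0.Pt 0] :=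
  (cdt_S2 M).next
theorem cdt_S4 {G Ω : Type*} [Group G] [MulAction G Ω] {g : ℕ → G} {pt : ℕ → Ω}
    (M : Md g pt H15.Ru.P 4060 7 H15.Ru.B 145926144000) : Stage ⊤ (wds g cdth_W) pt 4060 [cdtl4, cdtl5] [cdtl3.Pt 0, cdtl2.Pt 0, cdtl1.Pt 0, cdtl0.Pt 0] :=
  (cdt_S3 M).next
theorem cdt_S5 {G Ω : Type*} [Group G] [MulAction G Ω] {g : ℕ → G} {pt : ℕ → Ω}
    (M : Md g pt H15.Ru.P 4060 7 H15.Ru.B 145926144000) : Stage ⊤ (wds g cdth_W) pt 4060 [cdtl5] [cdtl4.Pt 0, cdtl3.Pt 0, cdtl2.Pt 0, cdtl1.Pt 0, cdtl0.Pt 0] :=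
  (cdt_S4 M).next
theorem cdt_S6 {G Ω : Type*} [Group G] [MulAction G Ω] {g : ℕ → G} {pt : ℕ → Ω}
    (M : Md g pt H15.Ru.P 4060 7 H15.Ru.B 145926144000) : Stage ⊤ (wds g cdth_W) pt 4060 [] [cdtl5.Pt 0, cdtl4.Pt 0, cdtl3.Pt 0, cdtl2.Pt 0, cdtl1.Pt 0, cdtl0.Pt 0] :=
  (cdt_S5 M).next
theorem cde_m_0 : ∀ i < 4060, (matEnt (wdsP H15.Ru.P cde_W) cde_P (nat_lit 0)) i = 0 := allZ_sound0 cde_m_0_0
theorem cde_m_1 : ∀ i < 4060, (matEnt (wdsP H15.Ru.P cde_W) cde_P (nat_lit 1)) i = 0 := allZ_sound0 cde_m_1_0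
theorem cde_m : ∀ k < 2, ∀ i < 4060, (matEnt (wdsP H15.Ru.P cde_W) cde_P) k i = 0 :=
  letters_glue (letters_glue (letters_nil) cde_m_0) cde_m_1
theorem cde_act {G Ω : Type*} [Group G] [MulAction G Ω] {g : ℕ → G} {pt : ℕ → Ω}
    (M : Md g pt H15.Ru.P 4060 7 H15.Ru.B 145926144000) : Act (wds g cde_W) pt cde_P 4060 2 :=
  act_mat (M.wact cde_lt) cde_m
theorem cdc0_e : ∀ i < 3, (dent cdc0 cde_P (nat_lit 4060)) i = 0 := allZ_sound0 cdc0_e_0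
theorem cdc0_ok : DOK cdc0 cde_P 4060 := ⟨cdc0_h, cdc0_e⟩
theorem cdtn0_1 : ∀ i < 4060, (cdtn0.ent H15.Ru.P cdth_P d_P d_P cde_P (nat_lit 7) (nat_lit 3) H15.Ru.B cdtl0 [cdtl1, cdtl2, cdtl3, cdtl4, cdtl5] (memO cdc0)) i = 0 := allZ_sound0 cdtn0_1_0
theorem cdtn0_t {G Ω : Type*} [Group G] [MulAction G Ω] {g : ℕ → G} {pt : ℕ → Ω}
    (M : Md g pt H15.Ru.P 4060 7 H15.Ru.B 145926144000) : TrO (gen (wds g cdth_W) cdtl0.K) (wds g d_W) (wds g d_W) 3 pt 4060 (cdtl0.Pt 0) (memO cdc0) :=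
  node M (cdt_S0 M) (cdth_act M) (d_act M) (d_act M) cdtn0 ((cde_act M).mono (by decide)) (fun _ _ => trivial) cdtn0_0 cdtn0_1 (List.forall_mem_nil _)
theorem cd {G Ω : Type*} [Group G] [MulAction G Ω] {g : ℕ → G} {pt : ℕ → Ω}
    (M : Md g pt H15.Ru.P 4060 7 H15.Ru.B 145926144000) : Cen ⊤ (wds g d_W) 3 (wds g cde_W) pt 4060 [cdc0] :=
  (cdt_S0 M).top ▸ Cen.lev M (cdt_S0 M) (Cen.triv (cdt_S1 M) (Cen.triv (cdt_S2 M) (Cen.triv (cdt_S3 M) (Cen.triv (cdt_S4 M) (Cen.triv (cdt_S5 M) (Cen.bot) (forced (cdt_S5 M) (cdth_act M) (d_act M) _ _ cd_f5)) (forced (cdt_S4 M) (cdth_act M) (d_act M) _ _ cd_f4)) (forced (cdt_S3 M) (cdth_act M) (d_act M) _ _ cd_f3)) (forced (cdt_S2 M) (cdth_act M) (d_act M) _ _ cd_f2)) (forced (cdt_S1 M) (cdth_act M) (d_act M) _ _ cd_f1)) (cdtn0_t M) (d_act M) (cde_act M) (fun _ _ => trivial) cdc0_ok cd_f0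
theorem cd_eq {G Ω : Type*} [Group G] [MulAction G Ω] {g : ℕ → G} {pt : ℕ → Ω}
    (M : Md g pt H15.Ru.P 4060 7 H15.Ru.B 145926144000) : Subgroup.centralizer (gen (wds g d_W) 3) = gen (wds g cde_W) 2 ∧ Nat.card (gen (wds g cde_W) 2) = 4 :=
  cd_c.1 ▸ cd_c.2 ▸ ⟨(cd M).cent, (cd M).card M.inj⟩
theorem wd0_k : ∀ i < 11, (cmEnt H8.RU.st_P cde_P (nat_lit 11) H15.Ru.B (nat_lit 0)) i = 0 := allZ_sound0 wd0_k_0
theorem wd0 {G Ω : Type*} [Group G] [MulAction G Ω] {g : ℕ → G} {pt : ℕ → Ω}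
    (M : Md g pt H15.Ru.P 4060 7 H15.Ru.B 145926144000) : (wds g cde_W) 0 ∈ Subgroup.centralizer ((gen (wds g H8.RU.st_W) 11) : Set G) :=
  cms M ((H8.RU.st_act M).mono (by decide)) (cde_act M) (by decide) wd0_k
theorem wd1_k : ∀ i < 11, (cmEnt H8.RU.st_P cde_P (nat_lit 11) H15.Ru.B (nat_lit 1)) i = 0 := allZ_sound0 wd1_k_0
theorem wd1 {G Ω : Type*} [Group G] [MulAction G Ω] {g : ℕ → G} {pt : ℕ → Ω}
    (M : Md g pt H15.Ru.P 4060 7 H15.Ru.B 145926144000) : (wds g cde_W) 1 ∈ Subgroup.centralizer ((gen (wds g H8.RU.st_W) 11) : Set G) :=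
  cms M ((H8.RU.st_act M).mono (by decide)) (cde_act M) (by decide) wd1_k
theorem ivw {G Ω : Type*} [Group G] [MulAction G Ω] {g : ℕ → G} {pt : ℕ → Ω}
    (M : Md g pt H15.Ru.P 4060 7 H15.Ru.B 145926144000) : Iv (gen (wds g H8.RU.st_W) 14) (gen (wds g cde_W) 2) :=
  have := M.fin
  iv_self.com.sw (gen_le.2 fun i hi => match i, hi with | 0, _ => com_mem (W := [13]) (b := 11) (by decide) (evA_mem_gen _ (by decide)) (de0 M) (dr0 M) | 1, _ => com_mem (W := [12]) (b := 11) (by decide) (evA_mem_gen _ (by decide)) (de1 M) (dr1 M) | 2, _ => com_mem (W := [9]) (b := 8) (by decide) (evA_mem_gen _ (by decide)) (de2 M) (dr2 M))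
    (com_le (H8.RU.s_pc M).toPC0 (by decide) (sm_der (H8.RU.s_sm M).1 H8.RU.s_p dk)) (cd_eq M).1
    (gen_le.2 fun i hi => match i, hi with | 0, _ => wd0 M | 1, _ => wd1 M)
theorem wU {G Ω : Type*} [Group G] [MulAction G Ω] {g : ℕ → G} {pt : ℕ → Ω}
    (M : Md g pt H15.Ru.P 4060 7 H15.Ru.B 145926144000) : gen (wds g cde_W) 2 ≤ gen (wds g H8.RU.st_W) 14 :=
  M.gen_le (H8.RU.st_act M) (cde_act M) wU_k
theorem zW {G Ω : Type*} [Group G] [MulAction G Ω] {g : ℕ → G} {pt : ℕ → Ω}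
    (M : Md g pt H15.Ru.P 4060 7 H15.Ru.B 145926144000) : (wds g H15.IC.Ru.c0ax_W) 0 = evA (wds g cde_W) [0, 1] ∧ (wds g H15.IC.Ru.c0ax_W) 0 ∈ gen (wds g cde_W) 2 :=
  M.eqw (cde_act M) (H15.IC.Ru.c0ax_act M) (by decide) zW_k
theorem f_act {G Ω : Type*} [Group G] [MulAction G Ω] {g : ℕ → G} {pt : ℕ → Ω}
    (M : Md g pt H15.Ru.P 4060 7 H15.Ru.B 145926144000) : Act (wds g f_W) pt f_P 4060 4 :=
  M.wact f_lt
theorem f1 {G Ω : Type*} [Group G] [MulAction G Ω] {g : ℕ → G} {pt : ℕ → Ω}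
    (M : Md g pt H15.Ru.P 4060 7 H15.Ru.B 145926144000) : (wds g f_W) 1 ∈ Subgroup.normalizer (gen (wds g cde_W) 2 : Set G) :=
  M.norm (cde_act M) (f_act M) (by decide) f1_k
theorem f2 {G Ω : Type*} [Group G] [MulAction G Ω] {g : ℕ → G} {pt : ℕ → Ω}
    (M : Md g pt H15.Ru.P 4060 7 H15.Ru.B 145926144000) : evA (wds g f_W) [0, 2] = evA (wds g f_W) [2, 0] :=
  M.eq_of (f_act M) f2_k
theorem f3 {G Ω : Type*} [Group G] [MulAction G Ω] {g : ℕ → G} {pt : ℕ → Ω}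
    (M : Md g pt H15.Ru.P 4060 7 H15.Ru.B 145926144000) : evA (wds g f_W) [0, 1, 2, 1, 2, 1] = evA (wds g f_W) [1, 2, 1, 2, 1, 3] :=
  M.eq_of (f_act M) f3_k
theorem f4 {G Ω : Type*} [Group G] [MulAction G Ω] {g : ℕ → G} {pt : ℕ → Ω}
    (M : Md g pt H15.Ru.P 4060 7 H15.Ru.B 145926144000) : evA (wds g f_W) [3, 0] ≠ evA (wds g f_W) [0, 3] :=
  M.nrel (f_act M) _ f4_k
theorem kg {G Ω : Type*} [Group G] [MulAction G Ω] {g : ℕ → G} {pt : ℕ → Ω}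
    (M : Md g pt H15.Ru.P 4060 7 H15.Ru.B 145926144000) : H18.UB.KG G :=
  have := M.fin
  kg4 (f := (wds g f_W)) (L := [1, 2, 1, 2, 1]) (z0 M) (ivw M) (wU M) (zW M).2 (f1 M) (f2 M) (by decide) (f3 M) (f4 M)
theorem spor : H18.UB.KG Cfsg.Spor.Ru := by
  obtain ⟨_, g, M, -⟩ := H8.RU.md H15.RuL.equiv.symm
  exact kg M

end H15.UB.Ru
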