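import Cfsg.Agent.H15.UB1
import Cfsg.Agent.H15.IC.M12

/-! Generated by tools/h15/ub/gk.py (kit tools/h0/tr). -/

set_option maxRecDepth 100000
set_option maxHeartbeats 0

namespace H15.UB.M12
open H16 H0.TR
open H15.QS H15.UB
open scoped commutatorElement Pointwise

noncomputable def cuth_W : List (List ℕ) := [[nat_lit 2, nat_lit 4, nat_lit 1, nat_lit 1, nat_lit 7, nat_lit 4, nat_lit 7],
  [nat_lit 0, nat_lit 4, nat_lit 0, nat_lit 7, nat_lit 4, nat_lit 7, nat_lit 3],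
  [nat_lit 4, nat_lit 1, nat_lit 3],
  [nat_lit 0],
  [nat_lit 1],
  [nat_lit 2],
  [nat_lit 3],
  [nat_lit 4],
  [nat_lit 5],
  [nat_lit 6],
  [nat_lit 7]]
noncomputable def cuth_P : ℕ → ℕ → ℕ := wdsP H15.MM12.P cuth_W
noncomputable def cutl0Dd : ℕ := nat_lit 0xb48931e223480f1c28480
noncomputable def cutl0D (u : ℕ) : ℕ := Nat.land (Nat.shiftRight cutl0Dd (Nat.mul u (nat_lit 7))) (nat_lit 127)
noncomputable def cutl0Pd : ℕ := nat_lit 0x1812869a4460a01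
noncomputable def cutl0P (u : ℕ) : ℕ := Nat.land (Nat.shiftRight cutl0Pd (Nat.mul u (nat_lit 5))) (nat_lit 31)
noncomputable def cutl0Qd : ℕ := nat_lit 0x501007300980604b20a
noncomputable def cutl0Q (u : ℕ) : ℕ := Nat.land (Nat.shiftRight cutl0Qd (Nat.mul u (nat_lit 4))) (nat_lit 15)
noncomputable def cutl0 : H16.Lev := ⟨12, 11, cutl0D, cutl0P, cutl0Q⟩
noncomputable def cutl1Dd : ℕ := nat_lit 0x72e9abd6e6b100
noncomputable def cutl1D (u : ℕ) : ℕ := Nat.land (Nat.shiftRight cutl1Dd (Nat.mul u (nat_lit 5))) (nat_lit 31)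
noncomputable def cutl1Pd : ℕ := nat_lit 0xc98486d61102
noncomputable def cutl1P (u : ℕ) : ℕ := Nat.land (Nat.shiftRight cutl1Pd (Nat.mul u (nat_lit 5))) (nat_lit 31)
noncomputable def cutl1Qd : ℕ := nat_lit 0x607004300810902500a
noncomputable def cutl1Q (u : ℕ) : ℕ := Nat.land (Nat.shiftRight cutl1Qd (Nat.mul u (nat_lit 4))) (nat_lit 15)
noncomputable def cutl1 : H16.Lev := ⟨11, 9, cutl1D, cutl1P, cutl1Q⟩
noncomputable def cutl2Dd : ℕ := nat_lit 0x20f6ace629060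
noncomputable def cutl2D (u : ℕ) : ℕ := Nat.land (Nat.shiftRight cutl2Dd (Nat.mul u (nat_lit 5))) (nat_lit 31)
noncomputable def cutl2Pd : ℕ := nat_lit 0x3249888192d
noncomputable def cutl2P (u : ℕ) : ℕ := Nat.land (Nat.shiftRight cutl2Pd (Nat.mul u (nat_lit 5))) (nat_lit 31)
noncomputable def cutl2Qd : ℕ := nat_lit 0x6030005001402078009
noncomputable def cutl2Q (u : ℕ) : ℕ := Nat.land (Nat.shiftRight cutl2Qd (Nat.mul u (nat_lit 4))) (nat_lit 15)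
noncomputable def cutl2 : H16.Lev := ⟨10, 8, cutl2D, cutl2P, cutl2Q⟩
noncomputable def cutl3Dd : ℕ := nat_lit 0xa9e843520
noncomputable def cutl3D (u : ℕ) : ℕ := Nat.land (Nat.shiftRight cutl3Dd (Nat.mul u (nat_lit 4))) (nat_lit 15)
noncomputable def cutl3Pd : ℕ := nat_lit 0x81c989010d0
noncomputable def cutl3P (u : ℕ) : ℕ := Nat.land (Nat.shiftRight cutl3Pd (Nat.mul u (nat_lit 5))) (nat_lit 31)
noncomputable def cutl3Qd : ℕ := nat_lit 0x6000005004801027003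
noncomputable def cutl3Q (u : ℕ) : ℕ := Nat.land (Nat.shiftRight cutl3Qd (Nat.mul u (nat_lit 4))) (nat_lit 15)
noncomputable def cutl3 : H16.Lev := ⟨9, 3, cutl3D, cutl3P, cutl3Q⟩
noncomputable def cutl4Dd : ℕ := nat_lit 0xfa3440
noncomputable def cutl4D (u : ℕ) : ℕ := Nat.land (Nat.shiftRight cutl4Dd (Nat.mul u (nat_lit 3))) (nat_lit 7)
noncomputable def cutl4Pd : ℕ := nat_lit 0x3208090d89
noncomputable def cutl4P (u : ℕ) : ℕ := Nat.land (Nat.shiftRight cutl4Pd (Nat.mul u (nat_lit 5))) (nat_lit 31)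
noncomputable def cutl4Qd : ℕ := nat_lit 0xc00010061c5404
noncomputable def cutl4Q (u : ℕ) : ℕ := Nat.land (Nat.shiftRight cutl4Qd (Nat.mul u (nat_lit 3))) (nat_lit 7)
noncomputable def cutl4 : H16.Lev := ⟨8, 2, cutl4D, cutl4P, cutl4Q⟩
noncomputable def cue_W : List (List ℕ) := [[nat_lit 3, nat_lit 5, nat_lit 6, nat_lit 2]]
noncomputable def cue_P : ℕ → ℕ → ℕ := wdsP H15.MM12.P cue_W
noncomputable def cuc0Dd : ℕ := nat_lit 0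
noncomputable def cuc0D (u : ℕ) : ℕ := Nat.land (Nat.shiftRight cuc0Dd (Nat.mul u (nat_lit 1))) (nat_lit 1)
noncomputable def cuc0Pd : ℕ := nat_lit 0xd1
noncomputable def cuc0P (u : ℕ) : ℕ := Nat.land (Nat.shiftRight cuc0Pd (Nat.mul u (nat_lit 4))) (nat_lit 15)
noncomputable def cuc0Qd : ℕ := nat_lit 0x2000
noncomputable def cuc0Q (u : ℕ) : ℕ := Nat.land (Nat.shiftRight cuc0Qd (Nat.mul u (nat_lit 1))) (nat_lit 1)
noncomputable def cuc0 : H16.Lev := ⟨2, 1, cuc0D, cuc0P, cuc0Q⟩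
noncomputable def cutn0Fd : ℕ := nat_lit 0x591a54
noncomputable def cutn0F (u : ℕ) : ℕ := Nat.land (Nat.shiftRight cutn0Fd (Nat.mul u (nat_lit 2))) (nat_lit 3)
noncomputable def cutn0 : Nd := ⟨cutn0F, (nat_lit 2), (nat_lit 1), [[nat_lit 2],
  [nat_lit 5]], [((nat_lit 0), [])], []⟩
noncomputable def v_W : List (List ℕ) := [[nat_lit 3, nat_lit 5, nat_lit 6, nat_lit 2],
  [nat_lit 2, nat_lit 5, nat_lit 6, nat_lit 2, nat_lit 7],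
  [nat_lit 1, nat_lit 2, nat_lit 4, nat_lit 5, nat_lit 7, nat_lit 4, nat_lit 7]]
noncomputable def v_P : ℕ → ℕ → ℕ := wdsP H15.MM12.P v_W
noncomputable def cvth_W : List (List ℕ) := [[nat_lit 3, nat_lit 5, nat_lit 6, nat_lit 2],
  [nat_lit 6, nat_lit 5, nat_lit 3, nat_lit 5],
  [nat_lit 2, nat_lit 5, nat_lit 1, nat_lit 1, nat_lit 6, nat_lit 3],
  [nat_lit 1, nat_lit 5, nat_lit 2],
  [nat_lit 0],
  [nat_lit 1],
  [nat_lit 2],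
  [nat_lit 3],
  [nat_lit 5],
  [nat_lit 6],
  [nat_lit 4],
  [nat_lit 7]]
noncomputable def cvth_P : ℕ → ℕ → ℕ := wdsP H15.MM12.P cvth_W
noncomputable def cvtl0Dd : ℕ := nat_lit 0xaa48df7997587162c0
noncomputable def cvtl0D (u : ℕ) : ℕ := Nat.land (Nat.shiftRight cvtl0Dd (Nat.mul u (nat_lit 6))) (nat_lit 63)
noncomputable def cvtl0Pd : ℕ := nat_lit 0x408cc205b092460
noncomputable def cvtl0P (u : ℕ) : ℕ := Nat.land (Nat.shiftRight cvtl0Pd (Nat.mul u (nat_lit 5))) (nat_lit 31)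
noncomputable def cvtl0Qd : ℕ := nat_lit 0x3040058002b09071a60
noncomputable def cvtl0Q (u : ℕ) : ℕ := Nat.land (Nat.shiftRight cvtl0Qd (Nat.mul u (nat_lit 4))) (nat_lit 15)
noncomputable def cvtl0 : H16.Lev := ⟨12, 12, cvtl0D, cvtl0P, cvtl0Q⟩
noncomputable def cvtl1Dd : ℕ := nat_lit 0x72da945905bd40
noncomputable def cvtl1D (u : ℕ) : ℕ := Nat.land (Nat.shiftRight cvtl1Dd (Nat.mul u (nat_lit 5))) (nat_lit 31)
noncomputable def cvtl1Pd : ℕ := nat_lit 0x20466102d84923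
noncomputable def cvtl1P (u : ℕ) : ℕ := Nat.land (Nat.shiftRight cvtl1Pd (Nat.mul u (nat_lit 5))) (nat_lit 31)
noncomputable def cvtl1Qd : ℕ := nat_lit 0x2030047001a08060950
noncomputable def cvtl1Q (u : ℕ) : ℕ := Nat.land (Nat.shiftRight cvtl1Qd (Nat.mul u (nat_lit 4))) (nat_lit 15)
noncomputable def cvtl1 : H16.Lev := ⟨11, 11, cvtl1D, cvtl1P, cvtl1Q⟩
noncomputable def cvtl2Dd : ℕ := nat_lit 0x89050a387185100
noncomputable def cvtl2D (u : ℕ) : ℕ := Nat.land (Nat.shiftRight cvtl2Dd (Nat.mul u (nat_lit 6))) (nat_lit 63)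
noncomputable def cvtl2Pd : ℕ := nat_lit 0x11010524649a6
noncomputable def cvtl2P (u : ℕ) : ℕ := Nat.land (Nat.shiftRight cvtl2Pd (Nat.mul u (nat_lit 5))) (nat_lit 31)
noncomputable def cvtl2Qd : ℕ := nat_lit 0x2080013005900040760
noncomputable def cvtl2Q (u : ℕ) : ℕ := Nat.land (Nat.shiftRight cvtl2Qd (Nat.mul u (nat_lit 4))) (nat_lit 15)
noncomputable def cvtl2 : H16.Lev := ⟨10, 10, cvtl2D, cvtl2P, cvtl2Q⟩
noncomputable def cvtl3Dd : ℕ := nat_lit 0x117ad2629060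
noncomputable def cvtl3D (u : ℕ) : ℕ := Nat.land (Nat.shiftRight cvtl3Dd (Nat.mul u (nat_lit 5))) (nat_lit 31)
noncomputable def cvtl3Pd : ℕ := nat_lit 0x22482c6a608
noncomputable def cvtl3P (u : ℕ) : ℕ := Nat.land (Nat.shiftRight cvtl3Pd (Nat.mul u (nat_lit 5))) (nat_lit 31)
noncomputable def cvtl3Qd : ℕ := nat_lit 0x6010034002000070850
noncomputable def cvtl3Q (u : ℕ) : ℕ := Nat.land (Nat.shiftRight cvtl3Qd (Nat.mul u (nat_lit 4))) (nat_lit 15)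
noncomputable def cvtl3 : H16.Lev := ⟨9, 4, cvtl3D, cvtl3P, cvtl3Q⟩
noncomputable def cvtl4Dd : ℕ := nat_lit 0xa88
noncomputable def cvtl4D (u : ℕ) : ℕ := Nat.land (Nat.shiftRight cvtl4Dd (Nat.mul u (nat_lit 3))) (nat_lit 7)
noncomputable def cvtl4Pd : ℕ := nat_lit 0xada93
noncomputable def cvtl4P (u : ℕ) : ℕ := Nat.land (Nat.shiftRight cvtl4Pd (Nat.mul u (nat_lit 5))) (nat_lit 31)
noncomputable def cvtl4Qd : ℕ := nat_lit 0x2d0000000000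
noncomputable def cvtl4Q (u : ℕ) : ℕ := Nat.land (Nat.shiftRight cvtl4Qd (Nat.mul u (nat_lit 2))) (nat_lit 3)
noncomputable def cvtl4 : H16.Lev := ⟨4, 3, cvtl4D, cvtl4P, cvtl4Q⟩
noncomputable def cvtl5Dd : ℕ := nat_lit 0
noncomputable def cvtl5D (u : ℕ) : ℕ := Nat.land (Nat.shiftRight cvtl5Dd (Nat.mul u (nat_lit 1))) (nat_lit 1)
noncomputable def cvtl5Pd : ℕ := nat_lit 0xd1
noncomputable def cvtl5P (u : ℕ) : ℕ := Nat.land (Nat.shiftRight cvtl5Pd (Nat.mul u (nat_lit 4))) (nat_lit 15)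
noncomputable def cvtl5Qd : ℕ := nat_lit 0x2000
noncomputable def cvtl5Q (u : ℕ) : ℕ := Nat.land (Nat.shiftRight cvtl5Qd (Nat.mul u (nat_lit 1))) (nat_lit 1)
noncomputable def cvtl5 : H16.Lev := ⟨2, 1, cvtl5D, cvtl5P, cvtl5Q⟩
noncomputable def cve_W : List (List ℕ) := [[nat_lit 3, nat_lit 5, nat_lit 6, nat_lit 2],
  [nat_lit 2, nat_lit 5, nat_lit 6, nat_lit 2, nat_lit 7],
  [nat_lit 1, nat_lit 2, nat_lit 4, nat_lit 5, nat_lit 7, nat_lit 4, nat_lit 7]]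
noncomputable def cve_P : ℕ → ℕ → ℕ := wdsP H15.MM12.P cve_W
noncomputable def cvc5Dd : ℕ := nat_lit 0
noncomputable def cvc5D (u : ℕ) : ℕ := Nat.land (Nat.shiftRight cvc5Dd (Nat.mul u (nat_lit 1))) (nat_lit 1)
noncomputable def cvc5Pd : ℕ := nat_lit 0xd1
noncomputable def cvc5P (u : ℕ) : ℕ := Nat.land (Nat.shiftRight cvc5Pd (Nat.mul u (nat_lit 4))) (nat_lit 15)
noncomputable def cvc5Qd : ℕ := nat_lit 0x2000
noncomputable def cvc5Q (u : ℕ) : ℕ := Nat.land (Nat.shiftRight cvc5Qd (Nat.mul u (nat_lit 1))) (nat_lit 1)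
noncomputable def cvc5 : H16.Lev := ⟨2, 1, cvc5D, cvc5P, cvc5Q⟩
noncomputable def cvtn0Fd : ℕ := nat_lit 0
noncomputable def cvtn0F (u : ℕ) : ℕ := Nat.land (Nat.shiftRight cvtn0Fd (Nat.mul u (nat_lit 1))) (nat_lit 1)
noncomputable def cvtn0 : Nd := ⟨cvtn0F, (nat_lit 2), (nat_lit 1), [], [((nat_lit 0), [])], []⟩
noncomputable def cvtn1y20_W : List (List ℕ) := [[nat_lit 3, nat_lit 5, nat_lit 6, nat_lit 2],
  [nat_lit 7, nat_lit 1, nat_lit 3, nat_lit 5, nat_lit 6, nat_lit 1, nat_lit 1, nat_lit 5, nat_lit 6],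
  [nat_lit 1, nat_lit 2, nat_lit 4, nat_lit 5, nat_lit 7, nat_lit 4, nat_lit 7]]
noncomputable def cvtn1y20_P : ℕ → ℕ → ℕ := wdsP H15.MM12.P cvtn1y20_W
noncomputable def cvtr2k_W : List (List ℕ) := [[],
  [nat_lit 3, nat_lit 5, nat_lit 6, nat_lit 2]]
noncomputable def cvtr2k_P : ℕ → ℕ → ℕ := wdsP H15.MM12.P cvtr2k_W
noncomputable def cvtn2Fd : ℕ := nat_lit 0xd
noncomputable def cvtn2F (u : ℕ) : ℕ := Nat.land (Nat.shiftRight cvtn2Fd (Nat.mul u (nat_lit 2))) (nat_lit 3)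
noncomputable def cvtn2 : Nd := ⟨cvtn2F, (nat_lit 2), (nat_lit 2), [[nat_lit 1]], [((nat_lit 0), [])], []⟩
noncomputable def cvtn1y22_W : List (List ℕ) := [[nat_lit 3, nat_lit 5, nat_lit 6, nat_lit 2],
  [nat_lit 2, nat_lit 5, nat_lit 6, nat_lit 2, nat_lit 7],
  [nat_lit 3, nat_lit 6, nat_lit 3, nat_lit 4, nat_lit 1, nat_lit 7, nat_lit 4, nat_lit 7]]
noncomputable def cvtn1y22_P : ℕ → ℕ → ℕ := wdsP H15.MM12.P cvtn1y22_W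
noncomputable def cvtr3k_W : List (List ℕ) := [[nat_lit 3, nat_lit 5, nat_lit 6, nat_lit 2],
  [nat_lit 3, nat_lit 5, nat_lit 6, nat_lit 2]]
noncomputable def cvtr3k_P : ℕ → ℕ → ℕ := wdsP H15.MM12.P cvtr3k_W
noncomputable def cvtn3Fd : ℕ := nat_lit 9
noncomputable def cvtn3F (u : ℕ) : ℕ := Nat.land (Nat.shiftRight cvtn3Fd (Nat.mul u (nat_lit 2))) (nat_lit 3)
noncomputable def cvtn3 : Nd := ⟨cvtn3F, (nat_lit 2), (nat_lit 2), [[nat_lit 2]], [((nat_lit 0), [])], []⟩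
noncomputable def cvtn1y21_W : List (List ℕ) := [[nat_lit 3, nat_lit 5, nat_lit 6, nat_lit 2],
  [nat_lit 5, nat_lit 3, nat_lit 5, nat_lit 0, nat_lit 6, nat_lit 1, nat_lit 1, nat_lit 5, nat_lit 7],
  [nat_lit 1, nat_lit 2, nat_lit 4, nat_lit 3, nat_lit 6, nat_lit 1, nat_lit 7, nat_lit 4, nat_lit 7]]
noncomputable def cvtn1y21_P : ℕ → ℕ → ℕ := wdsP H15.MM12.P cvtn1y21_W
noncomputable def cvtr4k_W : List (List ℕ) := [[nat_lit 3, nat_lit 5, nat_lit 6, nat_lit 2],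
  [nat_lit 3, nat_lit 5, nat_lit 6, nat_lit 2]]
noncomputable def cvtr4k_P : ℕ → ℕ → ℕ := wdsP H15.MM12.P cvtr4k_W
noncomputable def cvtn4Fd : ℕ := nat_lit 9
noncomputable def cvtn4F (u : ℕ) : ℕ := Nat.land (Nat.shiftRight cvtn4Fd (Nat.mul u (nat_lit 2))) (nat_lit 3)
noncomputable def cvtn4 : Nd := ⟨cvtn4F, (nat_lit 2), (nat_lit 2), [[nat_lit 1]], [((nat_lit 0), [])], []⟩
noncomputable def cvtn1Fd : ℕ := nat_lit 0xe
noncomputable def cvtn1F (u : ℕ) : ℕ := Nat.land (Nat.shiftRight cvtn1Fd (Nat.mul u (nat_lit 1))) (nat_lit 1)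
noncomputable def cvtn1 : Nd := ⟨cvtn1F, (nat_lit 2), (nat_lit 1), [], [((nat_lit 0), [])], [((nat_lit 20), cvtn1y20_W), ((nat_lit 22), cvtn1y22_W), ((nat_lit 21), cvtn1y21_W)]⟩
noncomputable def cvc0Dd : ℕ := nat_lit 0xa88
noncomputable def cvc0D (u : ℕ) : ℕ := Nat.land (Nat.shiftRight cvc0Dd (Nat.mul u (nat_lit 3))) (nat_lit 7)
noncomputable def cvc0Pd : ℕ := nat_lit 0x8630
noncomputable def cvc0P (u : ℕ) : ℕ := Nat.land (Nat.shiftRight cvc0Pd (Nat.mul u (nat_lit 4))) (nat_lit 15)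
noncomputable def cvc0Qd : ℕ := nat_lit 0x32040
noncomputable def cvc0Q (u : ℕ) : ℕ := Nat.land (Nat.shiftRight cvc0Qd (Nat.mul u (nat_lit 2))) (nat_lit 3)
noncomputable def cvc0 : H16.Lev := ⟨4, 3, cvc0D, cvc0P, cvc0Q⟩
noncomputable def cvtn5Fd : ℕ := nat_lit 0x337750
noncomputable def cvtn5F (u : ℕ) : ℕ := Nat.land (Nat.shiftRight cvtn5Fd (Nat.mul u (nat_lit 2))) (nat_lit 3)
noncomputable def cvtn5 : Nd := ⟨cvtn5F, (nat_lit 3), (nat_lit 3), [[nat_lit 0]], [((nat_lit 0), [])], []⟩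
noncomputable def nvW : List (List (List ℕ)) := [[[nat_lit 0],
  [nat_lit 1],
  [nat_lit 2]], [[nat_lit 0],
  [nat_lit 1],
  [nat_lit 0, nat_lit 1, nat_lit 2]], [[nat_lit 0],
  [nat_lit 1],
  [nat_lit 0, nat_lit 1, nat_lit 2]], [[nat_lit 0],
  [nat_lit 1, nat_lit 2],
  [nat_lit 0, nat_lit 1]], [[nat_lit 0],
  [nat_lit 1],
  [nat_lit 0, nat_lit 1, nat_lit 2]], [[nat_lit 0],
  [nat_lit 1],
  [nat_lit 1, nat_lit 2]]]
noncomputable def d_W : List (List ℕ) := [[nat_lit 3, nat_lit 6, nat_lit 3, nat_lit 4, nat_lit 1, nat_lit 7, nat_lit 4, nat_lit 7],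
  [nat_lit 6, nat_lit 1, nat_lit 2, nat_lit 4, nat_lit 2, nat_lit 5, nat_lit 1, nat_lit 1, nat_lit 7, nat_lit 4, nat_lit 7]]
noncomputable def d_P : ℕ → ℕ → ℕ := wdsP H15.MM12.P d_W
noncomputable def cdth_W : List (List ℕ) := [[nat_lit 1, nat_lit 2, nat_lit 4, nat_lit 5, nat_lit 7, nat_lit 4, nat_lit 7],
  [nat_lit 1, nat_lit 2, nat_lit 4, nat_lit 6, nat_lit 1, nat_lit 1, nat_lit 5, nat_lit 7, nat_lit 0],
  [nat_lit 7, nat_lit 6, nat_lit 4, nat_lit 1, nat_lit 7, nat_lit 4, nat_lit 1],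
  [nat_lit 1, nat_lit 1, nat_lit 4, nat_lit 5, nat_lit 2],
  [nat_lit 1, nat_lit 5],
  [nat_lit 0],
  [nat_lit 1],
  [nat_lit 2],
  [nat_lit 3],
  [nat_lit 4],
  [nat_lit 5],
  [nat_lit 6],
  [nat_lit 7]]
noncomputable def cdth_P : ℕ → ℕ → ℕ := wdsP H15.MM12.P cdth_W
noncomputable def cdtl0Dd : ℕ := nat_lit 0xa6eae441551148c2c0
noncomputable def cdtl0D (u : ℕ) : ℕ := Nat.land (Nat.shiftRight cdtl0Dd (Nat.mul u (nat_lit 6))) (nat_lit 63)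
noncomputable def cdtl0Pd : ℕ := nat_lit 0x24c81b64460a01
noncomputable def cdtl0P (u : ℕ) : ℕ := Nat.land (Nat.shiftRight cdtl0Pd (Nat.mul u (nat_lit 5))) (nat_lit 31)
noncomputable def cdtl0Qd : ℕ := nat_lit 0x501006300a80904720b
noncomputable def cdtl0Q (u : ℕ) : ℕ := Nat.land (Nat.shiftRight cdtl0Qd (Nat.mul u (nat_lit 4))) (nat_lit 15)
noncomputable def cdtl0 : H16.Lev := ⟨12, 13, cdtl0D, cdtl0P, cdtl0Q⟩
noncomputable def cdtl1Dd : ℕ := nat_lit 0x2e3926902481c6140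
noncomputable def cdtl1D (u : ℕ) : ℕ := Nat.land (Nat.shiftRight cdtl1Dd (Nat.mul u (nat_lit 6))) (nat_lit 63)
noncomputable def cdtl1Pd : ℕ := nat_lit 0x488186c23649
noncomputable def cdtl1P (u : ℕ) : ℕ := Nat.land (Nat.shiftRight cdtl1Pd (Nat.mul u (nat_lit 5))) (nat_lit 31)
noncomputable def cdtl1Qd : ℕ := nat_lit 0x107002400080603590a
noncomputable def cdtl1Q (u : ℕ) : ℕ := Nat.land (Nat.shiftRight cdtl1Qd (Nat.mul u (nat_lit 4))) (nat_lit 15)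
noncomputable def cdtl1 : H16.Lev := ⟨11, 11, cdtl1D, cdtl1P, cdtl1Q⟩
noncomputable def cdtl2Dd : ℕ := nat_lit 0x20b7b14e42480
noncomputable def cdtl2D (u : ℕ) : ℕ := Nat.land (Nat.shiftRight cdtl2Dd (Nat.mul u (nat_lit 5))) (nat_lit 31)
noncomputable def cdtl2Pd : ℕ := nat_lit 0x2419921920d
noncomputable def cdtl2P (u : ℕ) : ℕ := Nat.land (Nat.shiftRight cdtl2Pd (Nat.mul u (nat_lit 5))) (nat_lit 31)
noncomputable def cdtl2Qd : ℕ := nat_lit 0x4010005000706023809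
noncomputable def cdtl2Q (u : ℕ) : ℕ := Nat.land (Nat.shiftRight cdtl2Qd (Nat.mul u (nat_lit 4))) (nat_lit 15)
noncomputable def cdtl2 : H16.Lev := ⟨10, 5, cdtl2D, cdtl2P, cdtl2Q⟩
noncomputable def cdtl3Dd : ℕ := nat_lit 0xafb564730
noncomputable def cdtl3D (u : ℕ) : ℕ := Nat.land (Nat.shiftRight cdtl3Dd (Nat.mul u (nat_lit 4))) (nat_lit 15)
noncomputable def cdtl3Pd : ℕ := nat_lit 0xc9100241870
noncomputable def cdtl3P (u : ℕ) : ℕ := Nat.land (Nat.shiftRight cdtl3Pd (Nat.mul u (nat_lit 5))) (nat_lit 31)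
noncomputable def cdtl3Qd : ℕ := nat_lit 0x7000008000302061405
noncomputable def cdtl3Q (u : ℕ) : ℕ := Nat.land (Nat.shiftRight cdtl3Qd (Nat.mul u (nat_lit 4))) (nat_lit 15)
noncomputable def cdtl3 : H16.Lev := ⟨9, 4, cdtl3D, cdtl3P, cdtl3Q⟩
noncomputable def cdtl4Dd : ℕ := nat_lit 0x850
noncomputable def cdtl4D (u : ℕ) : ℕ := Nat.land (Nat.shiftRight cdtl4Dd (Nat.mul u (nat_lit 3))) (nat_lit 7)
noncomputable def cdtl4Pd : ℕ := nat_lit 0x8ddca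
noncomputable def cdtl4P (u : ℕ) : ℕ := Nat.land (Nat.shiftRight cdtl4Pd (Nat.mul u (nat_lit 5))) (nat_lit 31)
noncomputable def cdtl4Qd : ℕ := nat_lit 0x800c10000000
noncomputable def cdtl4Q (u : ℕ) : ℕ := Nat.land (Nat.shiftRight cdtl4Qd (Nat.mul u (nat_lit 2))) (nat_lit 3)
noncomputable def cdtl4 : H16.Lev := ⟨4, 3, cdtl4D, cdtl4P, cdtl4Q⟩
noncomputable def cdtl5Dd : ℕ := nat_lit 0
noncomputable def cdtl5D (u : ℕ) : ℕ := Nat.land (Nat.shiftRight cdtl5Dd (Nat.mul u (nat_lit 1))) (nat_lit 1)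
noncomputable def cdtl5Pd : ℕ := nat_lit 0x242
noncomputable def cdtl5P (u : ℕ) : ℕ := Nat.land (Nat.shiftRight cdtl5Pd (Nat.mul u (nat_lit 5))) (nat_lit 31)
noncomputable def cdtl5Qd : ℕ := nat_lit 0x40000
noncomputable def cdtl5Q (u : ℕ) : ℕ := Nat.land (Nat.shiftRight cdtl5Qd (Nat.mul u (nat_lit 1))) (nat_lit 1)
noncomputable def cdtl5 : H16.Lev := ⟨2, 1, cdtl5D, cdtl5P, cdtl5Q⟩
noncomputable def cde_W : List (List ℕ) := [[nat_lit 1, nat_lit 2, nat_lit 4, nat_lit 5, nat_lit 7, nat_lit 4, nat_lit 7],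
  [nat_lit 7, nat_lit 4, nat_lit 5, nat_lit 1, nat_lit 1, nat_lit 6, nat_lit 1],
  [nat_lit 5, nat_lit 2, nat_lit 5, nat_lit 6]]
noncomputable def cde_P : ℕ → ℕ → ℕ := wdsP H15.MM12.P cde_W
noncomputable def cdc5Dd : ℕ := nat_lit 0
noncomputable def cdc5D (u : ℕ) : ℕ := Nat.land (Nat.shiftRight cdc5Dd (Nat.mul u (nat_lit 1))) (nat_lit 1)
noncomputable def cdc5Pd : ℕ := nat_lit 0x242
noncomputable def cdc5P (u : ℕ) : ℕ := Nat.land (Nat.shiftRight cdc5Pd (Nat.mul u (nat_lit 5))) (nat_lit 31)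
noncomputable def cdc5Qd : ℕ := nat_lit 0x40000
noncomputable def cdc5Q (u : ℕ) : ℕ := Nat.land (Nat.shiftRight cdc5Qd (Nat.mul u (nat_lit 1))) (nat_lit 1)
noncomputable def cdc5 : H16.Lev := ⟨2, 1, cdc5D, cdc5P, cdc5Q⟩
noncomputable def cdtn0Fd : ℕ := nat_lit 0
noncomputable def cdtn0F (u : ℕ) : ℕ := Nat.land (Nat.shiftRight cdtn0Fd (Nat.mul u (nat_lit 1))) (nat_lit 1)
noncomputable def cdtn0 : Nd := ⟨cdtn0F, (nat_lit 2), (nat_lit 1), [], [((nat_lit 0), [])], []⟩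
noncomputable def cdc4Dd : ℕ := nat_lit 2
noncomputable def cdc4D (u : ℕ) : ℕ := Nat.land (Nat.shiftRight cdc4Dd (Nat.mul u (nat_lit 1))) (nat_lit 1)
noncomputable def cdc4Pd : ℕ := nat_lit 0x2ea
noncomputable def cdc4P (u : ℕ) : ℕ := Nat.land (Nat.shiftRight cdc4Pd (Nat.mul u (nat_lit 5))) (nat_lit 31)
noncomputable def cdc4Qd : ℕ := nat_lit 0x800000
noncomputable def cdc4Q (u : ℕ) : ℕ := Nat.land (Nat.shiftRight cdc4Qd (Nat.mul u (nat_lit 1))) (nat_lit 1)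
noncomputable def cdc4 : H16.Lev := ⟨2, 2, cdc4D, cdc4P, cdc4Q⟩
noncomputable def cdtn1Fd : ℕ := nat_lit 0xc4
noncomputable def cdtn1F (u : ℕ) : ℕ := Nat.land (Nat.shiftRight cdtn1Fd (Nat.mul u (nat_lit 2))) (nat_lit 3)
noncomputable def cdtn1 : Nd := ⟨cdtn1F, (nat_lit 2), (nat_lit 2), [], [((nat_lit 0), []), ((nat_lit 1), [nat_lit 1])], []⟩
noncomputable def cdc0Dd : ℕ := nat_lit 0x8520
noncomputable def cdc0D (u : ℕ) : ℕ := Nat.land (Nat.shiftRight cdc0Dd (Nat.mul u (nat_lit 4))) (nat_lit 15)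
noncomputable def cdc0Pd : ℕ := nat_lit 0x83521
noncomputable def cdc0P (u : ℕ) : ℕ := Nat.land (Nat.shiftRight cdc0Pd (Nat.mul u (nat_lit 5))) (nat_lit 31)
noncomputable def cdc0Qd : ℕ := nat_lit 0x308040000
noncomputable def cdc0Q (u : ℕ) : ℕ := Nat.land (Nat.shiftRight cdc0Qd (Nat.mul u (nat_lit 2))) (nat_lit 3)
noncomputable def cdc0 : H16.Lev := ⟨4, 3, cdc0D, cdc0P, cdc0Q⟩
noncomputable def cdtn2Fd : ℕ := nat_lit 0xe2321ca40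
noncomputable def cdtn2F (u : ℕ) : ℕ := Nat.land (Nat.shiftRight cdtn2Fd (Nat.mul u (nat_lit 3))) (nat_lit 7)
noncomputable def cdtn2 : Nd := ⟨cdtn2F, (nat_lit 3), (nat_lit 3), [[nat_lit 0],
  [nat_lit 0, nat_lit 1]], [((nat_lit 0), [])], []⟩
noncomputable def f_W : List (List ℕ) := [[nat_lit 3, nat_lit 5, nat_lit 6, nat_lit 2],
  [nat_lit 1, nat_lit 4, nat_lit 5, nat_lit 1, nat_lit 6, nat_lit 1, nat_lit 3, nat_lit 7, nat_lit 4],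
  [nat_lit 1, nat_lit 2, nat_lit 4, nat_lit 2, nat_lit 6, nat_lit 0],
  [nat_lit 3, nat_lit 5, nat_lit 1, nat_lit 7, nat_lit 4, nat_lit 2, nat_lit 7]]
noncomputable def f_P : ℕ → ℕ → ℕ := wdsP H15.MM12.P f_W

theorem zU_k : Nat.add (ltAll 6 [nat_lit 0]) (sumL (fun β => Nat.xor (H15.IC.M12.c0ax_P 0 β) (apW H15.IC.M12.p2t_P [nat_lit 0] β)) H15.MM12.B) = 0 := by decide +kernel
theorem Uz_k_0 : allZ (cmEnt H15.IC.M12.p2t_P H15.IC.M12.c0ax_P (nat_lit 6) H15.MM12.B (nat_lit 0)) (nat_lit 0) (nat_lit 6) = true := by decide +kernel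
theorem z1_k : 1 < 24 ∧ ltAll 1 (List.replicate 1 0) = 0 ∧ ltAll 1 [] = 0 ∧ apW H15.IC.M12.c0ax_P (List.replicate 1 0) 1 ≠ apW H15.IC.M12.c0ax_P [] 1 := by decide +kernel
theorem cuth_lt : H16.allL (ltAll 8) cuth_W = true := by decide +kernel
theorem cutl0_e_0 : allZ (dent cutl0 cuth_P (nat_lit 24)) (nat_lit 0) (nat_lit 11) = true := by decide +kernel
theorem cutl0_h : 0 < cutl0.n ∧ 0 < cutl0.K ∧ cutl0.Pt 0 < 24 ∧ cutl0.Q (cutl0.Pt 0) = 0 := by decide +kernel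
theorem cutl1_e_0 : allZ (dent cutl1 cuth_P (nat_lit 24)) (nat_lit 0) (nat_lit 10) = true := by decide +kernel
theorem cutl1_h : 0 < cutl1.n ∧ 0 < cutl1.K ∧ cutl1.Pt 0 < 24 ∧ cutl1.Q (cutl1.Pt 0) = 0 := by decide +kernel
theorem cutl2_e_0 : allZ (dent cutl2 cuth_P (nat_lit 24)) (nat_lit 0) (nat_lit 9) = true := by decide +kernel
theorem cutl2_h : 0 < cutl2.n ∧ 0 < cutl2.K ∧ cutl2.Pt 0 < 24 ∧ cutl2.Q (cutl2.Pt 0) = 0 := by decide +kernel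
theorem cutl3_e_0 : allZ (dent cutl3 cuth_P (nat_lit 24)) (nat_lit 0) (nat_lit 8) = true := by decide +kernel
theorem cutl3_h : 0 < cutl3.n ∧ 0 < cutl3.K ∧ cutl3.Pt 0 < 24 ∧ cutl3.Q (cutl3.Pt 0) = 0 := by decide +kernel
theorem cutl4_e_0 : allZ (dent cutl4 cuth_P (nat_lit 24)) (nat_lit 0) (nat_lit 7) = true := by decide +kernel
theorem cutl4_h : 0 < cutl4.n ∧ 0 < cutl4.K ∧ cutl4.Pt 0 < 24 ∧ cutl4.Q (cutl4.Pt 0) = 0 := by decide +kernel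
theorem cut_f4 : (Nat.ble cutl4.K 11 && Nat.ble (topK []) cutl4.K && fixLetters cuth_P (topK []) (cutl4.Pt 0)) = true := by decide +kernel
theorem cut_f3 : (Nat.ble cutl3.K 11 && Nat.ble (topK [cutl4]) cutl3.K && fixLetters cuth_P (topK [cutl4]) (cutl3.Pt 0)) = true := by decide +kernel
theorem cut_f2 : (Nat.ble cutl2.K 11 && Nat.ble (topK [cutl3, cutl4]) cutl2.K && fixLetters cuth_P (topK [cutl3, cutl4]) (cutl2.Pt 0)) = true := by decide +kernel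
theorem cut_f1 : (Nat.ble cutl1.K 11 && Nat.ble (topK [cutl2, cutl3, cutl4]) cutl1.K && fixLetters cuth_P (topK [cutl2, cutl3, cutl4]) (cutl1.Pt 0)) = true := by decide +kernel
theorem cut_f0 : (Nat.ble cutl0.K 11 && Nat.ble (topK [cutl1, cutl2, cutl3, cutl4]) cutl0.K && fixLetters cuth_P (topK [cutl1, cutl2, cutl3, cutl4]) (cutl0.Pt 0)) = true := by decide +kernel
theorem cut_c : chainCard [cutl0, cutl1, cutl2, cutl3, cutl4] = 95040 := by decide +kernel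
theorem cue_lt : H16.allL (ltAll 8) cue_W = true := by decide +kernel
theorem cu_f4 : (Nat.ble cutl4.K 11 && Nat.blt (nat_lit 1) 24 && fixLetters cuth_P cutl4.K (nat_lit 1) && Nat.beq (ltAll 6 [nat_lit 0, nat_lit 1]) 0 && Nat.beq (apW H15.IC.M12.p2t_P [nat_lit 0, nat_lit 1] (nat_lit 1)) (cutl4.Pt 0)) = true := by decide +kernel
theorem cu_f3 : (Nat.ble cutl3.K 11 && Nat.blt (nat_lit 1) 24 && fixLetters cuth_P cutl3.K (nat_lit 1) && Nat.beq (ltAll 6 [nat_lit 1]) 0 && Nat.beq (apW H15.IC.M12.p2t_P [nat_lit 1] (nat_lit 1)) (cutl3.Pt 0)) = true := by decide +kernel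
theorem cu_f2 : (Nat.ble cutl2.K 11 && Nat.blt (nat_lit 1) 24 && fixLetters cuth_P cutl2.K (nat_lit 1) && Nat.beq (ltAll 6 [nat_lit 0]) 0 && Nat.beq (apW H15.IC.M12.p2t_P [nat_lit 0] (nat_lit 1)) (cutl2.Pt 0)) = true := by decide +kernel
theorem cu_f1 : (Nat.ble cutl1.K 11 && Nat.blt (nat_lit 1) 24 && fixLetters cuth_P cutl1.K (nat_lit 1) && Nat.beq (ltAll 6 [nat_lit 3]) 0 && Nat.beq (apW H15.IC.M12.p2t_P [nat_lit 3] (nat_lit 1)) (cutl1.Pt 0)) = true := by decide +kernel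
theorem cuc0_e_0 : allZ (dent cuc0 cue_P (nat_lit 24)) (nat_lit 0) (nat_lit 1) = true := by decide +kernel
theorem cuc0_h : 0 < cuc0.n ∧ 0 < cuc0.K ∧ cuc0.Pt 0 < 24 ∧ cuc0.Q (cuc0.Pt 0) = 0 := by decide +kernel
theorem cutn0_0 : (Nat.ble cutl0.K 11 && Nat.beq (ltAll 24 []) 0 && kChk cue_P H15.IC.M12.p2t_P cutn0.Kn 6 H15.MM12.B [] && H16.allL (ltAll 6) cutn0.pre && planOK cuth_P H15.IC.M12.p2t_P 6 (cutl0.Pt 0) cutn0.plan [cutl0, cutl1, cutl2, cutl3, cutl4]) = true := by decide +kernel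
theorem cutn0_1_0 : allZ (cutn0.ent H15.MM12.P cuth_P H15.IC.M12.p2t_P H15.IC.M12.p2t_P cue_P (nat_lit 8) (nat_lit 6) H15.MM12.B cutl0 [cutl1, cutl2, cutl3, cutl4] (memO cuc0)) (nat_lit 0) (nat_lit 12) = true := by decide +kernel
theorem cu_f0 : (Nat.ble cuc0.K 1 && Nat.ble (topK []) cuc0.K && Nat.beq (cuc0.Pt 0) (cutl0.Pt 0) && Nat.beq (ltAll 24 []) 0 && kChk cue_P H15.IC.M12.p2t_P cuc0.K 6 H15.MM12.B []) = true := by decide +kernel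
theorem cu_c : chainCard [cuc0] = 2 ∧ topK [cuc0] = 1 := by decide +kernel
theorem v_lt : H16.allL (ltAll 8) v_W = true := by decide +kernel
theorem cvth_lt : H16.allL (ltAll 8) cvth_W = true := by decide +kernel
theorem cvtl0_e_0 : allZ (dent cvtl0 cvth_P (nat_lit 24)) (nat_lit 0) (nat_lit 11) = true := by decide +kernel
theorem cvtl0_h : 0 < cvtl0.n ∧ 0 < cvtl0.K ∧ cvtl0.Pt 0 < 24 ∧ cvtl0.Q (cvtl0.Pt 0) = 0 := by decide +kernel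
theorem cvtl1_e_0 : allZ (dent cvtl1 cvth_P (nat_lit 24)) (nat_lit 0) (nat_lit 10) = true := by decide +kernel
theorem cvtl1_h : 0 < cvtl1.n ∧ 0 < cvtl1.K ∧ cvtl1.Pt 0 < 24 ∧ cvtl1.Q (cvtl1.Pt 0) = 0 := by decide +kernel
theorem cvtl2_e_0 : allZ (dent cvtl2 cvth_P (nat_lit 24)) (nat_lit 0) (nat_lit 9) = true := by decide +kernel
theorem cvtl2_h : 0 < cvtl2.n ∧ 0 < cvtl2.K ∧ cvtl2.Pt 0 < 24 ∧ cvtl2.Q (cvtl2.Pt 0) = 0 := by decide +kernel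
theorem cvtl3_e_0 : allZ (dent cvtl3 cvth_P (nat_lit 24)) (nat_lit 0) (nat_lit 8) = true := by decide +kernel
theorem cvtl3_h : 0 < cvtl3.n ∧ 0 < cvtl3.K ∧ cvtl3.Pt 0 < 24 ∧ cvtl3.Q (cvtl3.Pt 0) = 0 := by decide +kernel
theorem cvtl4_e_0 : allZ (dent cvtl4 cvth_P (nat_lit 24)) (nat_lit 0) (nat_lit 3) = true := by decide +kernel
theorem cvtl4_h : 0 < cvtl4.n ∧ 0 < cvtl4.K ∧ cvtl4.Pt 0 < 24 ∧ cvtl4.Q (cvtl4.Pt 0) = 0 := by decide +kernel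
theorem cvtl5_e_0 : allZ (dent cvtl5 cvth_P (nat_lit 24)) (nat_lit 0) (nat_lit 1) = true := by decide +kernel
theorem cvtl5_h : 0 < cvtl5.n ∧ 0 < cvtl5.K ∧ cvtl5.Pt 0 < 24 ∧ cvtl5.Q (cvtl5.Pt 0) = 0 := by decide +kernel
theorem cvt_f5 : (Nat.ble cvtl5.K 12 && Nat.ble (topK []) cvtl5.K && fixLetters cvth_P (topK []) (cvtl5.Pt 0)) = true := by decide +kernel
theorem cvt_f4 : (Nat.ble cvtl4.K 12 && Nat.ble (topK [cvtl5]) cvtl4.K && fixLetters cvth_P (topK [cvtl5]) (cvtl4.Pt 0)) = true := by decide +kernel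
theorem cvt_f3 : (Nat.ble cvtl3.K 12 && Nat.ble (topK [cvtl4, cvtl5]) cvtl3.K && fixLetters cvth_P (topK [cvtl4, cvtl5]) (cvtl3.Pt 0)) = true := by decide +kernel
theorem cvt_f2 : (Nat.ble cvtl2.K 12 && Nat.ble (topK [cvtl3, cvtl4, cvtl5]) cvtl2.K && fixLetters cvth_P (topK [cvtl3, cvtl4, cvtl5]) (cvtl2.Pt 0)) = true := by decide +kernel
theorem cvt_f1 : (Nat.ble cvtl1.K 12 && Nat.ble (topK [cvtl2, cvtl3, cvtl4, cvtl5]) cvtl1.K && fixLetters cvth_P (topK [cvtl2, cvtl3, cvtl4, cvtl5]) (cvtl1.Pt 0)) = true := by decide +kernel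
theorem cvt_f0 : (Nat.ble cvtl0.K 12 && Nat.ble (topK [cvtl1, cvtl2, cvtl3, cvtl4, cvtl5]) cvtl0.K && fixLetters cvth_P (topK [cvtl1, cvtl2, cvtl3, cvtl4, cvtl5]) (cvtl0.Pt 0)) = true := by decide +kernel
theorem cvt_c : chainCard [cvtl0, cvtl1, cvtl2, cvtl3, cvtl4, cvtl5] = 95040 := by decide +kernel
theorem cve_lt : H16.allL (ltAll 8) cve_W = true := by decide +kernel
theorem cvc5_e_0 : allZ (dent cvc5 cve_P (nat_lit 24)) (nat_lit 0) (nat_lit 1) = true := by decide +kernel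
theorem cvc5_h : 0 < cvc5.n ∧ 0 < cvc5.K ∧ cvc5.Pt 0 < 24 ∧ cvc5.Q (cvc5.Pt 0) = 0 := by decide +kernel
theorem cvtn0_0 : (Nat.ble cvtl5.K 12 && Nat.beq (ltAll 24 [cvtl4.Pt 0, cvtl3.Pt 0, cvtl2.Pt 0, cvtl1.Pt 0, cvtl0.Pt 0]) 0 && kChk cve_P v_P cvtn0.Kn 3 H15.MM12.B [cvtl4.Pt 0, cvtl3.Pt 0, cvtl2.Pt 0, cvtl1.Pt 0, cvtl0.Pt 0] && H16.allL (ltAll 3) cvtn0.pre && planOK cvth_P v_P 3 (cvtl5.Pt 0) cvtn0.plan [cvtl5]) = true := by decide +kernel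
theorem cvtn0_1_0 : allZ (cvtn0.ent H15.MM12.P cvth_P v_P v_P cve_P (nat_lit 8) (nat_lit 3) H15.MM12.B cvtl5 [] (memO cvc5)) (nat_lit 0) (nat_lit 2) = true := by decide +kernel
theorem cv_f5 : (Nat.ble cvc5.K 3 && Nat.ble (topK []) cvc5.K && Nat.beq (cvc5.Pt 0) (cvtl5.Pt 0) && Nat.beq (ltAll 24 [cvtl4.Pt 0, cvtl3.Pt 0, cvtl2.Pt 0, cvtl1.Pt 0, cvtl0.Pt 0]) 0 && kChk cve_P v_P cvc5.K 3 H15.MM12.B [cvtl4.Pt 0, cvtl3.Pt 0, cvtl2.Pt 0, cvtl1.Pt 0, cvtl0.Pt 0]) = true := by decide +kernel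
theorem cvtn1y20_lt : H16.allL (ltAll 8) cvtn1y20_W = true := by decide +kernel
theorem cvtr2k_lt : H16.allL (ltAll 8) cvtr2k_W = true := by decide +kernel
theorem cvtn2_0 : (Nat.ble cvtl5.K 12 && Nat.beq (ltAll 24 [cvtl4.Pt 0, cvtl3.Pt 0, cvtl2.Pt 0, cvtl1.Pt 0, cvtl0.Pt 0]) 0 && kChk cvtr2k_P cvtn1y20_P cvtn2.Kn 3 H15.MM12.B [cvtl4.Pt 0, cvtl3.Pt 0, cvtl2.Pt 0, cvtl1.Pt 0, cvtl0.Pt 0] && H16.allL (ltAll 3) cvtn2.pre && planOK cvth_P v_P 3 (cvtl5.Pt 0) cvtn2.plan [cvtl5]) = true := by decide +kernel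
theorem cvtn2_1_0 : allZ (cvtn2.ent H15.MM12.P cvth_P v_P cvtn1y20_P cvtr2k_P (nat_lit 8) (nat_lit 3) H15.MM12.B cvtl5 [] (fun _ => nat_lit 1)) (nat_lit 0) (nat_lit 2) = true := by decide +kernel
theorem cvtn1y22_lt : H16.allL (ltAll 8) cvtn1y22_W = true := by decide +kernel
theorem cvtr3k_lt : H16.allL (ltAll 8) cvtr3k_W = true := by decide +kernel
theorem cvtn3_0 : (Nat.ble cvtl5.K 12 && Nat.beq (ltAll 24 [cvtl4.Pt 0, cvtl3.Pt 0, cvtl2.Pt 0, cvtl1.Pt 0, cvtl0.Pt 0]) 0 && kChk cvtr3k_P cvtn1y22_P cvtn3.Kn 3 H15.MM12.B [cvtl4.Pt 0, cvtl3.Pt 0, cvtl2.Pt 0, cvtl1.Pt 0, cvtl0.Pt 0] && H16.allL (ltAll 3) cvtn3.pre && planOK cvth_P v_P 3 (cvtl5.Pt 0) cvtn3.plan [cvtl5]) = true := by decide +kernel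
theorem cvtn3_1_0 : allZ (cvtn3.ent H15.MM12.P cvth_P v_P cvtn1y22_P cvtr3k_P (nat_lit 8) (nat_lit 3) H15.MM12.B cvtl5 [] (fun _ => nat_lit 1)) (nat_lit 0) (nat_lit 2) = true := by decide +kernel
theorem cvtn1y21_lt : H16.allL (ltAll 8) cvtn1y21_W = true := by decide +kernel
theorem cvtr4k_lt : H16.allL (ltAll 8) cvtr4k_W = true := by decide +kernel
theorem cvtn4_0 : (Nat.ble cvtl5.K 12 && Nat.beq (ltAll 24 [cvtl4.Pt 0, cvtl3.Pt 0, cvtl2.Pt 0, cvtl1.Pt 0, cvtl0.Pt 0]) 0 && kChk cvtr4k_P cvtn1y21_P cvtn4.Kn 3 H15.MM12.B [cvtl4.Pt 0, cvtl3.Pt 0, cvtl2.Pt 0, cvtl1.Pt 0, cvtl0.Pt 0] && H16.allL (ltAll 3) cvtn4.pre && planOK cvth_P v_P 3 (cvtl5.Pt 0) cvtn4.plan [cvtl5]) = true := by decide +kernel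
theorem cvtn4_1_0 : allZ (cvtn4.ent H15.MM12.P cvth_P v_P cvtn1y21_P cvtr4k_P (nat_lit 8) (nat_lit 3) H15.MM12.B cvtl5 [] (fun _ => nat_lit 1)) (nat_lit 0) (nat_lit 2) = true := by decide +kernel
theorem cvtn1_0 : (Nat.ble cvtl4.K 12 && Nat.beq (ltAll 24 [cvtl3.Pt 0, cvtl2.Pt 0, cvtl1.Pt 0, cvtl0.Pt 0]) 0 && kChk cve_P v_P cvtn1.Kn 3 H15.MM12.B [cvtl3.Pt 0, cvtl2.Pt 0, cvtl1.Pt 0, cvtl0.Pt 0] && H16.allL (ltAll 3) cvtn1.pre && planOK cvth_P v_P 3 (cvtl4.Pt 0) cvtn1.plan [cvtl4, cvtl5]) = true := by decide +kernel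
theorem cvtn1_1_0 : allZ (cvtn1.ent H15.MM12.P cvth_P v_P v_P cve_P (nat_lit 8) (nat_lit 3) H15.MM12.B cvtl4 [cvtl5] (fun w => Nat.xor w (cvtl4.Pt (nat_lit 0)))) (nat_lit 0) (nat_lit 4) = true := by decide +kernel
theorem cv_f3 : (Nat.ble cvtl3.K 12 && Nat.blt (nat_lit 0) 24 && fixLetters cvth_P cvtl3.K (nat_lit 0) && Nat.beq (ltAll 3 [nat_lit 1, nat_lit 2]) 0 && Nat.beq (apW v_P [nat_lit 1, nat_lit 2] (nat_lit 0)) (cvtl3.Pt 0)) = true := by decide +kernel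
theorem cv_f2 : (Nat.ble cvtl2.K 12 && Nat.blt (nat_lit 0) 24 && fixLetters cvth_P cvtl2.K (nat_lit 0) && Nat.beq (ltAll 3 [nat_lit 2]) 0 && Nat.beq (apW v_P [nat_lit 2] (nat_lit 0)) (cvtl2.Pt 0)) = true := by decide +kernel
theorem cv_f1 : (Nat.ble cvtl1.K 12 && Nat.blt (nat_lit 0) 24 && fixLetters cvth_P cvtl1.K (nat_lit 0) && Nat.beq (ltAll 3 [nat_lit 1]) 0 && Nat.beq (apW v_P [nat_lit 1] (nat_lit 0)) (cvtl1.Pt 0)) = true := by decide +kernel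
theorem cvc0_e_0 : allZ (dent cvc0 cve_P (nat_lit 24)) (nat_lit 0) (nat_lit 3) = true := by decide +kernel
theorem cvc0_h : 0 < cvc0.n ∧ 0 < cvc0.K ∧ cvc0.Pt 0 < 24 ∧ cvc0.Q (cvc0.Pt 0) = 0 := by decide +kernel
theorem cvtn5_0 : (Nat.ble cvtl0.K 12 && Nat.beq (ltAll 24 []) 0 && kChk cve_P v_P cvtn5.Kn 3 H15.MM12.B [] && H16.allL (ltAll 3) cvtn5.pre && planOK cvth_P v_P 3 (cvtl0.Pt 0) cvtn5.plan [cvtl0, cvtl1, cvtl2, cvtl3, cvtl4, cvtl5]) = true := by decide +kernel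
theorem cvtn5_1_0 : allZ (cvtn5.ent H15.MM12.P cvth_P v_P v_P cve_P (nat_lit 8) (nat_lit 3) H15.MM12.B cvtl0 [cvtl1, cvtl2, cvtl3, cvtl4, cvtl5] (memO cvc0)) (nat_lit 0) (nat_lit 12) = true := by decide +kernel
theorem cv_f0 : (Nat.ble cvc0.K 3 && Nat.ble (topK [cvc5]) cvc0.K && Nat.beq (cvc0.Pt 0) (cvtl0.Pt 0) && Nat.beq (ltAll 24 []) 0 && kChk cve_P v_P cvc0.K 3 H15.MM12.B []) = true := by decide +kernel
theorem cv_c : chainCard [cvc0, cvc5] = 8 ∧ topK [cvc0, cvc5] = 3 := by decide +kernel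
theorem nv_k_a : allZ2 (nrmEnt v_P H15.IC.M12.c0ace_P (nat_lit 3) H15.MM12.B nvW) (nat_lit 6) (nat_lit 3) = true := by decide +kernel
theorem vz_k_0 : allZ (cmEnt v_P H15.IC.M12.c0ax_P (nat_lit 3) H15.MM12.B (nat_lit 0)) (nat_lit 0) (nat_lit 3) = true := by decide +kernel
theorem vU_k : allZ (fun a => Nat.add (ltAll 6 (nth [] [[nat_lit 0],
  [nat_lit 5],
  [nat_lit 2]] a)) (sumL (fun β => Nat.xor (v_P a β) (apW H15.IC.M12.p2t_P (nth [] [[nat_lit 0],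
  [nat_lit 5],
  [nat_lit 2]] a) β)) H15.MM12.B)) 0 3 = true := by decide +kernel
theorem dk : ∀ b < 6, ∀ a < 6, 3 ≤ b → b < a → ltAll 3 (nth [] (nth [] H15.IC.M12.p2C b) a) = 0 := by decide +kernel
theorem d_lt : H16.allL (ltAll 8) d_W = true := by decide +kernel
theorem dr0_k : eqL H15.IC.M12.p2t_P 6 H15.MM12.B [nat_lit 3, nat_lit 5] [nat_lit 5, nat_lit 3, nat_lit 0, nat_lit 2] = 0 := by decide +kernel
theorem de0_k : Nat.add (ltAll 6 [nat_lit 0, nat_lit 2]) (sumL (fun β => Nat.xor (d_P 0 β) (apW H15.IC.M12.p2t_P [nat_lit 0, nat_lit 2] β)) H15.MM12.B) = 0 := by decide +kernel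
theorem dr1_k : eqL H15.IC.M12.p2t_P 6 H15.MM12.B [nat_lit 3, nat_lit 4] [nat_lit 4, nat_lit 3, nat_lit 0, nat_lit 1] = 0 := by decide +kernel
theorem de1_k : Nat.add (ltAll 6 [nat_lit 0, nat_lit 1]) (sumL (fun β => Nat.xor (d_P 1 β) (apW H15.IC.M12.p2t_P [nat_lit 0, nat_lit 1] β)) H15.MM12.B) = 0 := by decide +kernel
theorem cdth_lt : H16.allL (ltAll 8) cdth_W = true := by decide +kernel
theorem cdtl0_e_0 : allZ (dent cdtl0 cdth_P (nat_lit 24)) (nat_lit 0) (nat_lit 11) = true := by decide +kernel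
theorem cdtl0_h : 0 < cdtl0.n ∧ 0 < cdtl0.K ∧ cdtl0.Pt 0 < 24 ∧ cdtl0.Q (cdtl0.Pt 0) = 0 := by decide +kernel
theorem cdtl1_e_0 : allZ (dent cdtl1 cdth_P (nat_lit 24)) (nat_lit 0) (nat_lit 10) = true := by decide +kernel
theorem cdtl1_h : 0 < cdtl1.n ∧ 0 < cdtl1.K ∧ cdtl1.Pt 0 < 24 ∧ cdtl1.Q (cdtl1.Pt 0) = 0 := by decide +kernel
theorem cdtl2_e_0 : allZ (dent cdtl2 cdth_P (nat_lit 24)) (nat_lit 0) (nat_lit 9) = true := by decide +kernel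
theorem cdtl2_h : 0 < cdtl2.n ∧ 0 < cdtl2.K ∧ cdtl2.Pt 0 < 24 ∧ cdtl2.Q (cdtl2.Pt 0) = 0 := by decide +kernel
theorem cdtl3_e_0 : allZ (dent cdtl3 cdth_P (nat_lit 24)) (nat_lit 0) (nat_lit 8) = true := by decide +kernel
theorem cdtl3_h : 0 < cdtl3.n ∧ 0 < cdtl3.K ∧ cdtl3.Pt 0 < 24 ∧ cdtl3.Q (cdtl3.Pt 0) = 0 := by decide +kernel
theorem cdtl4_e_0 : allZ (dent cdtl4 cdth_P (nat_lit 24)) (nat_lit 0) (nat_lit 3) = true := by decide +kernel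
theorem cdtl4_h : 0 < cdtl4.n ∧ 0 < cdtl4.K ∧ cdtl4.Pt 0 < 24 ∧ cdtl4.Q (cdtl4.Pt 0) = 0 := by decide +kernel
theorem cdtl5_e_0 : allZ (dent cdtl5 cdth_P (nat_lit 24)) (nat_lit 0) (nat_lit 1) = true := by decide +kernel
theorem cdtl5_h : 0 < cdtl5.n ∧ 0 < cdtl5.K ∧ cdtl5.Pt 0 < 24 ∧ cdtl5.Q (cdtl5.Pt 0) = 0 := by decide +kernel
theorem cdt_f5 : (Nat.ble cdtl5.K 13 && Nat.ble (topK []) cdtl5.K && fixLetters cdth_P (topK []) (cdtl5.Pt 0)) = true := by decide +kernel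
theorem cdt_f4 : (Nat.ble cdtl4.K 13 && Nat.ble (topK [cdtl5]) cdtl4.K && fixLetters cdth_P (topK [cdtl5]) (cdtl4.Pt 0)) = true := by decide +kernel
theorem cdt_f3 : (Nat.ble cdtl3.K 13 && Nat.ble (topK [cdtl4, cdtl5]) cdtl3.K && fixLetters cdth_P (topK [cdtl4, cdtl5]) (cdtl3.Pt 0)) = true := by decide +kernel
theorem cdt_f2 : (Nat.ble cdtl2.K 13 && Nat.ble (topK [cdtl3, cdtl4, cdtl5]) cdtl2.K && fixLetters cdth_P (topK [cdtl3, cdtl4, cdtl5]) (cdtl2.Pt 0)) = true := by decide +kernel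
theorem cdt_f1 : (Nat.ble cdtl1.K 13 && Nat.ble (topK [cdtl2, cdtl3, cdtl4, cdtl5]) cdtl1.K && fixLetters cdth_P (topK [cdtl2, cdtl3, cdtl4, cdtl5]) (cdtl1.Pt 0)) = true := by decide +kernel
theorem cdt_f0 : (Nat.ble cdtl0.K 13 && Nat.ble (topK [cdtl1, cdtl2, cdtl3, cdtl4, cdtl5]) cdtl0.K && fixLetters cdth_P (topK [cdtl1, cdtl2, cdtl3, cdtl4, cdtl5]) (cdtl0.Pt 0)) = true := by decide +kernel
theorem cdt_c : chainCard [cdtl0, cdtl1, cdtl2, cdtl3, cdtl4, cdtl5] = 95040 := by decide +kernel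
theorem cde_lt : H16.allL (ltAll 8) cde_W = true := by decide +kernel
theorem cdc5_e_0 : allZ (dent cdc5 cde_P (nat_lit 24)) (nat_lit 0) (nat_lit 1) = true := by decide +kernel
theorem cdc5_h : 0 < cdc5.n ∧ 0 < cdc5.K ∧ cdc5.Pt 0 < 24 ∧ cdc5.Q (cdc5.Pt 0) = 0 := by decide +kernel
theorem cdtn0_0 : (Nat.ble cdtl5.K 13 && Nat.beq (ltAll 24 [cdtl4.Pt 0, cdtl3.Pt 0, cdtl2.Pt 0, cdtl1.Pt 0, cdtl0.Pt 0]) 0 && kChk cde_P d_P cdtn0.Kn 2 H15.MM12.B [cdtl4.Pt 0, cdtl3.Pt 0, cdtl2.Pt 0, cdtl1.Pt 0, cdtl0.Pt 0] && H16.allL (ltAll 2) cdtn0.pre && planOK cdth_P d_P 2 (cdtl5.Pt 0) cdtn0.plan [cdtl5]) = true := by decide +kernel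
theorem cdtn0_1_0 : allZ (cdtn0.ent H15.MM12.P cdth_P d_P d_P cde_P (nat_lit 8) (nat_lit 2) H15.MM12.B cdtl5 [] (memO cdc5)) (nat_lit 0) (nat_lit 2) = true := by decide +kernel
theorem cd_f5 : (Nat.ble cdc5.K 3 && Nat.ble (topK []) cdc5.K && Nat.beq (cdc5.Pt 0) (cdtl5.Pt 0) && Nat.beq (ltAll 24 [cdtl4.Pt 0, cdtl3.Pt 0, cdtl2.Pt 0, cdtl1.Pt 0, cdtl0.Pt 0]) 0 && kChk cde_P d_P cdc5.K 2 H15.MM12.B [cdtl4.Pt 0, cdtl3.Pt 0, cdtl2.Pt 0, cdtl1.Pt 0, cdtl0.Pt 0]) = true := by decide +kernel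
theorem cdc4_e_0 : allZ (dent cdc4 cde_P (nat_lit 24)) (nat_lit 0) (nat_lit 1) = true := by decide +kernel
theorem cdc4_h : 0 < cdc4.n ∧ 0 < cdc4.K ∧ cdc4.Pt 0 < 24 ∧ cdc4.Q (cdc4.Pt 0) = 0 := by decide +kernel
theorem cdtn1_0 : (Nat.ble cdtl4.K 13 && Nat.beq (ltAll 24 [cdtl3.Pt 0, cdtl2.Pt 0, cdtl1.Pt 0, cdtl0.Pt 0]) 0 && kChk cde_P d_P cdtn1.Kn 2 H15.MM12.B [cdtl3.Pt 0, cdtl2.Pt 0, cdtl1.Pt 0, cdtl0.Pt 0] && H16.allL (ltAll 2) cdtn1.pre && planOK cdth_P d_P 2 (cdtl4.Pt 0) cdtn1.plan [cdtl4, cdtl5]) = true := by decide +kernel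
theorem cdtn1_1_0 : allZ (cdtn1.ent H15.MM12.P cdth_P d_P d_P cde_P (nat_lit 8) (nat_lit 2) H15.MM12.B cdtl4 [cdtl5] (memO cdc4)) (nat_lit 0) (nat_lit 4) = true := by decide +kernel
theorem cd_f4 : (Nat.ble cdc4.K 3 && Nat.ble (topK [cdc5]) cdc4.K && Nat.beq (cdc4.Pt 0) (cdtl4.Pt 0) && Nat.beq (ltAll 24 [cdtl3.Pt 0, cdtl2.Pt 0, cdtl1.Pt 0, cdtl0.Pt 0]) 0 && kChk cde_P d_P cdc4.K 2 H15.MM12.B [cdtl3.Pt 0, cdtl2.Pt 0, cdtl1.Pt 0, cdtl0.Pt 0]) = true := by decide +kernel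
theorem cd_f3 : (Nat.ble cdtl3.K 13 && Nat.blt (nat_lit 1) 24 && fixLetters cdth_P cdtl3.K (nat_lit 1) && Nat.beq (ltAll 2 [nat_lit 0, nat_lit 1]) 0 && Nat.beq (apW d_P [nat_lit 0, nat_lit 1] (nat_lit 1)) (cdtl3.Pt 0)) = true := by decide +kernel
theorem cd_f2 : (Nat.ble cdtl2.K 13 && Nat.blt (nat_lit 1) 24 && fixLetters cdth_P cdtl2.K (nat_lit 1) && Nat.beq (ltAll 2 [nat_lit 0]) 0 && Nat.beq (apW d_P [nat_lit 0] (nat_lit 1)) (cdtl2.Pt 0)) = true := by decide +kernel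
theorem cd_f1 : (Nat.ble cdtl1.K 13 && Nat.blt (nat_lit 1) 24 && fixLetters cdth_P cdtl1.K (nat_lit 1) && Nat.beq (ltAll 2 [nat_lit 1]) 0 && Nat.beq (apW d_P [nat_lit 1] (nat_lit 1)) (cdtl1.Pt 0)) = true := by decide +kernel
theorem cdc0_e_0 : allZ (dent cdc0 cde_P (nat_lit 24)) (nat_lit 0) (nat_lit 3) = true := by decide +kernel
theorem cdc0_h : 0 < cdc0.n ∧ 0 < cdc0.K ∧ cdc0.Pt 0 < 24 ∧ cdc0.Q (cdc0.Pt 0) = 0 := by decide +kernel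
theorem cdtn2_0 : (Nat.ble cdtl0.K 13 && Nat.beq (ltAll 24 []) 0 && kChk cde_P d_P cdtn2.Kn 2 H15.MM12.B [] && H16.allL (ltAll 2) cdtn2.pre && planOK cdth_P d_P 2 (cdtl0.Pt 0) cdtn2.plan [cdtl0, cdtl1, cdtl2, cdtl3, cdtl4, cdtl5]) = true := by decide +kernel
theorem cdtn2_1_0 : allZ (cdtn2.ent H15.MM12.P cdth_P d_P d_P cde_P (nat_lit 8) (nat_lit 2) H15.MM12.B cdtl0 [cdtl1, cdtl2, cdtl3, cdtl4, cdtl5] (memO cdc0)) (nat_lit 0) (nat_lit 12) = true := by decide +kernel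
theorem cd_f0 : (Nat.ble cdc0.K 3 && Nat.ble (topK [cdc4, cdc5]) cdc0.K && Nat.beq (cdc0.Pt 0) (cdtl0.Pt 0) && Nat.beq (ltAll 24 []) 0 && kChk cde_P d_P cdc0.K 2 H15.MM12.B []) = true := by decide +kernel
theorem cd_c : chainCard [cdc0, cdc4, cdc5] = 16 ∧ topK [cdc0, cdc4, cdc5] = 3 := by decide +kernel
theorem wd0_k_0 : allZ (cmEnt H15.IC.M12.p2t_P cde_P (nat_lit 3) H15.MM12.B (nat_lit 0)) (nat_lit 0) (nat_lit 3) = true := by decide +kernel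
theorem wd1_k_0 : allZ (cmEnt H15.IC.M12.p2t_P cde_P (nat_lit 3) H15.MM12.B (nat_lit 1)) (nat_lit 0) (nat_lit 3) = true := by decide +kernel
theorem wd2_k_0 : allZ (cmEnt H15.IC.M12.p2t_P cde_P (nat_lit 3) H15.MM12.B (nat_lit 2)) (nat_lit 0) (nat_lit 3) = true := by decide +kernel
theorem wU_k : allZ (fun a => Nat.add (ltAll 6 (nth [] [[nat_lit 2],
  [nat_lit 4, nat_lit 5],
  [nat_lit 1, nat_lit 2]] a)) (sumL (fun β => Nat.xor (cde_P a β) (apW H15.IC.M12.p2t_P (nth [] [[nat_lit 2],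
  [nat_lit 4, nat_lit 5],
  [nat_lit 1, nat_lit 2]] a) β)) H15.MM12.B)) 0 3 = true := by decide +kernel
theorem zW_k : Nat.add (ltAll 3 [nat_lit 2, nat_lit 2]) (sumL (fun β => Nat.xor (H15.IC.M12.c0ax_P 0 β) (apW cde_P [nat_lit 2, nat_lit 2] β)) H15.MM12.B) = 0 := by decide +kernel
theorem f_lt : H16.allL (ltAll 8) f_W = true := by decide +kernel
theorem f1_k : allZ (fun j => cjL cde_P f_P 3 H15.MM12.B 1 [j] (nth [] [[nat_lit 2, nat_lit 2],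
  [nat_lit 2],
  [nat_lit 1]] j)) 0 3 = true := by decide +kernel
theorem f2_k : eqL f_P 4 H15.MM12.B [nat_lit 0, nat_lit 2] [nat_lit 2, nat_lit 0] = 0 := by decide +kernel
theorem f3_k : eqL f_P 4 H15.MM12.B [nat_lit 0, nat_lit 1, nat_lit 2, nat_lit 1, nat_lit 2, nat_lit 1] [nat_lit 1, nat_lit 2, nat_lit 1, nat_lit 2, nat_lit 1, nat_lit 3] = 0 := by decide +kernel
theorem f4_k : 0 < 24 ∧ ltAll 4 [nat_lit 3, nat_lit 0] = 0 ∧ ltAll 4 [nat_lit 0, nat_lit 3] = 0 ∧ apW f_P [nat_lit 3, nat_lit 0] 0 ≠ apW f_P [nat_lit 0, nat_lit 3] 0 := by decide +kernel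

theorem cz {G Ω : Type*} [Group G] [MulAction G Ω] {g : ℕ → G} {pt : ℕ → Ω}
    (M : Md g pt H15.MM12.P 24 8 H15.MM12.B 95040) : Subgroup.centralizer {(wds g H15.IC.M12.c0ax_W) 0} = (gen (wds g H15.IC.M12.c0ace_W) 6) :=
  H15.IC.M12.c0ac_c.2 ▸ (H15.IC.M12.c0ac M).cent1
theorem zU {G Ω : Type*} [Group G] [MulAction G Ω] {g : ℕ → G} {pt : ℕ → Ω}
    (M : Md g pt H15.MM12.P 24 8 H15.MM12.B 95040) : (wds g H15.IC.M12.c0ax_W) 0 = evA (wds g H15.IC.M12.p2t_W) [0] ∧ (wds g H15.IC.M12.c0ax_W) 0 ∈ gen (wds g H15.IC.M12.p2t_W) 6 :=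
  M.eqw (H15.IC.M12.p2t_act M) (H15.IC.M12.c0ax_act M) (by decide) zU_k
theorem Uz_k : ∀ i < 6, (cmEnt H15.IC.M12.p2t_P H15.IC.M12.c0ax_P (nat_lit 6) H15.MM12.B (nat_lit 0)) i = 0 := allZ_sound0 Uz_k_0
theorem Uz {G Ω : Type*} [Group G] [MulAction G Ω] {g : ℕ → G} {pt : ℕ → Ω}
    (M : Md g pt H15.MM12.P 24 8 H15.MM12.B 95040) : (wds g H15.IC.M12.c0ax_W) 0 ∈ Subgroup.centralizer ((gen (wds g H15.IC.M12.p2t_W) 6) : Set G) :=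
  cms M (H15.IC.M12.p2t_act M) (H15.IC.M12.c0ax_act M) (by decide) Uz_k
theorem z1 {G Ω : Type*} [Group G] [MulAction G Ω] {g : ℕ → G} {pt : ℕ → Ω}
    (M : Md g pt H15.MM12.P 24 8 H15.MM12.B 95040) : (wds g H15.IC.M12.c0ax_W) 0 ^ 1 ≠ 1 :=
  M.npw (H15.IC.M12.c0ax_act M) _ z1_k
theorem cuth_act {G Ω : Type*} [Group G] [MulAction G Ω] {g : ℕ → G} {pt : ℕ → Ω}
    (M : Md g pt H15.MM12.P 24 8 H15.MM12.B 95040) : Act (wds g cuth_W) pt cuth_P 24 11 :=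
  M.wact cuth_lt
theorem cutl0_e : ∀ i < 11, (dent cutl0 cuth_P (nat_lit 24)) i = 0 := allZ_sound0 cutl0_e_0
theorem cutl0_ok : DOK cutl0 cuth_P 24 := ⟨cutl0_h, cutl0_e⟩
theorem cutl1_e : ∀ i < 10, (dent cutl1 cuth_P (nat_lit 24)) i = 0 := allZ_sound0 cutl1_e_0
theorem cutl1_ok : DOK cutl1 cuth_P 24 := ⟨cutl1_h, cutl1_e⟩
theorem cutl2_e : ∀ i < 9, (dent cutl2 cuth_P (nat_lit 24)) i = 0 := allZ_sound0 cutl2_e_0
theorem cutl2_ok : DOK cutl2 cuth_P 24 := ⟨cutl2_h, cutl2_e⟩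
theorem cutl3_e : ∀ i < 8, (dent cutl3 cuth_P (nat_lit 24)) i = 0 := allZ_sound0 cutl3_e_0
theorem cutl3_ok : DOK cutl3 cuth_P 24 := ⟨cutl3_h, cutl3_e⟩
theorem cutl4_e : ∀ i < 7, (dent cutl4 cuth_P (nat_lit 24)) i = 0 := allZ_sound0 cutl4_e_0
theorem cutl4_ok : DOK cutl4 cuth_P 24 := ⟨cutl4_h, cutl4_e⟩
theorem cut_low {G Ω : Type*} [Group G] [MulAction G Ω] {g : ℕ → G} {pt : ℕ → Ω}
    (M : Md g pt H15.MM12.P 24 8 H15.MM12.B 95040) : SLow (gi (wds g cuth_W)) pt 24 [cutl0, cutl1, cutl2, cutl3, cutl4] :=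
  (((((SLow.nil).cons cutl4_ok (cuth_act M) cut_f4).cons cutl3_ok (cuth_act M) cut_f3).cons cutl2_ok (cuth_act M) cut_f2).cons cutl1_ok (cuth_act M) cut_f1).cons cutl0_ok (cuth_act M) cut_f0
theorem cut_S0 {G Ω : Type*} [Group G] [MulAction G Ω] {g : ℕ → G} {pt : ℕ → Ω}
    (M : Md g pt H15.MM12.P 24 8 H15.MM12.B 95040) : Stage ⊤ (wds g cuth_W) pt 24 [cutl0, cutl1, cutl2, cutl3, cutl4] [] :=
  M.stage (cut_low M) cut_c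
theorem cut_S1 {G Ω : Type*} [Group G] [MulAction G Ω] {g : ℕ → G} {pt : ℕ → Ω}
    (M : Md g pt H15.MM12.P 24 8 H15.MM12.B 95040) : Stage ⊤ (wds g cuth_W) pt 24 [cutl1, cutl2, cutl3, cutl4] [cutl0.Pt 0] :=
  (cut_S0 M).next
theorem cut_S2 {G Ω : Type*} [Group G] [MulAction G Ω] {g : ℕ → G} {pt : ℕ → Ω}
    (M : Md g pt H15.MM12.P 24 8 H15.MM12.B 95040) : Stage ⊤ (wds g cuth_W) pt 24 [cutl2, cutl3, cutl4] [cutl1.Pt 0, cutl0.Pt 0] :=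
  (cut_S1 M).next
theorem cut_S3 {G Ω : Type*} [Group G] [MulAction G Ω] {g : ℕ → G} {pt : ℕ → Ω}
    (M : Md g pt H15.MM12.P 24 8 H15.MM12.B 95040) : Stage ⊤ (wds g cuth_W) pt 24 [cutl3, cutl4] [cutl2.Pt 0, cutl1.Pt 0, cutl0.Pt 0] :=
  (cut_S2 M).next
theorem cut_S4 {G Ω : Type*} [Group G] [MulAction G Ω] {g : ℕ → G} {pt : ℕ → Ω}
    (M : Md g pt H15.MM12.P 24 8 H15.MM12.B 95040) : Stage ⊤ (wds g cuth_W) pt 24 [cutl4] [cutl3.Pt 0, cutl2.Pt 0, cutl1.Pt 0, cutl0.Pt 0] :=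
  (cut_S3 M).next
theorem cut_S5 {G Ω : Type*} [Group G] [MulAction G Ω] {g : ℕ → G} {pt : ℕ → Ω}
    (M : Md g pt H15.MM12.P 24 8 H15.MM12.B 95040) : Stage ⊤ (wds g cuth_W) pt 24 [] [cutl4.Pt 0, cutl3.Pt 0, cutl2.Pt 0, cutl1.Pt 0, cutl0.Pt 0] :=
  (cut_S4 M).next
theorem cue_act {G Ω : Type*} [Group G] [MulAction G Ω] {g : ℕ → G} {pt : ℕ → Ω}
    (M : Md g pt H15.MM12.P 24 8 H15.MM12.B 95040) : Act (wds g cue_W) pt cue_P 24 1 :=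
  M.wact cue_lt
theorem cuc0_e : ∀ i < 1, (dent cuc0 cue_P (nat_lit 24)) i = 0 := allZ_sound0 cuc0_e_0
theorem cuc0_ok : DOK cuc0 cue_P 24 := ⟨cuc0_h, cuc0_e⟩
theorem cutn0_1 : ∀ i < 12, (cutn0.ent H15.MM12.P cuth_P H15.IC.M12.p2t_P H15.IC.M12.p2t_P cue_P (nat_lit 8) (nat_lit 6) H15.MM12.B cutl0 [cutl1, cutl2, cutl3, cutl4] (memO cuc0)) i = 0 := allZ_sound0 cutn0_1_0
theorem cutn0_t {G Ω : Type*} [Group G] [MulAction G Ω] {g : ℕ → G} {pt : ℕ → Ω}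
    (M : Md g pt H15.MM12.P 24 8 H15.MM12.B 95040) : TrO (gen (wds g cuth_W) cutl0.K) (wds g H15.IC.M12.p2t_W) (wds g H15.IC.M12.p2t_W) 6 pt 24 (cutl0.Pt 0) (memO cuc0) :=
  node M (cut_S0 M) (cuth_act M) (H15.IC.M12.p2t_act M) (H15.IC.M12.p2t_act M) cutn0 ((cue_act M).mono (by decide)) (fun _ _ => trivial) cutn0_0 cutn0_1 (List.forall_mem_nil _)
theorem cu {G Ω : Type*} [Group G] [MulAction G Ω] {g : ℕ → G} {pt : ℕ → Ω}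
    (M : Md g pt H15.MM12.P 24 8 H15.MM12.B 95040) : Cen ⊤ (wds g H15.IC.M12.p2t_W) 6 (wds g cue_W) pt 24 [cuc0] :=
  (cut_S0 M).top ▸ Cen.lev M (cut_S0 M) (Cen.triv (cut_S1 M) (Cen.triv (cut_S2 M) (Cen.triv (cut_S3 M) (Cen.triv (cut_S4 M) (Cen.bot) (forced (cut_S4 M) (cuth_act M) (H15.IC.M12.p2t_act M) _ _ cu_f4)) (forced (cut_S3 M) (cuth_act M) (H15.IC.M12.p2t_act M) _ _ cu_f3)) (forced (cut_S2 M) (cuth_act M) (H15.IC.M12.p2t_act M) _ _ cu_f2)) (forced (cut_S1 M) (cuth_act M) (H15.IC.M12.p2t_act M) _ _ cu_f1)) (cutn0_t M) (H15.IC.M12.p2t_act M) (cue_act M) (fun _ _ => trivial) cuc0_ok cu_f0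
theorem cu_eq {G Ω : Type*} [Group G] [MulAction G Ω] {g : ℕ → G} {pt : ℕ → Ω}
    (M : Md g pt H15.MM12.P 24 8 H15.MM12.B 95040) : Subgroup.centralizer (gen (wds g H15.IC.M12.p2t_W) 6) = gen (wds g cue_W) 1 ∧ Nat.card (gen (wds g cue_W) 1) = 2 :=
  cu_c.1 ▸ cu_c.2 ▸ ⟨(cu M).cent, (cu M).card M.inj⟩
theorem v_act {G Ω : Type*} [Group G] [MulAction G Ω] {g : ℕ → G} {pt : ℕ → Ω}
    (M : Md g pt H15.MM12.P 24 8 H15.MM12.B 95040) : Act (wds g v_W) pt v_P 24 3 :=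
  M.wact v_lt
theorem cvth_act {G Ω : Type*} [Group G] [MulAction G Ω] {g : ℕ → G} {pt : ℕ → Ω}
    (M : Md g pt H15.MM12.P 24 8 H15.MM12.B 95040) : Act (wds g cvth_W) pt cvth_P 24 12 :=
  M.wact cvth_lt
theorem cvtl0_e : ∀ i < 11, (dent cvtl0 cvth_P (nat_lit 24)) i = 0 := allZ_sound0 cvtl0_e_0
theorem cvtl0_ok : DOK cvtl0 cvth_P 24 := ⟨cvtl0_h, cvtl0_e⟩
theorem cvtl1_e : ∀ i < 10, (dent cvtl1 cvth_P (nat_lit 24)) i = 0 := allZ_sound0 cvtl1_e_0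
theorem cvtl1_ok : DOK cvtl1 cvth_P 24 := ⟨cvtl1_h, cvtl1_e⟩
theorem cvtl2_e : ∀ i < 9, (dent cvtl2 cvth_P (nat_lit 24)) i = 0 := allZ_sound0 cvtl2_e_0
theorem cvtl2_ok : DOK cvtl2 cvth_P 24 := ⟨cvtl2_h, cvtl2_e⟩
theorem cvtl3_e : ∀ i < 8, (dent cvtl3 cvth_P (nat_lit 24)) i = 0 := allZ_sound0 cvtl3_e_0
theorem cvtl3_ok : DOK cvtl3 cvth_P 24 := ⟨cvtl3_h, cvtl3_e⟩
theorem cvtl4_e : ∀ i < 3, (dent cvtl4 cvth_P (nat_lit 24)) i = 0 := allZ_sound0 cvtl4_e_0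
theorem cvtl4_ok : DOK cvtl4 cvth_P 24 := ⟨cvtl4_h, cvtl4_e⟩
theorem cvtl5_e : ∀ i < 1, (dent cvtl5 cvth_P (nat_lit 24)) i = 0 := allZ_sound0 cvtl5_e_0
theorem cvtl5_ok : DOK cvtl5 cvth_P 24 := ⟨cvtl5_h, cvtl5_e⟩
theorem cvt_low {G Ω : Type*} [Group G] [MulAction G Ω] {g : ℕ → G} {pt : ℕ → Ω}
    (M : Md g pt H15.MM12.P 24 8 H15.MM12.B 95040) : SLow (gi (wds g cvth_W)) pt 24 [cvtl0, cvtl1, cvtl2, cvtl3, cvtl4, cvtl5] :=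
  ((((((SLow.nil).cons cvtl5_ok (cvth_act M) cvt_f5).cons cvtl4_ok (cvth_act M) cvt_f4).cons cvtl3_ok (cvth_act M) cvt_f3).cons cvtl2_ok (cvth_act M) cvt_f2).cons cvtl1_ok (cvth_act M) cvt_f1).cons cvtl0_ok (cvth_act M) cvt_f0
theorem cvt_S0 {G Ω : Type*} [Group G] [MulAction G Ω] {g : ℕ → G} {pt : ℕ → Ω}
    (M : Md g pt H15.MM12.P 24 8 H15.MM12.B 95040) : Stage ⊤ (wds g cvth_W) pt 24 [cvtl0, cvtl1, cvtl2, cvtl3, cvtl4, cvtl5] [] :=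
  M.stage (cvt_low M) cvt_c
theorem cvt_S1 {G Ω : Type*} [Group G] [MulAction G Ω] {g : ℕ → G} {pt : ℕ → Ω}
    (M : Md g pt H15.MM12.P 24 8 H15.MM12.B 95040) : Stage ⊤ (wds g cvth_W) pt 24 [cvtl1, cvtl2, cvtl3, cvtl4, cvtl5] [cvtl0.Pt 0] :=
  (cvt_S0 M).next
theorem cvt_S2 {G Ω : Type*} [Group G] [MulAction G Ω] {g : ℕ → G} {pt : ℕ → Ω}
    (M : Md g pt H15.MM12.P 24 8 H15.MM12.B 95040) : Stage ⊤ (wds g cvth_W) pt 24 [cvtl2, cvtl3, cvtl4, cvtl5] [cvtl1.Pt 0, cvtl0.Pt 0] :=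
  (cvt_S1 M).next
theorem cvt_S3 {G Ω : Type*} [Group G] [MulAction G Ω] {g : ℕ → G} {pt : ℕ → Ω}
    (M : Md g pt H15.MM12.P 24 8 H15.MM12.B 95040) : Stage ⊤ (wds g cvth_W) pt 24 [cvtl3, cvtl4, cvtl5] [cvtl2.Pt 0, cvtl1.Pt 0, cvtl0.Pt 0] :=
  (cvt_S2 M).next
theorem cvt_S4 {G Ω : Type*} [Group G] [MulAction G Ω] {g : ℕ → G} {pt : ℕ → Ω}
    (M : Md g pt H15.MM12.P 24 8 H15.MM12.B 95040) : Stage ⊤ (wds g cvth_W) pt 24 [cvtl4, cvtl5] [cvtl3.Pt 0, cvtl2.Pt 0, cvtl1.Pt 0, cvtl0.Pt 0] :=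
  (cvt_S3 M).next
theorem cvt_S5 {G Ω : Type*} [Group G] [MulAction G Ω] {g : ℕ → G} {pt : ℕ → Ω}
    (M : Md g pt H15.MM12.P 24 8 H15.MM12.B 95040) : Stage ⊤ (wds g cvth_W) pt 24 [cvtl5] [cvtl4.Pt 0, cvtl3.Pt 0, cvtl2.Pt 0, cvtl1.Pt 0, cvtl0.Pt 0] :=
  (cvt_S4 M).next
theorem cvt_S6 {G Ω : Type*} [Group G] [MulAction G Ω] {g : ℕ → G} {pt : ℕ → Ω}
    (M : Md g pt H15.MM12.P 24 8 H15.MM12.B 95040) : Stage ⊤ (wds g cvth_W) pt 24 [] [cvtl5.Pt 0, cvtl4.Pt 0, cvtl3.Pt 0, cvtl2.Pt 0, cvtl1.Pt 0, cvtl0.Pt 0] :=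
  (cvt_S5 M).next
theorem cve_act {G Ω : Type*} [Group G] [MulAction G Ω] {g : ℕ → G} {pt : ℕ → Ω}
    (M : Md g pt H15.MM12.P 24 8 H15.MM12.B 95040) : Act (wds g cve_W) pt cve_P 24 3 :=
  M.wact cve_lt
theorem cvc5_e : ∀ i < 1, (dent cvc5 cve_P (nat_lit 24)) i = 0 := allZ_sound0 cvc5_e_0
theorem cvc5_ok : DOK cvc5 cve_P 24 := ⟨cvc5_h, cvc5_e⟩
theorem cvtn0_1 : ∀ i < 2, (cvtn0.ent H15.MM12.P cvth_P v_P v_P cve_P (nat_lit 8) (nat_lit 3) H15.MM12.B cvtl5 [] (memO cvc5)) i = 0 := allZ_sound0 cvtn0_1_0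
theorem cvtn0_t {G Ω : Type*} [Group G] [MulAction G Ω] {g : ℕ → G} {pt : ℕ → Ω}
    (M : Md g pt H15.MM12.P 24 8 H15.MM12.B 95040) : TrO (gen (wds g cvth_W) cvtl5.K) (wds g v_W) (wds g v_W) 3 pt 24 (cvtl5.Pt 0) (memO cvc5) :=
  node M (cvt_S5 M) (cvth_act M) (v_act M) (v_act M) cvtn0 ((cve_act M).mono (by decide)) (fun _ _ => trivial) cvtn0_0 cvtn0_1 (List.forall_mem_nil _)
theorem cvtn1y20_act {G Ω : Type*} [Group G] [MulAction G Ω] {g : ℕ → G} {pt : ℕ → Ω}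
    (M : Md g pt H15.MM12.P 24 8 H15.MM12.B 95040) : Act (wds g cvtn1y20_W) pt cvtn1y20_P 24 3 :=
  M.wact cvtn1y20_lt
theorem cvtr2k_act {G Ω : Type*} [Group G] [MulAction G Ω] {g : ℕ → G} {pt : ℕ → Ω}
    (M : Md g pt H15.MM12.P 24 8 H15.MM12.B 95040) : Act (wds g cvtr2k_W) pt cvtr2k_P 24 2 :=
  M.wact cvtr2k_lt
theorem cvtn2_1 : ∀ i < 2, (cvtn2.ent H15.MM12.P cvth_P v_P cvtn1y20_P cvtr2k_P (nat_lit 8) (nat_lit 3) H15.MM12.B cvtl5 [] (fun _ => nat_lit 1)) i = 0 := allZ_sound0 cvtn2_1_0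
theorem cvtn2_t {G Ω : Type*} [Group G] [MulAction G Ω] {g : ℕ → G} {pt : ℕ → Ω}
    (M : Md g pt H15.MM12.P 24 8 H15.MM12.B 95040) : TrO (gen (wds g cvth_W) cvtl5.K) (wds g v_W) (wds g cvtn1y20_W) 3 pt 24 (cvtl5.Pt 0) (fun _ => nat_lit 1) :=
  node M (cvt_S5 M) (cvth_act M) (v_act M) (cvtn1y20_act M) cvtn2 ((cvtr2k_act M).mono (by decide)) (fun _ _ => trivial) cvtn2_0 cvtn2_1 (List.forall_mem_nil _)
theorem cvtr2 {G Ω : Type*} [Group G] [MulAction G Ω] {g : ℕ → G} {pt : ℕ → Ω}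
    (M : Md g pt H15.MM12.P 24 8 H15.MM12.B 95040) : Ref (gen (wds g cvth_W) (topK [cvtl5])) (wds g v_W) (wds g cvtn1y20_W) 3 :=
  (cvtn2_t M).ref
theorem cvtn1y22_act {G Ω : Type*} [Group G] [MulAction G Ω] {g : ℕ → G} {pt : ℕ → Ω}
    (M : Md g pt H15.MM12.P 24 8 H15.MM12.B 95040) : Act (wds g cvtn1y22_W) pt cvtn1y22_P 24 3 :=
  M.wact cvtn1y22_lt
theorem cvtr3k_act {G Ω : Type*} [Group G] [MulAction G Ω] {g : ℕ → G} {pt : ℕ → Ω}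
    (M : Md g pt H15.MM12.P 24 8 H15.MM12.B 95040) : Act (wds g cvtr3k_W) pt cvtr3k_P 24 2 :=
  M.wact cvtr3k_lt
theorem cvtn3_1 : ∀ i < 2, (cvtn3.ent H15.MM12.P cvth_P v_P cvtn1y22_P cvtr3k_P (nat_lit 8) (nat_lit 3) H15.MM12.B cvtl5 [] (fun _ => nat_lit 1)) i = 0 := allZ_sound0 cvtn3_1_0
theorem cvtn3_t {G Ω : Type*} [Group G] [MulAction G Ω] {g : ℕ → G} {pt : ℕ → Ω}
    (M : Md g pt H15.MM12.P 24 8 H15.MM12.B 95040) : TrO (gen (wds g cvth_W) cvtl5.K) (wds g v_W) (wds g cvtn1y22_W) 3 pt 24 (cvtl5.Pt 0) (fun _ => nat_lit 1) :=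
  node M (cvt_S5 M) (cvth_act M) (v_act M) (cvtn1y22_act M) cvtn3 ((cvtr3k_act M).mono (by decide)) (fun _ _ => trivial) cvtn3_0 cvtn3_1 (List.forall_mem_nil _)
theorem cvtr3 {G Ω : Type*} [Group G] [MulAction G Ω] {g : ℕ → G} {pt : ℕ → Ω}
    (M : Md g pt H15.MM12.P 24 8 H15.MM12.B 95040) : Ref (gen (wds g cvth_W) (topK [cvtl5])) (wds g v_W) (wds g cvtn1y22_W) 3 :=
  (cvtn3_t M).ref
theorem cvtn1y21_act {G Ω : Type*} [Group G] [MulAction G Ω] {g : ℕ → G} {pt : ℕ → Ω}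
    (M : Md g pt H15.MM12.P 24 8 H15.MM12.B 95040) : Act (wds g cvtn1y21_W) pt cvtn1y21_P 24 3 :=
  M.wact cvtn1y21_lt
theorem cvtr4k_act {G Ω : Type*} [Group G] [MulAction G Ω] {g : ℕ → G} {pt : ℕ → Ω}
    (M : Md g pt H15.MM12.P 24 8 H15.MM12.B 95040) : Act (wds g cvtr4k_W) pt cvtr4k_P 24 2 :=
  M.wact cvtr4k_lt
theorem cvtn4_1 : ∀ i < 2, (cvtn4.ent H15.MM12.P cvth_P v_P cvtn1y21_P cvtr4k_P (nat_lit 8) (nat_lit 3) H15.MM12.B cvtl5 [] (fun _ => nat_lit 1)) i = 0 := allZ_sound0 cvtn4_1_0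
theorem cvtn4_t {G Ω : Type*} [Group G] [MulAction G Ω] {g : ℕ → G} {pt : ℕ → Ω}
    (M : Md g pt H15.MM12.P 24 8 H15.MM12.B 95040) : TrO (gen (wds g cvth_W) cvtl5.K) (wds g v_W) (wds g cvtn1y21_W) 3 pt 24 (cvtl5.Pt 0) (fun _ => nat_lit 1) :=
  node M (cvt_S5 M) (cvth_act M) (v_act M) (cvtn1y21_act M) cvtn4 ((cvtr4k_act M).mono (by decide)) (fun _ _ => trivial) cvtn4_0 cvtn4_1 (List.forall_mem_nil _)
theorem cvtr4 {G Ω : Type*} [Group G] [MulAction G Ω] {g : ℕ → G} {pt : ℕ → Ω}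
    (M : Md g pt H15.MM12.P 24 8 H15.MM12.B 95040) : Ref (gen (wds g cvth_W) (topK [cvtl5])) (wds g v_W) (wds g cvtn1y21_W) 3 :=
  (cvtn4_t M).ref
theorem cvtn1_1 : ∀ i < 4, (cvtn1.ent H15.MM12.P cvth_P v_P v_P cve_P (nat_lit 8) (nat_lit 3) H15.MM12.B cvtl4 [cvtl5] (fun w => Nat.xor w (cvtl4.Pt (nat_lit 0)))) i = 0 := allZ_sound0 cvtn1_1_0
theorem cvtn1_t {G Ω : Type*} [Group G] [MulAction G Ω] {g : ℕ → G} {pt : ℕ → Ω}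
    (M : Md g pt H15.MM12.P 24 8 H15.MM12.B 95040) : TrO (gen (wds g cvth_W) cvtl4.K) (wds g v_W) (wds g v_W) 3 pt 24 (cvtl4.Pt 0) (fun w => Nat.xor w (cvtl4.Pt (nat_lit 0))) :=
  node M (cvt_S4 M) (cvth_act M) (v_act M) (v_act M) cvtn1 ((cve_act M).mono (by decide)) (fun _ _ => trivial) cvtn1_0 cvtn1_1 (List.forall_mem_cons.2 ⟨cvtr2 M, List.forall_mem_cons.2 ⟨cvtr3 M, List.forall_mem_cons.2 ⟨cvtr4 M, List.forall_mem_nil _⟩⟩⟩)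
theorem cvc0_e : ∀ i < 3, (dent cvc0 cve_P (nat_lit 24)) i = 0 := allZ_sound0 cvc0_e_0
theorem cvc0_ok : DOK cvc0 cve_P 24 := ⟨cvc0_h, cvc0_e⟩
theorem cvtn5_1 : ∀ i < 12, (cvtn5.ent H15.MM12.P cvth_P v_P v_P cve_P (nat_lit 8) (nat_lit 3) H15.MM12.B cvtl0 [cvtl1, cvtl2, cvtl3, cvtl4, cvtl5] (memO cvc0)) i = 0 := allZ_sound0 cvtn5_1_0
theorem cvtn5_t {G Ω : Type*} [Group G] [MulAction G Ω] {g : ℕ → G} {pt : ℕ → Ω}
    (M : Md g pt H15.MM12.P 24 8 H15.MM12.B 95040) : TrO (gen (wds g cvth_W) cvtl0.K) (wds g v_W) (wds g v_W) 3 pt 24 (cvtl0.Pt 0) (memO cvc0) :=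
  node M (cvt_S0 M) (cvth_act M) (v_act M) (v_act M) cvtn5 ((cve_act M).mono (by decide)) (fun _ _ => trivial) cvtn5_0 cvtn5_1 (List.forall_mem_nil _)
theorem cv {G Ω : Type*} [Group G] [MulAction G Ω] {g : ℕ → G} {pt : ℕ → Ω}
    (M : Md g pt H15.MM12.P 24 8 H15.MM12.B 95040) : Cen ⊤ (wds g v_W) 3 (wds g cve_W) pt 24 [cvc0, cvc5] :=
  (cvt_S0 M).top ▸ Cen.lev M (cvt_S0 M) (Cen.triv (cvt_S1 M) (Cen.triv (cvt_S2 M) (Cen.triv (cvt_S3 M) (Cen.triv (cvt_S4 M) (Cen.lev M (cvt_S5 M) (Cen.bot) (cvtn0_t M) (v_act M) (cve_act M) (fun _ _ => trivial) cvc5_ok cv_f5) (cvtn1_t M)) (forced (cvt_S3 M) (cvth_act M) (v_act M) _ _ cv_f3)) (forced (cvt_S2 M) (cvth_act M) (v_act M) _ _ cv_f2)) (forced (cvt_S1 M) (cvth_act M) (v_act M) _ _ cv_f1)) (cvtn5_t M) (v_act M) (cve_act M) (fun _ _ => trivial) cvc0_ok cv_f0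
theorem cv_eq {G Ω : Type*} [Group G] [MulAction G Ω] {g : ℕ → G} {pt : ℕ → Ω}
    (M : Md g pt H15.MM12.P 24 8 H15.MM12.B 95040) : Subgroup.centralizer (gen (wds g v_W) 3) = gen (wds g cve_W) 3 ∧ Nat.card (gen (wds g cve_W) 3) = 8 :=
  cv_c.1 ▸ cv_c.2 ▸ ⟨(cv M).cent, (cv M).card M.inj⟩
theorem nv_k : ∀ k < 6, ∀ i < 3, (nrmEnt v_P H15.IC.M12.c0ace_P (nat_lit 3) H15.MM12.B nvW) k i = 0 := allZ2_sound nv_k_a
theorem nv {G Ω : Type*} [Group G] [MulAction G Ω] {g : ℕ → G} {pt : ℕ → Ω}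
    (M : Md g pt H15.MM12.P 24 8 H15.MM12.B 95040) : (gen (wds g H15.IC.M12.c0ace_W) 6) ≤ Subgroup.normalizer ((gen (wds g v_W) 3) : Set G) :=
  norms M (v_act M) (H15.IC.M12.c0ace_act M) nv_k
theorem vz_k : ∀ i < 3, (cmEnt v_P H15.IC.M12.c0ax_P (nat_lit 3) H15.MM12.B (nat_lit 0)) i = 0 := allZ_sound0 vz_k_0
theorem vz {G Ω : Type*} [Group G] [MulAction G Ω] {g : ℕ → G} {pt : ℕ → Ω}
    (M : Md g pt H15.MM12.P 24 8 H15.MM12.B 95040) : (wds g H15.IC.M12.c0ax_W) 0 ∈ Subgroup.centralizer ((gen (wds g v_W) 3) : Set G) :=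
  cms M (v_act M) (H15.IC.M12.c0ax_act M) (by decide) vz_k
theorem vU {G Ω : Type*} [Group G] [MulAction G Ω] {g : ℕ → G} {pt : ℕ → Ω}
    (M : Md g pt H15.MM12.P 24 8 H15.MM12.B 95040) : gen (wds g v_W) 3 ≤ gen (wds g H15.IC.M12.p2t_W) 6 :=
  M.gen_le (H15.IC.M12.p2t_act M) (v_act M) vU_k
theorem z0 {G Ω : Type*} [Group G] [MulAction G Ω] {g : ℕ → G} {pt : ℕ → Ω}
    (M : Md g pt H15.MM12.P 24 8 H15.MM12.B 95040) : Z0 (gen (wds g H15.IC.M12.p2t_W) 6) ((wds g H15.IC.M12.c0ax_W) 0) :=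
  have := M.fin
  have s := pc_syl (H15.IC.M12.p2_pc M)
  ⟨s, (zU M).2, Uz M, z1 M, ((congrArg (fun H : Subgroup G => Nat.card H) (cu_eq M).1).trans (cu_eq M).2), cp_sub (k := 3) (H19.le_cent1_iff.2 (vz M)) ((cz M).le.trans (nv M)) (s.pi.of_le (vU M)) ((congrArg (fun H : Subgroup G => Nat.card H) (cv_eq M).1).trans (cv_eq M).2)⟩
theorem d_act {G Ω : Type*} [Group G] [MulAction G Ω] {g : ℕ → G} {pt : ℕ → Ω}
    (M : Md g pt H15.MM12.P 24 8 H15.MM12.B 95040) : Act (wds g d_W) pt d_P 24 2 :=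
  M.wact d_lt
theorem dr0 {G Ω : Type*} [Group G] [MulAction G Ω] {g : ℕ → G} {pt : ℕ → Ω}
    (M : Md g pt H15.MM12.P 24 8 H15.MM12.B 95040) : evA (wds g H15.IC.M12.p2t_W) [3, 5] = evA (wds g H15.IC.M12.p2t_W) [5, 3, 0, 2] :=
  M.eq_of (H15.IC.M12.p2t_act M) dr0_k
theorem de0 {G Ω : Type*} [Group G] [MulAction G Ω] {g : ℕ → G} {pt : ℕ → Ω}
    (M : Md g pt H15.MM12.P 24 8 H15.MM12.B 95040) : (wds g d_W) 0 = evA (wds g H15.IC.M12.p2t_W) [0, 2] ∧ (wds g d_W) 0 ∈ gen (wds g H15.IC.M12.p2t_W) 6 :=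
  M.eqw (H15.IC.M12.p2t_act M) (d_act M) (by decide) de0_k
theorem dr1 {G Ω : Type*} [Group G] [MulAction G Ω] {g : ℕ → G} {pt : ℕ → Ω}
    (M : Md g pt H15.MM12.P 24 8 H15.MM12.B 95040) : evA (wds g H15.IC.M12.p2t_W) [3, 4] = evA (wds g H15.IC.M12.p2t_W) [4, 3, 0, 1] :=
  M.eq_of (H15.IC.M12.p2t_act M) dr1_k
theorem de1 {G Ω : Type*} [Group G] [MulAction G Ω] {g : ℕ → G} {pt : ℕ → Ω}
    (M : Md g pt H15.MM12.P 24 8 H15.MM12.B 95040) : (wds g d_W) 1 = evA (wds g H15.IC.M12.p2t_W) [0, 1] ∧ (wds g d_W) 1 ∈ gen (wds g H15.IC.M12.p2t_W) 6 :=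
  M.eqw (H15.IC.M12.p2t_act M) (d_act M) (by decide) de1_k
theorem cdth_act {G Ω : Type*} [Group G] [MulAction G Ω] {g : ℕ → G} {pt : ℕ → Ω}
    (M : Md g pt H15.MM12.P 24 8 H15.MM12.B 95040) : Act (wds g cdth_W) pt cdth_P 24 13 :=
  M.wact cdth_lt
theorem cdtl0_e : ∀ i < 11, (dent cdtl0 cdth_P (nat_lit 24)) i = 0 := allZ_sound0 cdtl0_e_0
theorem cdtl0_ok : DOK cdtl0 cdth_P 24 := ⟨cdtl0_h, cdtl0_e⟩
theorem cdtl1_e : ∀ i < 10, (dent cdtl1 cdth_P (nat_lit 24)) i = 0 := allZ_sound0 cdtl1_e_0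
theorem cdtl1_ok : DOK cdtl1 cdth_P 24 := ⟨cdtl1_h, cdtl1_e⟩
theorem cdtl2_e : ∀ i < 9, (dent cdtl2 cdth_P (nat_lit 24)) i = 0 := allZ_sound0 cdtl2_e_0
theorem cdtl2_ok : DOK cdtl2 cdth_P 24 := ⟨cdtl2_h, cdtl2_e⟩
theorem cdtl3_e : ∀ i < 8, (dent cdtl3 cdth_P (nat_lit 24)) i = 0 := allZ_sound0 cdtl3_e_0
theorem cdtl3_ok : DOK cdtl3 cdth_P 24 := ⟨cdtl3_h, cdtl3_e⟩
theorem cdtl4_e : ∀ i < 3, (dent cdtl4 cdth_P (nat_lit 24)) i = 0 := allZ_sound0 cdtl4_e_0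
theorem cdtl4_ok : DOK cdtl4 cdth_P 24 := ⟨cdtl4_h, cdtl4_e⟩
theorem cdtl5_e : ∀ i < 1, (dent cdtl5 cdth_P (nat_lit 24)) i = 0 := allZ_sound0 cdtl5_e_0
theorem cdtl5_ok : DOK cdtl5 cdth_P 24 := ⟨cdtl5_h, cdtl5_e⟩
theorem cdt_low {G Ω : Type*} [Group G] [MulAction G Ω] {g : ℕ → G} {pt : ℕ → Ω}
    (M : Md g pt H15.MM12.P 24 8 H15.MM12.B 95040) : SLow (gi (wds g cdth_W)) pt 24 [cdtl0, cdtl1, cdtl2, cdtl3, cdtl4, cdtl5] :=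
  ((((((SLow.nil).cons cdtl5_ok (cdth_act M) cdt_f5).cons cdtl4_ok (cdth_act M) cdt_f4).cons cdtl3_ok (cdth_act M) cdt_f3).cons cdtl2_ok (cdth_act M) cdt_f2).cons cdtl1_ok (cdth_act M) cdt_f1).cons cdtl0_ok (cdth_act M) cdt_f0
theorem cdt_S0 {G Ω : Type*} [Group G] [MulAction G Ω] {g : ℕ → G} {pt : ℕ → Ω}
    (M : Md g pt H15.MM12.P 24 8 H15.MM12.B 95040) : Stage ⊤ (wds g cdth_W) pt 24 [cdtl0, cdtl1, cdtl2, cdtl3, cdtl4, cdtl5] [] :=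
  M.stage (cdt_low M) cdt_c
theorem cdt_S1 {G Ω : Type*} [Group G] [MulAction G Ω] {g : ℕ → G} {pt : ℕ → Ω}
    (M : Md g pt H15.MM12.P 24 8 H15.MM12.B 95040) : Stage ⊤ (wds g cdth_W) pt 24 [cdtl1, cdtl2, cdtl3, cdtl4, cdtl5] [cdtl0.Pt 0] :=
  (cdt_S0 M).next
theorem cdt_S2 {G Ω : Type*} [Group G] [MulAction G Ω] {g : ℕ → G} {pt : ℕ → Ω}
    (M : Md g pt H15.MM12.P 24 8 H15.MM12.B 95040) : Stage ⊤ (wds g cdth_W) pt 24 [cdtl2, cdtl3, cdtl4, cdtl5] [cdtl1.Pt 0, cdtl0.Pt 0] :=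
  (cdt_S1 M).next
theorem cdt_S3 {G Ω : Type*} [Group G] [MulAction G Ω] {g : ℕ → G} {pt : ℕ → Ω}
    (M : Md g pt H15.MM12.P 24 8 H15.MM12.B 95040) : Stage ⊤ (wds g cdth_W) pt 24 [cdtl3, cdtl4, cdtl5] [cdtl2.Pt 0, cdtl1.Pt 0, cdtl0.Pt 0] :=
  (cdt_S2 M).next
theorem cdt_S4 {G Ω : Type*} [Group G] [MulAction G Ω] {g : ℕ → G} {pt : ℕ → Ω}
    (M : Md g pt H15.MM12.P 24 8 H15.MM12.B 95040) : Stage ⊤ (wds g cdth_W) pt 24 [cdtl4, cdtl5] [cdtl3.Pt 0, cdtl2.Pt 0, cdtl1.Pt 0, cdtl0.Pt 0] :=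
  (cdt_S3 M).next
theorem cdt_S5 {G Ω : Type*} [Group G] [MulAction G Ω] {g : ℕ → G} {pt : ℕ → Ω}
    (M : Md g pt H15.MM12.P 24 8 H15.MM12.B 95040) : Stage ⊤ (wds g cdth_W) pt 24 [cdtl5] [cdtl4.Pt 0, cdtl3.Pt 0, cdtl2.Pt 0, cdtl1.Pt 0, cdtl0.Pt 0] :=
  (cdt_S4 M).next
theorem cdt_S6 {G Ω : Type*} [Group G] [MulAction G Ω] {g : ℕ → G} {pt : ℕ → Ω}
    (M : Md g pt H15.MM12.P 24 8 H15.MM12.B 95040) : Stage ⊤ (wds g cdth_W) pt 24 [] [cdtl5.Pt 0, cdtl4.Pt 0, cdtl3.Pt 0, cdtl2.Pt 0, cdtl1.Pt 0, cdtl0.Pt 0] :=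
  (cdt_S5 M).next
theorem cde_act {G Ω : Type*} [Group G] [MulAction G Ω] {g : ℕ → G} {pt : ℕ → Ω}
    (M : Md g pt H15.MM12.P 24 8 H15.MM12.B 95040) : Act (wds g cde_W) pt cde_P 24 3 :=
  M.wact cde_lt
theorem cdc5_e : ∀ i < 1, (dent cdc5 cde_P (nat_lit 24)) i = 0 := allZ_sound0 cdc5_e_0
theorem cdc5_ok : DOK cdc5 cde_P 24 := ⟨cdc5_h, cdc5_e⟩
theorem cdtn0_1 : ∀ i < 2, (cdtn0.ent H15.MM12.P cdth_P d_P d_P cde_P (nat_lit 8) (nat_lit 2) H15.MM12.B cdtl5 [] (memO cdc5)) i = 0 := allZ_sound0 cdtn0_1_0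
theorem cdtn0_t {G Ω : Type*} [Group G] [MulAction G Ω] {g : ℕ → G} {pt : ℕ → Ω}
    (M : Md g pt H15.MM12.P 24 8 H15.MM12.B 95040) : TrO (gen (wds g cdth_W) cdtl5.K) (wds g d_W) (wds g d_W) 2 pt 24 (cdtl5.Pt 0) (memO cdc5) :=
  node M (cdt_S5 M) (cdth_act M) (d_act M) (d_act M) cdtn0 ((cde_act M).mono (by decide)) (fun _ _ => trivial) cdtn0_0 cdtn0_1 (List.forall_mem_nil _)
theorem cdc4_e : ∀ i < 1, (dent cdc4 cde_P (nat_lit 24)) i = 0 := allZ_sound0 cdc4_e_0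
theorem cdc4_ok : DOK cdc4 cde_P 24 := ⟨cdc4_h, cdc4_e⟩
theorem cdtn1_1 : ∀ i < 4, (cdtn1.ent H15.MM12.P cdth_P d_P d_P cde_P (nat_lit 8) (nat_lit 2) H15.MM12.B cdtl4 [cdtl5] (memO cdc4)) i = 0 := allZ_sound0 cdtn1_1_0
theorem cdtn1_t {G Ω : Type*} [Group G] [MulAction G Ω] {g : ℕ → G} {pt : ℕ → Ω}
    (M : Md g pt H15.MM12.P 24 8 H15.MM12.B 95040) : TrO (gen (wds g cdth_W) cdtl4.K) (wds g d_W) (wds g d_W) 2 pt 24 (cdtl4.Pt 0) (memO cdc4) :=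
  node M (cdt_S4 M) (cdth_act M) (d_act M) (d_act M) cdtn1 ((cde_act M).mono (by decide)) (fun _ _ => trivial) cdtn1_0 cdtn1_1 (List.forall_mem_nil _)
theorem cdc0_e : ∀ i < 3, (dent cdc0 cde_P (nat_lit 24)) i = 0 := allZ_sound0 cdc0_e_0
theorem cdc0_ok : DOK cdc0 cde_P 24 := ⟨cdc0_h, cdc0_e⟩
theorem cdtn2_1 : ∀ i < 12, (cdtn2.ent H15.MM12.P cdth_P d_P d_P cde_P (nat_lit 8) (nat_lit 2) H15.MM12.B cdtl0 [cdtl1, cdtl2, cdtl3, cdtl4, cdtl5] (memO cdc0)) i = 0 := allZ_sound0 cdtn2_1_0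
theorem cdtn2_t {G Ω : Type*} [Group G] [MulAction G Ω] {g : ℕ → G} {pt : ℕ → Ω}
    (M : Md g pt H15.MM12.P 24 8 H15.MM12.B 95040) : TrO (gen (wds g cdth_W) cdtl0.K) (wds g d_W) (wds g d_W) 2 pt 24 (cdtl0.Pt 0) (memO cdc0) :=
  node M (cdt_S0 M) (cdth_act M) (d_act M) (d_act M) cdtn2 ((cde_act M).mono (by decide)) (fun _ _ => trivial) cdtn2_0 cdtn2_1 (List.forall_mem_nil _)
theorem cd {G Ω : Type*} [Group G] [MulAction G Ω] {g : ℕ → G} {pt : ℕ → Ω}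
    (M : Md g pt H15.MM12.P 24 8 H15.MM12.B 95040) : Cen ⊤ (wds g d_W) 2 (wds g cde_W) pt 24 [cdc0, cdc4, cdc5] :=
  (cdt_S0 M).top ▸ Cen.lev M (cdt_S0 M) (Cen.triv (cdt_S1 M) (Cen.triv (cdt_S2 M) (Cen.triv (cdt_S3 M) (Cen.lev M (cdt_S4 M) (Cen.lev M (cdt_S5 M) (Cen.bot) (cdtn0_t M) (d_act M) (cde_act M) (fun _ _ => trivial) cdc5_ok cd_f5) (cdtn1_t M) (d_act M) (cde_act M) (fun _ _ => trivial) cdc4_ok cd_f4) (forced (cdt_S3 M) (cdth_act M) (d_act M) _ _ cd_f3)) (forced (cdt_S2 M) (cdth_act M) (d_act M) _ _ cd_f2)) (forced (cdt_S1 M) (cdth_act M) (d_act M) _ _ cd_f1)) (cdtn2_t M) (d_act M) (cde_act M) (fun _ _ => trivial) cdc0_ok cd_f0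
theorem cd_eq {G Ω : Type*} [Group G] [MulAction G Ω] {g : ℕ → G} {pt : ℕ → Ω}
    (M : Md g pt H15.MM12.P 24 8 H15.MM12.B 95040) : Subgroup.centralizer (gen (wds g d_W) 2) = gen (wds g cde_W) 3 ∧ Nat.card (gen (wds g cde_W) 3) = 16 :=
  cd_c.1 ▸ cd_c.2 ▸ ⟨(cd M).cent, (cd M).card M.inj⟩
theorem wd0_k : ∀ i < 3, (cmEnt H15.IC.M12.p2t_P cde_P (nat_lit 3) H15.MM12.B (nat_lit 0)) i = 0 := allZ_sound0 wd0_k_0
theorem wd0 {G Ω : Type*} [Group G] [MulAction G Ω] {g : ℕ → G} {pt : ℕ → Ω}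
    (M : Md g pt H15.MM12.P 24 8 H15.MM12.B 95040) : (wds g cde_W) 0 ∈ Subgroup.centralizer ((gen (wds g H15.IC.M12.p2t_W) 3) : Set G) :=
  cms M ((H15.IC.M12.p2t_act M).mono (by decide)) (cde_act M) (by decide) wd0_k
theorem wd1_k : ∀ i < 3, (cmEnt H15.IC.M12.p2t_P cde_P (nat_lit 3) H15.MM12.B (nat_lit 1)) i = 0 := allZ_sound0 wd1_k_0
theorem wd1 {G Ω : Type*} [Group G] [MulAction G Ω] {g : ℕ → G} {pt : ℕ → Ω}
    (M : Md g pt H15.MM12.P 24 8 H15.MM12.B 95040) : (wds g cde_W) 1 ∈ Subgroup.centralizer ((gen (wds g H15.IC.M12.p2t_W) 3) : Set G) :=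
  cms M ((H15.IC.M12.p2t_act M).mono (by decide)) (cde_act M) (by decide) wd1_k
theorem wd2_k : ∀ i < 3, (cmEnt H15.IC.M12.p2t_P cde_P (nat_lit 3) H15.MM12.B (nat_lit 2)) i = 0 := allZ_sound0 wd2_k_0
theorem wd2 {G Ω : Type*} [Group G] [MulAction G Ω] {g : ℕ → G} {pt : ℕ → Ω}
    (M : Md g pt H15.MM12.P 24 8 H15.MM12.B 95040) : (wds g cde_W) 2 ∈ Subgroup.centralizer ((gen (wds g H15.IC.M12.p2t_W) 3) : Set G) :=
  cms M ((H15.IC.M12.p2t_act M).mono (by decide)) (cde_act M) (by decide) wd2_k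
theorem ivw {G Ω : Type*} [Group G] [MulAction G Ω] {g : ℕ → G} {pt : ℕ → Ω}
    (M : Md g pt H15.MM12.P 24 8 H15.MM12.B 95040) : Iv (gen (wds g H15.IC.M12.p2t_W) 6) (gen (wds g cde_W) 3) :=
  have := M.fin
  iv_self.com.sw (gen_le.2 fun i hi => match i, hi with | 0, _ => com_mem (W := [5]) (b := 3) (by decide) (evA_mem_gen _ (by decide)) (de0 M) (dr0 M) | 1, _ => com_mem (W := [4]) (b := 3) (by decide) (evA_mem_gen _ (by decide)) (de1 M) (dr1 M))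
    (com_le (H15.IC.M12.p2_pc M).toPC0 (by decide) (sm_der (H15.IC.M12.p2_sm M).1 H15.IC.M12.p2_p dk)) (cd_eq M).1
    (gen_le.2 fun i hi => match i, hi with | 0, _ => wd0 M | 1, _ => wd1 M | 2, _ => wd2 M)
theorem wU {G Ω : Type*} [Group G] [MulAction G Ω] {g : ℕ → G} {pt : ℕ → Ω}
    (M : Md g pt H15.MM12.P 24 8 H15.MM12.B 95040) : gen (wds g cde_W) 3 ≤ gen (wds g H15.IC.M12.p2t_W) 6 :=
  M.gen_le (H15.IC.M12.p2t_act M) (cde_act M) wU_k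
theorem zW {G Ω : Type*} [Group G] [MulAction G Ω] {g : ℕ → G} {pt : ℕ → Ω}
    (M : Md g pt H15.MM12.P 24 8 H15.MM12.B 95040) : (wds g H15.IC.M12.c0ax_W) 0 = evA (wds g cde_W) [2, 2] ∧ (wds g H15.IC.M12.c0ax_W) 0 ∈ gen (wds g cde_W) 3 :=
  M.eqw (cde_act M) (H15.IC.M12.c0ax_act M) (by decide) zW_k
theorem f_act {G Ω : Type*} [Group G] [MulAction G Ω] {g : ℕ → G} {pt : ℕ → Ω}
    (M : Md g pt H15.MM12.P 24 8 H15.MM12.B 95040) : Act (wds g f_W) pt f_P 24 4 :=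
  M.wact f_lt
theorem f1 {G Ω : Type*} [Group G] [MulAction G Ω] {g : ℕ → G} {pt : ℕ → Ω}
    (M : Md g pt H15.MM12.P 24 8 H15.MM12.B 95040) : (wds g f_W) 1 ∈ Subgroup.normalizer (gen (wds g cde_W) 3 : Set G) :=
  M.norm (cde_act M) (f_act M) (by decide) f1_k
theorem f2 {G Ω : Type*} [Group G] [MulAction G Ω] {g : ℕ → G} {pt : ℕ → Ω}
    (M : Md g pt H15.MM12.P 24 8 H15.MM12.B 95040) : evA (wds g f_W) [0, 2] = evA (wds g f_W) [2, 0] :=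
  M.eq_of (f_act M) f2_k
theorem f3 {G Ω : Type*} [Group G] [MulAction G Ω] {g : ℕ → G} {pt : ℕ → Ω}
    (M : Md g pt H15.MM12.P 24 8 H15.MM12.B 95040) : evA (wds g f_W) [0, 1, 2, 1, 2, 1] = evA (wds g f_W) [1, 2, 1, 2, 1, 3] :=
  M.eq_of (f_act M) f3_k
theorem f4 {G Ω : Type*} [Group G] [MulAction G Ω] {g : ℕ → G} {pt : ℕ → Ω}
    (M : Md g pt H15.MM12.P 24 8 H15.MM12.B 95040) : evA (wds g f_W) [3, 0] ≠ evA (wds g f_W) [0, 3] :=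
  M.nrel (f_act M) _ f4_k
theorem kg {G Ω : Type*} [Group G] [MulAction G Ω] {g : ℕ → G} {pt : ℕ → Ω}
    (M : Md g pt H15.MM12.P 24 8 H15.MM12.B 95040) : H18.UB.KG G :=
  have := M.fin
  kg4 (f := (wds g f_W)) (L := [1, 2, 1, 2, 1]) (z0 M) (ivw M) (wU M) (zW M).2 (f1 M) (f2 M) (by decide) (f3 M) (f4 M)
theorem spor : H18.UB.KG Cfsg.Spor.M12 := by
  obtain ⟨_, g, M, -⟩ := H15.IC.M12.md (MulEquiv.subgroupCongr H15.MM12.gen_eq)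
  exact kg M

end H15.UB.M12
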